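import Cfsg.Agent.H816.MDeg
import Cfsg.Agent.H850.MonSub
import Cfsg.Agent.H678.DG.Basic
import Cfsg.Agent.Prune
set_option linter.all false
prune_inst 0x7f00000000000000000000000000000000000000000000000000000000000000000000000000000000000000000000000000000000000000000000000000000000000000000000000000000000000000003fffffffffffffffffffffffffffbeffbdffffffff
open scoped Cfsg.Agent.FastGrp

/-!
# Itô-Michler and the degree graph for the Monster (helper816)

* `exists_chi_N` : the Monster has an irreducible complex character of degree `N` for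
  `N = 1, 196883, 842609326, 18538750076, 36173193327999, 1109944460516150, 251098487132187500,
  49609712911192813665` (`11`-defect zero), `47377503606648784400` (`13`-defect zero), the degrees of the
  constituents of the permutation character on the `97239461142009186000` axes (on the involutions of class `2A`).
* `im_m` : the row `M` of the simple group core of the Itô-Michler theorem.
* `facts_m` : the degree graph of the Monster.
-/

set_option autoImplicit false

namespace Cfsg.Agent.H816.IMM

open Cfsg Cfsg.Agent.H33 Cfsg.Agent.MonsterX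

universe u

/-- A group isomorphic to the Monster is isomorphic to the group of the model. -/
theorem exists_equiv {S : Type u} [Group S] (h : Spor.IsoM S) : Nonempty (S ≃* ↥InstData.M.G) := by
  obtain ⟨e⟩ := h
  obtain ⟨e'⟩ := Cfsg.Agent.MonsterP.Equiv.equiv
  exact ⟨e.trans e'⟩

/-- Transport of a degree. -/
theorem transport {S : Type u} [Group S] (h : Spor.IsoM S) {n : ℂ}
    (hn : ∃ χ : ↥InstData.M.G → ℂ, IsIrrCharacter ↥InstData.M.G χ ∧ χ 1 = n) :
    ∃ χ : S → ℂ, IsIrrCharacter S χ ∧ χ 1 = n := by
  obtain ⟨e⟩ := exists_equiv h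
  obtain ⟨χ, h1, h2⟩ := hn
  exact ⟨χ ∘ e.toMonoidHom, Cfsg.Agent.Characters.Core.isIrr_comp e.toMonoidHom e.surjective h1, by
    show χ (e.toMonoidHom 1) = n
    rw [map_one, h2]⟩

theorem card_eq {S : Type u} [Group S] (h : Spor.IsoM S) :
    Nat.card S = 808017424794512875886459904961710757005754368000000000 := by
  obtain ⟨e⟩ := exists_equiv h
  rw [Nat.card_congr e.toEquiv, Cfsg.Agent.MonsterP.EquivOf.isM_model.2]

section degrees

variable {S : Type u} [Group S] (h : Spor.IsoM S)
include h

theorem exists_chi_1 : ∃ χ : S → ℂ, IsIrrCharacter S χ ∧ χ 1 = 1 :=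
  transport h MDeg.exists_chi_1

theorem exists_chi_196883 : ∃ χ : S → ℂ, IsIrrCharacter S χ ∧ χ 1 = 196883 :=
  transport h MDeg.exists_chi_196883

theorem exists_chi_842609326 : ∃ χ : S → ℂ, IsIrrCharacter S χ ∧ χ 1 = 842609326 :=
  transport h MDeg.exists_chi_842609326

theorem exists_chi_18538750076 : ∃ χ : S → ℂ, IsIrrCharacter S χ ∧ χ 1 = 18538750076 :=
  transport h MDeg.exists_chi_18538750076

theorem exists_chi_36173193327999 : ∃ χ : S → ℂ, IsIrrCharacter S χ ∧ χ 1 = 36173193327999 :=
  transport h MDeg.exists_chi_36173193327999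

theorem exists_chi_1109944460516150 : ∃ χ : S → ℂ, IsIrrCharacter S χ ∧ χ 1 = 1109944460516150 :=
  transport h MDeg.exists_chi_1109944460516150

theorem exists_chi_251098487132187500 : ∃ χ : S → ℂ, IsIrrCharacter S χ ∧ χ 1 = 251098487132187500 :=
  transport h MDeg.exists_chi_251098487132187500

theorem exists_chi_49609712911192813665 : ∃ χ : S → ℂ, IsIrrCharacter S χ ∧ χ 1 = 49609712911192813665 :=
  transport h MDeg.exists_chi_49609712911192813665

theorem exists_chi_47377503606648784400 : ∃ χ : S → ℂ, IsIrrCharacter S χ ∧ χ 1 = 47377503606648784400 :=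
  transport h MDeg.exists_chi_47377503606648784400

end degrees

/-- A divisor of a degree, from the degree. -/
theorem im_dvd {S : Type u} [Group S] {n : ℕ} {d : ℕ} (hd : d ∣ n)
    (hn : ∃ χ : S → ℂ, IsIrrCharacter S χ ∧ χ 1 = (n : ℂ)) : IM d S := by
  obtain ⟨χ, h1, h2⟩ := hn
  exact IM.of_apply_one h1 h2 hd

/-- The degrees divide degrees. -/
theorem im_deg {S : Type u} [Group S] (h : Spor.IsoM S) : ∀ d ∈
    ([196883, 842609326, 18538750076, 36173193327999, 1109944460516150, 251098487132187500,
      49609712911192813665, 47377503606648784400] : List ℕ), IM d S := by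
  intro d hd
  simp only [List.mem_cons, List.not_mem_nil, or_false] at hd
  rcases hd with rfl | rfl | rfl | rfl | rfl | rfl | rfl | rfl
  · exact im_dvd dvd_rfl (by simpa using exists_chi_196883 h)
  · exact im_dvd dvd_rfl (by simpa using exists_chi_842609326 h)
  · exact im_dvd dvd_rfl (by simpa using exists_chi_18538750076 h)
  · exact im_dvd dvd_rfl (by simpa using exists_chi_36173193327999 h)
  · exact im_dvd dvd_rfl (by simpa using exists_chi_1109944460516150 h)
  · exact im_dvd dvd_rfl (by simpa using exists_chi_251098487132187500 h)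
  · exact im_dvd dvd_rfl (by simpa using exists_chi_49609712911192813665 h)
  · exact im_dvd dvd_rfl (by simpa using exists_chi_47377503606648784400 h)

/-- The primes of the order. -/
theorem prime_mem {p : ℕ} (hp : p.Prime)
    (hd : p ∣ 808017424794512875886459904961710757005754368000000000) :
    p ∈ ([2, 3, 5, 7, 11, 13, 17, 19, 23, 29, 31, 41, 47, 59, 71] : List ℕ) := by
  have h1 : 808017424794512875886459904961710757005754368000000000 =
      2 ^ 46 * (3 ^ 20 * (5 ^ 9 * (7 ^ 6 * (11 ^ 2 * (13 ^ 3 * (17 * (19 * (23 * (29 * (31 * (41 * (47 *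
        (59 * 71))))))))))))) := by
    norm_num
  rw [h1] at hd
  have key : ∀ {a m : ℕ}, p ∣ a * m → (p ∣ a) ∨ (p ∣ m) := fun h => (Nat.Prime.dvd_mul hp).1 h
  have kp : ∀ {q k : ℕ}, q.Prime → p ∣ q ^ k → p = q := fun hq h =>
    (Nat.prime_dvd_prime_iff_eq hp hq).1 (hp.dvd_of_dvd_pow h)
  have kq : ∀ {q : ℕ}, q.Prime → p ∣ q → p = q := fun hq h => (Nat.prime_dvd_prime_iff_eq hp hq).1 h
  simp only [List.mem_cons, List.not_mem_nil, or_false]
  rcases key hd with h | hd
  · exact Or.inl (kp (by norm_num) h)
  right
  rcases key hd with h | hd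
  · exact Or.inl (kp (by norm_num) h)
  right
  rcases key hd with h | hd
  · exact Or.inl (kp (by norm_num) h)
  right
  rcases key hd with h | hd
  · exact Or.inl (kp (by norm_num) h)
  right
  rcases key hd with h | hd
  · exact Or.inl (kp (by norm_num) h)
  right
  rcases key hd with h | hd
  · exact Or.inl (kp (by norm_num) h)
  right
  rcases key hd with h | hd
  · exact Or.inl (kq (by norm_num) h)
  right
  rcases key hd with h | hd
  · exact Or.inl (kq (by norm_num) h)
  right
  rcases key hd with h | hd
  · exact Or.inl (kq (by norm_num) h)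
  right
  rcases key hd with h | hd
  · exact Or.inl (kq (by norm_num) h)
  right
  rcases key hd with h | hd
  · exact Or.inl (kq (by norm_num) h)
  right
  rcases key hd with h | hd
  · exact Or.inl (kq (by norm_num) h)
  right
  rcases key hd with h | hd
  · exact Or.inl (kq (by norm_num) h)
  right
  rcases key hd with h | hd
  · exact Or.inl (kq (by norm_num) h)
  exact Or.inr (kq (by norm_num) hd)

/-- **The row `M` of the Itô-Michler theorem.** -/
theorem im_m {S : Type u} [Group S] (h : Spor.IsoM S) {p : ℕ} [hp : Fact p.Prime]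
    (hd : p ∣ Nat.card S) : IM p S := by
  rw [card_eq h] at hd
  have h1 := prime_mem hp.out hd
  clear hd
  simp only [List.mem_cons, List.not_mem_nil, or_false] at h1
  have hA : ∀ {d : ℕ}, d ∣ 196883 → IM d S := fun hd =>
    im_dvd hd (by simpa using exists_chi_196883 h)
  have hB : ∀ {d : ℕ}, d ∣ 842609326 → IM d S := fun hd =>
    im_dvd hd (by simpa using exists_chi_842609326 h)
  have hC : ∀ {d : ℕ}, d ∣ 18538750076 → IM d S := fun hd =>
    im_dvd hd (by simpa using exists_chi_18538750076 h)
  have hD : ∀ {d : ℕ}, d ∣ 36173193327999 → IM d S := fun hd =>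
    im_dvd hd (by simpa using exists_chi_36173193327999 h)
  have hE : ∀ {d : ℕ}, d ∣ 1109944460516150 → IM d S := fun hd =>
    im_dvd hd (by simpa using exists_chi_1109944460516150 h)
  rcases h1 with rfl | rfl | rfl | rfl | rfl | rfl | rfl | rfl | rfl | rfl | rfl | rfl | rfl | rfl | rfl
  · exact hB (by norm_num)
  · exact hD (by norm_num)
  · exact hE (by norm_num)
  · exact hC (by norm_num)
  · exact hC (by norm_num)
  · exact hB (by norm_num)
  · exact hD (by norm_num)
  · exact hD (by norm_num)
  · exact hC (by norm_num)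
  · exact hB (by norm_num)
  · exact hB (by norm_num)
  · exact hC (by norm_num)
  · exact hA (by norm_num)
  · exact hA (by norm_num)
  · exact hA (by norm_num)

/-- **The degree graph of the Monster.** -/
theorem facts_m {S : Type u} [Group S] (h : Spor.IsoM S) : Cfsg.Agent.H678.DG.Facts S := by
  have hcard := card_eq h
  have : Finite S := Nat.finite_of_card_ne_zero (by rw [hcard]; norm_num)
  refine Cfsg.Agent.H678.DG.Facts.of_list
    (P := [2, 3, 5, 7, 11, 13, 17, 19, 23, 29, 31, 41, 47, 59, 71]) ?_ (by decide) ?_ (im_deg h)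
    (by decide +kernel)
  · intro p hp
    simp only [List.mem_cons, List.not_mem_nil, or_false] at hp
    rcases hp with rfl | rfl | rfl | rfl | rfl | rfl | rfl | rfl | rfl | rfl | rfl | rfl | rfl | rfl | rfl <;> norm_num
  · intro p hpm
    obtain ⟨hpp, χ, hχ⟩ := Cfsg.Agent.H671.H5.mem_degreePrimes.1 hpm
    refine prime_mem hpp (hcard ▸ dvd_trans hχ (Cfsg.Agent.Blocks.Knorr.charDegree_dvd χ.2))

end Cfsg.Agent.H816.IMM
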