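import Cfsg.Agent.MonsterX.ProgEqBase_m3
import Cfsg.Agent.Monster.PlaneArith
import Cfsg.Agent.MonsterX.CertTab_m3
import Cfsg.Agent.MonsterX.Frames.J8D_m3
import Cfsg.Agent.MonsterU.Uncond
import Cfsg.Agent.Lib.ListFast
import Cfsg.Agent.MonsterX.LaneCount_m3
import Cfsg.Agent.MonsterX.KDone
import Cfsg.Agent.MonsterX.CertLine_mg
import Mathlib
import Cfsg.Agent.H436.Krein_m3
import Cfsg.Agent.FastGrp
import Cfsg.Agent.Prune
set_option linter.all false

section
prune_inst 0x7f00000000000000000000000000000000000000000000000000000000000000000000000000000000000000000000000000000000000000000000000000000000000000000000000000000000000000003fffffffffffffffffffffffffffbeffbdfbbeffff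

-- part: H816/MTab
section
set_option linter.all false
open scoped Cfsg.Agent.FastGrp

-- part: H816/MRun
section
/-!
# Kernel checks of quadratic invariants of vectors of the Monster model (helper816)

`mass m v` : the sum of the squares of the coordinates of `v` in the lanes of the mask `m`; for a
diagonal involution `D` with the mask `m` of its negative lanes `F v (D v) = F v v - 2 * mass m v`.
`chk n w c₀ c₁ l` : the kernel check of the values `2 ^ n * F a₀ v`, `2 ^ n * F a₁ v` and of the
masses `4 ^ n * mass m v`, `(m, c) ∈ l`, for `v = W w a₀`.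
-/

set_option autoImplicit false
set_option maxRecDepth 100000

namespace Cfsg.Agent.H816.MRun

open Cfsg.Agent.Monster.VecEngine Cfsg.Agent.Monster.VecSpace Cfsg.Agent.Monster.PlaneArith
open Cfsg.Agent.MonsterX.Space Cfsg.Agent.MonsterX.ProgTable Cfsg.Agent.MonsterX.GensT
open Cfsg.Agent.MonsterX.ProgBase Cfsg.Agent.MonsterX.Conc Cfsg.Agent.MonsterX.Model
open Cfsg.Agent.MonsterX.InstData Cfsg.Agent.MonsterX.InstEval

/-- The sum of the squares of the coordinates in the lanes of a mask. -/
noncomputable def mass (m : ℕ) (v : V) : ℚ :=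
  ∑ i : Lane U, if m.testBit i.1 = true then v.1 i * v.1 i else 0

/-- A diagonal involution. -/
theorem F_diag {m : ℕ} {v w : V}
    (h : ∀ i : Lane U, w.1 i = if m.testBit i.1 = true then - v.1 i else v.1 i) :
    F v w = F v v - 2 * mass m v := by
  rw [F_sum, F_sum, mass, Finset.mul_sum, ← Finset.sum_sub_distrib]
  refine Finset.sum_congr rfl fun i _ => ?_
  rw [h i]
  split_ifs <;> ring

theorem F_z (v : V) : F v (z v) = F v v - 2 * mass Cfsg.Agent.MonsterX.ProgZ.hiM v :=
  F_diag fun i => z_apply v i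

theorem F_σ (v : V) : F v (σ v) = F v v - 2 * mass sigM v := F_diag fun i => σ_apply v i

/-- The mask of the negative lanes of `t₀`. -/
noncomputable def mt0 : ℕ := Nat.xor Cfsg.Agent.MonsterX.ProgD.m2 Cfsg.Agent.MonsterX.ProgD.m3

/-- The mask of the negative lanes of `z t₀`. -/
noncomputable def mt1 : ℕ := Nat.xor mt0 Cfsg.Agent.MonsterX.ProgZ.hiM

theorem E13_apply (v : V) (i : Lane U) : (E 13 v : Lane U → ℚ) i =
    if Cfsg.Agent.MonsterX.ProgD.m2.testBit i.1 = true then - v.1 i else v.1 i := by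
  rw [E_coe]
  show semU ℚ U Cfsg.Agent.MonsterX.ProgD.xd1 v.1 i = _
  show (if Cfsg.Agent.MonsterX.ProgD.m2.testBit i.1 = true then - ext ℚ U v.1 i.1 else ext ℚ U v.1 i.1) = _
  rw [ext_coe]

theorem E14_apply (v : V) (i : Lane U) : (E 14 v : Lane U → ℚ) i =
    if Cfsg.Agent.MonsterX.ProgD.m3.testBit i.1 = true then - v.1 i else v.1 i := by
  rw [E_coe]
  show semU ℚ U Cfsg.Agent.MonsterX.ProgD.xd2 v.1 i = _
  show (if Cfsg.Agent.MonsterX.ProgD.m3.testBit i.1 = true then - ext ℚ U v.1 i.1 else ext ℚ U v.1 i.1) = _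
  rw [ext_coe]

theorem t₀_apply (v : V) (i : Lane U) : (t₀ v : Lane U → ℚ) i =
    if mt0.testBit i.1 = true then - v.1 i else v.1 i := by
  have h : t₀ v = E 14 (E 13 v) := by
    show W [13, 14] v = _
    rw [W_cons, W_single]
    rfl
  rw [h, E14_apply]
  show (if _ then - (E 13 v : Lane U → ℚ) i else (E 13 v : Lane U → ℚ) i) = _
  rw [E13_apply]
  show _ = if (Cfsg.Agent.MonsterX.ProgD.m2 ^^^ Cfsg.Agent.MonsterX.ProgD.m3).testBit i.1 = true then _ else _
  rw [Nat.testBit_xor]
  cases Cfsg.Agent.MonsterX.ProgD.m2.testBit i.1 <;> cases Cfsg.Agent.MonsterX.ProgD.m3.testBit i.1 <;> simp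

theorem F_t₀ (v : V) : F v (t₀ v) = F v v - 2 * mass mt0 v := F_diag fun i => t₀_apply v i

theorem F_t₁ (v : V) : F v (z (t₀ v)) = F v v - 2 * mass mt1 v := by
  refine F_diag fun i => ?_
  show (z (t₀ v) : Lane U → ℚ) i = _
  rw [z_apply]
  show (if _ then - (t₀ v : Lane U → ℚ) i else (t₀ v : Lane U → ℚ) i) = _
  rw [t₀_apply]
  show _ = if (mt0 ^^^ Cfsg.Agent.MonsterX.ProgZ.hiM).testBit i.1 = true then _ else _
  rw [Nat.testBit_xor]
  cases mt0.testBit i.1 <;> cases Cfsg.Agent.MonsterX.ProgZ.hiM.testBit i.1 <;> simp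

/-! ### The checks -/

/-- The kernel check of a mass. -/
noncomputable def massIs (m c : ℕ) (y : Pl) : Bool :=
  and (Nat.ble (Nat.succ c) 16777216) (sumIs 18 24 c (mul (msk (Nat.land m U) y) y))

theorem massIs_sound {n m c : ℕ} {y : Pl} {v : V} (hy : ∀ i : Lane U, (2 : ℚ) ^ n * v.1 i = ((val y i.1 : ℤ) : ℚ))
    (h : massIs m c y = true) : mass m v = (c : ℚ) / 4 ^ n := by
  unfold massIs at h
  rw [Bool.and_eq_true] at h
  have hc : c < 2 ^ 24 := by
    have := Nat.le_of_ble_eq_true h.1
    norm_num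
    omega
  have h1 := sumIs_sound hc h.2
  have h2 : ∑ i ∈ Finset.range (2 ^ 18), val (mul (msk (Nat.land m U) y) y) i =
      ∑ i ∈ Finset.range (2 ^ 18), if U.testBit i then (if m.testBit i then val y i * val y i else 0) else 0 := by
    refine Finset.sum_congr rfl fun i _ => ?_
    rw [val_mul, val_msk]
    show (if (m &&& U).testBit i = true then _ else _) * _ = _
    rw [Nat.testBit_and]
    cases m.testBit i <;> cases U.testBit i <;> simp
  rw [h2, ← sum_lane Cfsg.Agent.MonsterX.Space.U_lt (fun i => if m.testBit i then val y i * val y i else 0)] at h1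
  rw [eq_div_iff (pow_ne_zero n (by norm_num)), mass]
  have h3 : ((c : ℤ) : ℚ) = (c : ℚ) := by push_cast; rfl
  rw [← h3, ← h1, Finset.sum_mul]
  push_cast
  refine Finset.sum_congr rfl fun i _ => ?_
  split_ifs with h4
  · have h5 := hy i
    rw [← h5]
    have h6 : (4 : ℚ) ^ n = 2 ^ n * 2 ^ n := by rw [← mul_pow]; norm_num
    rw [h6]
    ring
  · rw [zero_mul]

/-- The kernel check of a list of masses. -/
noncomputable def massesAre (y : Pl) (l : List (ℕ × ℕ)) : Bool :=
  List.rec (motive := fun _ => Bool) true (fun t _ ih => and (massIs t.1 t.2 y) ih) l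

theorem massesAre_spec {y : Pl} {l : List (ℕ × ℕ)} (h : massesAre y l = true) :
    ∀ t ∈ l, massIs t.1 t.2 y = true := by
  induction l with
  | nil => simp
  | cons t l ih =>
    have h' : and (massIs t.1 t.2 y) (massesAre y l) = true := h
    rw [Bool.and_eq_true] at h'
    intro s hs
    rcases List.mem_cons.1 hs with rfl | hs
    · exact h'.1
    · exact ih h'.2 s hs

/-- **The kernel check** of the values at `a₀`, `a₁` and of the masses of `W w a₀`. -/
noncomputable def chk (n : ℕ) (w : List ℕ) (c c' : ℤ) (l : List (ℕ × ℕ)) : Bool :=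
  Monster.VecFast.runLF (w.map prog) (up n a0B) fun y =>
    and (and (decide (val y 61440 + val y 61473 - 2 * val y 61441 + 2 * val y 62465 = c))
      (decide (val y 61440 + val y 61473 - 2 * val y 61441 - 2 * val y 62465 = c'))) (massesAre y l)

theorem chk_sound {n : ℕ} {w : List ℕ} {c c' : ℤ} {l : List (ℕ × ℕ)} (h : chk n w c c' l = true) :
    F (vecV a0B) (W w (vecV a0B)) = (c : ℚ) / 2 ^ n ∧ F (vecV a1B) (W w (vecV a0B)) = (c' : ℚ) / 2 ^ n ∧
      ∀ t ∈ l, mass t.1 (W w (vecV a0B)) = (t.2 : ℚ) / 4 ^ n := by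
  obtain ⟨y, hy, hk⟩ := run_coe sym_a0B (Monster.VecFast.runL_of h)
  rw [Bool.and_eq_true, Bool.and_eq_true] at hk
  have h1 := of_decide_eq_true hk.1.1
  have h2 := of_decide_eq_true hk.1.2
  have h3 : ((2 : ℚ) ^ n) ≠ 0 := pow_ne_zero n two_ne_zero
  have g0 := hy l00
  have g1 := hy l11
  have g2 := hy l01
  have g3 := hy lE
  refine ⟨?_, ?_, fun t ht => massIs_sound hy (massesAre_spec hk.2 t ht)⟩
  · rw [F_a₀, eq_div_iff h3, ← h1]
    push_cast
    rw [← show ((val y l00.1 : ℤ) : ℚ) = ((val y 61440 : ℤ) : ℚ) from rfl,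
      ← show ((val y l11.1 : ℤ) : ℚ) = ((val y 61473 : ℤ) : ℚ) from rfl,
      ← show ((val y l01.1 : ℤ) : ℚ) = ((val y 61441 : ℤ) : ℚ) from rfl,
      ← show ((val y lE.1 : ℤ) : ℚ) = ((val y 62465 : ℤ) : ℚ) from rfl, ← g0, ← g1, ← g2, ← g3]
    ring
  · rw [F_a₁, eq_div_iff h3, ← h2]
    push_cast
    rw [← show ((val y l00.1 : ℤ) : ℚ) = ((val y 61440 : ℤ) : ℚ) from rfl,
      ← show ((val y l11.1 : ℤ) : ℚ) = ((val y 61473 : ℤ) : ℚ) from rfl,
      ← show ((val y l01.1 : ℤ) : ℚ) = ((val y 61441 : ℤ) : ℚ) from rfl,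
      ← show ((val y lE.1 : ℤ) : ℚ) = ((val y 62465 : ℤ) : ℚ) from rfl, ← g0, ← g1, ← g2, ← g3]
    ring

end Cfsg.Agent.H816.MRun
end

-- part: H816/MTab
section
/-!
# The representatives of the pairs of axes of the Monster: tables and certificates (helper816)

`Ent` : the representatives `(j, m, b)` of the pairs `(a₀, y)`; `hT`, `sT` : the masses of `d j` in
the `98304`-part and in the `98280`-part, times `65536`; `pT` : for the values `4 / 32` the type of
the pair: `1` for `3C`, `2` for `4B`.
-/

set_option autoImplicit false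

namespace Cfsg.Agent.H816.MTab

open Cfsg.Agent.MonsterX Cfsg.Agent.MonsterX.InstData Cfsg.Agent.MonsterX.PairValTab Cfsg.Agent.MonsterX.CertUTab
open Cfsg.Agent.H816.MRun

/-- The representatives. -/
abbrev Ent := ℕ × ℕ × Bool

/-- The masses in the `98304`-part. -/
def hT : List ℕ := [0, 0, 262144, 229376, 262144, 248832, 248832, 258048, 253952, 256000, 256000, 257024]

/-- The masses in the `98280`-part. -/
def sT : List ℕ := [262144, 491520, 235520, 280064, 249856, 259552, 263136, 254976, 258304, 255744, 256640, 255584]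

/-- The types of the pairs with value `4 / 32`. -/
def pT : List (List (ℕ × ℕ)) := [
  [(0, 0), (0, 0), (0, 0), (0, 0)],
  [(0, 0), (0, 0), (0, 0), (2, 2)],
  [(0, 0), (0, 0), (2, 2), (0, 0), (0, 0), (0, 0)],
  [(0, 2), (0, 2), (0, 0), (0, 2), (2, 2), (0, 2), (0, 0), (0, 0), (0, 0), (0, 0)],
  [(0, 0), (0, 2), (2, 2), (0, 0), (0, 0), (0, 0), (1, 1)],
  [(0, 0), (0, 0), (2, 0), (0, 0), (0, 0), (0, 0), (0, 0), (0, 0), (0, 0)],
  [(0, 0), (2, 0), (0, 2), (0, 2), (0, 0), (0, 0), (0, 0), (0, 0), (0, 0), (0, 0), (2, 2)],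
  [(0, 0), (0, 1), (0, 0), (2, 1), (0, 0)],
  [(2, 0), (0, 0), (0, 0), (0, 0), (2, 2), (0, 0), (0, 2), (0, 0), (0, 0), (0, 0), (0, 0), (0, 0), (0, 0), (0, 0)],
  [(0, 0), (0, 0), (0, 0), (0, 0), (2, 0), (0, 0), (0, 2), (0, 0), (0, 0), (0, 0), (0, 0), (0, 0)],
  [(0, 2), (2, 0), (0, 0), (0, 0), (0, 0), (0, 0), (2, 0), (0, 0), (0, 0), (0, 0), (0, 0), (1, 0)],
  [(2, 0), (0, 0), (0, 0), (0, 0), (0, 0), (0, 0), (0, 0), (0, 0), (2, 0), (0, 2), (0, 0), (0, 2), (0, 0), (0, 0), (0, 0), (0, 0), (1, 0), (0, 0), (0, 0), (0, 0), (0, 0)]]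

/-- `256 F(a₀, y)` -/
def v0 (e : Ent) : ℤ := match e.2.2 with
  | true => (vs e.1 e.2.1).2
  | false => (vs e.1 e.2.1).1

/-- `256 F(a₁, y)` -/
def v1 (e : Ent) : ℤ := match e.2.2 with
  | true => (vs e.1 e.2.1).1
  | false => (vs e.1 e.2.1).2

/-- The type of `(a₁, y)`. -/
def p1 (e : Ent) : ℕ := match e.2.2 with
  | true => ((pT.getD e.1 []).getD e.2.1 (0, 0)).1
  | false => ((pT.getD e.1 []).getD e.2.1 (0, 0)).2

/-- The mass of a type. -/
def pm (p : ℕ) : ℕ := match p with
  | 1 => 258048
  | _ => 229376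

/-- The word of a representative. -/
noncomputable def wd (e : Ent) : List ℕ := bj e.1 ++ (uw e.1 e.2.1 ++ match e.2.2 with
  | true => [1]
  | false => [])

/-- The list of masses to be checked for the class `j` and the type `p`. -/
noncomputable def ml (j p : ℕ) : List (ℕ × ℕ) :=
  (ProgZ.hiM, hT.getD j 0) :: (sigM, sT.getD j 0) :: match p with
  | 0 => []
  | p + 1 => [(mt1, pm (p + 1))]

/-- **The kernel check** of a certificate: `h` moves the representative `e` to `e'`. -/
noncomputable def cer (e : Ent) (h : List ℕ) (e' : Ent) : Bool :=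
  chk 8 (wd e ++ h) (v0 e') (v1 e') (ml e'.1 (p1 e'))

/-- The kernel check of the masses of `d j`. -/
noncomputable def clsC (j : ℕ) (c c' : ℤ) : Bool := chk 8 (bj j) c c' (ml j 0)

/-- The kernel check of the types of a representative. -/
noncomputable def typC (j m : ℕ) (l : List (ℕ × ℕ)) : Bool :=
  chk 8 (bj j ++ uw j m) (vs j m).1 (vs j m).2 l

end Cfsg.Agent.H816.MTab
end

private theorem dce_cb41e0b4c118 : _root_.True := by
  try have : _root_.True := by simp only [_root_.Cfsg.Agent.H816.MRun.mass.eq_1]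
  exact _root_.True.intro
end

-- part: H816/MCer1_mg
section
set_option linter.all false

-- part: H816/MCer1
section
/-!
# Kernel checks: certificates of the transitivity on pairs of axes, part 1 (helper816)
-/

set_option autoImplicit false
set_option maxRecDepth 100000
set_option Elab.async false

namespace Cfsg.Agent.H816.MCer1

open Cfsg.Agent.H816.MTab

theorem c0 : cer (2, 3, false) [36, 39, 42, 40, 39, 41] (5, 3, true) = true := by decide +kernel

theorem c1 : cer (2, 3, true) [36, 39, 42, 40, 39, 41] (5, 3, true) = true := by decide +kernel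

theorem c2 : cer (8, 3, false) [5, 39, 41, 36, 39, 42, 19, 40, 39, 41] (5, 3, true) = true := by decide +kernel

theorem c3 : cer (8, 0, true) [41, 23, 25, 39, 42, 42, 25, 40, 36, 39, 42, 41, 3, 39, 40, 40] (5, 3, true) = true := by decide +kernel

theorem c4 : cer (5, 1, false) [39, 40] (8, 0, true) = true := by decide +kernel

theorem c5 : cer (5, 8, false) [36, 39, 42, 41] (8, 0, true) = true := by decide +kernel

theorem c6 : cer (5, 8, true) [36, 39, 42, 41] (8, 0, true) = true := by decide +kernel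

theorem c7 : cer (9, 1, true) [40, 36, 39, 42, 41] (8, 0, true) = true := by decide +kernel

theorem c8 : cer (8, 13, false) [39, 41] (9, 1, true) = true := by decide +kernel

theorem c9 : cer (10, 2, false) [39, 41] (9, 1, true) = true := by decide +kernel

theorem c10 : cer (11, 19, false) [40] (10, 2, false) = true := by decide +kernel

theorem c11 : cer (11, 18, false) [41] (11, 19, false) = true := by decide +kernel

theorem c12 : cer (9, 11, false) [39, 40] (11, 19, false) = true := by decide +kernel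

theorem c13 : cer (9, 11, true) [39, 40] (11, 19, false) = true := by decide +kernel

theorem c14 : cer (11, 1, false) [39, 40] (11, 19, false) = true := by decide +kernel

theorem c15 : cer (11, 7, false) [36, 39, 42, 40] (9, 1, true) = true := by decide +kernel

theorem c16 : cer (6, 0, true) [36, 39, 42, 40, 39, 40] (9, 1, true) = true := by decide +kernel

theorem c17 : cer (8, 3, true) [39, 40, 36, 39, 42, 40] (9, 1, true) = true := by decide +kernel

theorem c18 : cer (7, 1, false) [36, 39, 42, 41, 39, 40] (10, 2, false) = true := by decide +kernel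

theorem c19 : cer (8, 10, false) [39, 40, 36, 39, 42, 41] (10, 2, false) = true := by decide +kernel

theorem c20 : cer (10, 5, false) [39, 40, 36, 39, 42, 40] (10, 2, false) = true := by decide +kernel

theorem c21 : cer (4, 1, false) [36, 39, 42, 41, 39, 40] (10, 5, false) = true := by decide +kernel

theorem c22 : cer (3, 1, false) [39, 41] (4, 1, false) = true := by decide +kernel

theorem c23 : cer (3, 2, false) [39, 41] (4, 1, false) = true := by decide +kernel

theorem c24 : cer (3, 2, true) [39, 41] (4, 1, false) = true := by decide +kernel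

/-- The certificates of this file. -/
def L : List (Ent × List ℕ × Ent) := [
  ((2, 3, false), [36, 39, 42, 40, 39, 41], (5, 3, true)),
  ((2, 3, true), [36, 39, 42, 40, 39, 41], (5, 3, true)),
  ((8, 3, false), [5, 39, 41, 36, 39, 42, 19, 40, 39, 41], (5, 3, true)),
  ((8, 0, true), [41, 23, 25, 39, 42, 42, 25, 40, 36, 39, 42, 41, 3, 39, 40, 40], (5, 3, true)),
  ((5, 1, false), [39, 40], (8, 0, true)),
  ((5, 8, false), [36, 39, 42, 41], (8, 0, true)),
  ((5, 8, true), [36, 39, 42, 41], (8, 0, true)),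
  ((9, 1, true), [40, 36, 39, 42, 41], (8, 0, true)),
  ((8, 13, false), [39, 41], (9, 1, true)),
  ((10, 2, false), [39, 41], (9, 1, true)),
  ((11, 19, false), [40], (10, 2, false)),
  ((11, 18, false), [41], (11, 19, false)),
  ((9, 11, false), [39, 40], (11, 19, false)),
  ((9, 11, true), [39, 40], (11, 19, false)),
  ((11, 1, false), [39, 40], (11, 19, false)),
  ((11, 7, false), [36, 39, 42, 40], (9, 1, true)),
  ((6, 0, true), [36, 39, 42, 40, 39, 40], (9, 1, true)),
  ((8, 3, true), [39, 40, 36, 39, 42, 40], (9, 1, true)),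
  ((7, 1, false), [36, 39, 42, 41, 39, 40], (10, 2, false)),
  ((8, 10, false), [39, 40, 36, 39, 42, 41], (10, 2, false)),
  ((10, 5, false), [39, 40, 36, 39, 42, 40], (10, 2, false)),
  ((4, 1, false), [36, 39, 42, 41, 39, 40], (10, 5, false)),
  ((3, 1, false), [39, 41], (4, 1, false)),
  ((3, 2, false), [39, 41], (4, 1, false)),
  ((3, 2, true), [39, 41], (4, 1, false))]

theorem ok : ∀ r ∈ L, cer r.1 r.2.1 r.2.2 = true := by
  simp only [L, List.forall_mem_cons, List.not_mem_nil, false_imp_iff, implies_true, and_true]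
  exact ⟨c0, c1, c2, c3, c4, c5, c6, c7, c8, c9, c10, c11, c12, c13, c14, c15, c16, c17, c18, c19, c20, c21, c22, c23, c24⟩

end Cfsg.Agent.H816.MCer1
end

-- part: H816/MCer4
section
/-!
# Kernel checks: certificates of the transitivity on pairs of axes, part 4 (helper816)
-/

set_option autoImplicit false
set_option maxRecDepth 100000
set_option Elab.async false

namespace Cfsg.Agent.H816.MCer4

open Cfsg.Agent.H816.MTab

theorem c0 : cer (5, 6, false) [39, 41] (6, 8, false) = true := by decide +kernel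

theorem c1 : cer (5, 6, true) [39, 40] (6, 8, false) = true := by decide +kernel

theorem c2 : cer (10, 4, true) [39, 40] (6, 8, false) = true := by decide +kernel

theorem c3 : cer (11, 2, false) [36, 39, 42, 40] (9, 1, false) = true := by decide +kernel

theorem c4 : cer (11, 2, true) [36, 39, 42, 41] (9, 6, false) = true := by decide +kernel

theorem c5 : cer (10, 9, false) [36, 39, 42, 40] (9, 2, false) = true := by decide +kernel

theorem c6 : cer (10, 9, true) [36, 39, 42, 41] (9, 2, false) = true := by decide +kernel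

theorem c7 : cer (8, 9, false) [36, 39, 42, 41] (6, 8, false) = true := by decide +kernel

theorem c8 : cer (10, 0, false) [36, 39, 42, 40] (11, 11, false) = true := by decide +kernel

theorem c9 : cer (3, 6, false) [40, 36, 39, 42, 41] (11, 11, false) = true := by decide +kernel

theorem c10 : cer (3, 6, true) [41, 36, 39, 42, 40] (11, 11, false) = true := by decide +kernel

theorem c11 : cer (6, 7, false) [36, 39, 42, 41, 39, 40] (9, 2, false) = true := by decide +kernel

theorem c12 : cer (6, 7, true) [36, 39, 42, 41, 39, 40] (9, 2, false) = true := by decide +kernel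

theorem c13 : cer (10, 5, true) [39, 40, 36, 39, 42, 40] (9, 2, false) = true := by decide +kernel

theorem c14 : cer (10, 6, true) [25, 39, 42, 42, 25, 41] (10, 5, true) = true := by decide +kernel

theorem c15 : cer (11, 19, true) [3, 25, 39, 42, 42, 25, 41, 39, 40] (11, 11, false) = true := by decide +kernel

theorem c16 : cer (11, 3, true) [39, 40] (11, 19, true) = true := by decide +kernel

theorem c17 : cer (8, 9, true) [36, 39, 42, 41, 39, 40] (11, 19, true) = true := by decide +kernel

theorem c18 : cer (4, 5, false) [41, 39, 40, 36, 39, 42, 41] (11, 19, true) = true := by decide +kernel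

theorem c19 : cer (11, 15, true) [41, 36, 39, 42, 41, 39, 40] (11, 19, true) = true := by decide +kernel

theorem c20 : cer (11, 15, false) [41, 18, 39, 41, 36, 39, 42, 41] (8, 13, true) = true := by decide +kernel

theorem c21 : cer (7, 2, false) [41, 14, 39, 41, 36, 39, 42, 41] (11, 11, false) = true := by decide +kernel

theorem c22 : cer (7, 2, true) [41, 13, 36, 39, 42, 40, 6, 39, 41] (11, 11, false) = true := by decide +kernel

theorem c23 : cer (4, 5, true) [40, 25, 39, 42, 42, 25, 41, 39, 40] (9, 2, false) = true := by decide +kernel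

theorem c24 : cer (10, 8, false) [41, 25, 39, 42, 42, 25, 17, 40, 36, 39, 42, 40] (8, 13, true) = true := by decide +kernel

/-- The certificates of this file. -/
def L : List (Ent × List ℕ × Ent) := [
  ((5, 6, false), [39, 41], (6, 8, false)),
  ((5, 6, true), [39, 40], (6, 8, false)),
  ((10, 4, true), [39, 40], (6, 8, false)),
  ((11, 2, false), [36, 39, 42, 40], (9, 1, false)),
  ((11, 2, true), [36, 39, 42, 41], (9, 6, false)),
  ((10, 9, false), [36, 39, 42, 40], (9, 2, false)),
  ((10, 9, true), [36, 39, 42, 41], (9, 2, false)),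
  ((8, 9, false), [36, 39, 42, 41], (6, 8, false)),
  ((10, 0, false), [36, 39, 42, 40], (11, 11, false)),
  ((3, 6, false), [40, 36, 39, 42, 41], (11, 11, false)),
  ((3, 6, true), [41, 36, 39, 42, 40], (11, 11, false)),
  ((6, 7, false), [36, 39, 42, 41, 39, 40], (9, 2, false)),
  ((6, 7, true), [36, 39, 42, 41, 39, 40], (9, 2, false)),
  ((10, 5, true), [39, 40, 36, 39, 42, 40], (9, 2, false)),
  ((10, 6, true), [25, 39, 42, 42, 25, 41], (10, 5, true)),
  ((11, 19, true), [3, 25, 39, 42, 42, 25, 41, 39, 40], (11, 11, false)),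
  ((11, 3, true), [39, 40], (11, 19, true)),
  ((8, 9, true), [36, 39, 42, 41, 39, 40], (11, 19, true)),
  ((4, 5, false), [41, 39, 40, 36, 39, 42, 41], (11, 19, true)),
  ((11, 15, true), [41, 36, 39, 42, 41, 39, 40], (11, 19, true)),
  ((11, 15, false), [41, 18, 39, 41, 36, 39, 42, 41], (8, 13, true)),
  ((7, 2, false), [41, 14, 39, 41, 36, 39, 42, 41], (11, 11, false)),
  ((7, 2, true), [41, 13, 36, 39, 42, 40, 6, 39, 41], (11, 11, false)),
  ((4, 5, true), [40, 25, 39, 42, 42, 25, 41, 39, 40], (9, 2, false)),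
  ((10, 8, false), [41, 25, 39, 42, 42, 25, 17, 40, 36, 39, 42, 40], (8, 13, true))]

theorem ok : ∀ r ∈ L, cer r.1 r.2.1 r.2.2 = true := by
  simp only [L, List.forall_mem_cons, List.not_mem_nil, false_imp_iff, implies_true, and_true]
  exact ⟨c0, c1, c2, c3, c4, c5, c6, c7, c8, c9, c10, c11, c12, c13, c14, c15, c16, c17, c18, c19, c20, c21, c22, c23, c24⟩

end Cfsg.Agent.H816.MCer4
end

-- part: H816/MCer6
section
/-!
# Kernel checks: certificates of the transitivity on pairs of axes, part 6 (helper816)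
-/

set_option autoImplicit false
set_option maxRecDepth 100000
set_option Elab.async false

namespace Cfsg.Agent.H816.MCer6

open Cfsg.Agent.H816.MTab

theorem c0 : cer (3, 9, false) [39, 40, 36, 39, 42, 41] (9, 2, true) = true := by decide +kernel

theorem c1 : cer (2, 4, false) [41] (3, 9, false) = true := by decide +kernel

theorem c2 : cer (2, 4, true) [41] (3, 9, false) = true := by decide +kernel

theorem c3 : cer (6, 4, true) [36, 39, 42, 40] (3, 9, false) = true := by decide +kernel

theorem c4 : cer (6, 5, true) [39, 40, 36, 39, 42, 40] (9, 2, true) = true := by decide +kernel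

theorem c5 : cer (11, 9, false) [39, 10, 41, 36, 39, 42, 40] (6, 8, true) = true := by decide +kernel

theorem c6 : cer (6, 6, true) [25, 39, 42, 42, 25, 40, 39, 41] (8, 6, false) = true := by decide +kernel

theorem c7 : cer (8, 10, true) [25, 39, 42, 42, 25, 40, 39, 41] (9, 2, true) = true := by decide +kernel

theorem c8 : cer (9, 4, true) [25, 39, 42, 42, 25, 41, 39, 40] (6, 8, true) = true := by decide +kernel

theorem c9 : cer (9, 0, true) [39, 40] (9, 4, true) = true := by decide +kernel

theorem c10 : cer (3, 8, false) [39, 41] (9, 0, true) = true := by decide +kernel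

theorem c11 : cer (3, 8, true) [39, 40] (9, 0, true) = true := by decide +kernel

theorem c12 : cer (11, 5, true) [36, 39, 42, 41] (9, 4, true) = true := by decide +kernel

theorem c13 : cer (6, 6, false) [22, 25, 39, 42, 42, 25, 40, 39, 41] (8, 6, false) = true := by decide +kernel

theorem c14 : cer (4, 4, true) [41, 39, 41, 36, 39, 42, 41] (9, 2, true) = true := by decide +kernel

theorem c15 : cer (5, 4, false) [40, 39, 41, 36, 39, 42, 40] (3, 9, false) = true := by decide +kernel

theorem c16 : cer (10, 8, true) [41, 36, 39, 42, 41, 39, 41] (8, 10, true) = true := by decide +kernel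

theorem c17 : cer (3, 7, true) [40, 39, 41, 36, 39, 42, 40] (9, 4, true) = true := by decide +kernel

theorem c18 : cer (9, 5, false) [41, 36, 39, 42, 40, 39, 41] (9, 4, true) = true := by decide +kernel

theorem c19 : cer (9, 5, true) [40, 36, 39, 42, 40, 39, 40] (9, 4, true) = true := by decide +kernel

theorem c20 : cer (4, 4, false) [41, 23, 36, 39, 42, 41, 39, 40] (9, 2, true) = true := by decide +kernel

theorem c21 : cer (10, 3, true) [41, 39, 40, 36, 39, 42, 21, 41] (6, 8, true) = true := by decide +kernel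

theorem c22 : cer (3, 7, false) [40, 36, 39, 42, 40, 19, 39, 41] (9, 4, true) = true := by decide +kernel

theorem c23 : cer (6, 9, false) [41, 11, 36, 39, 42, 41, 15, 39, 40] (9, 4, true) = true := by decide +kernel

theorem c24 : cer (8, 12, false) [3, 36, 39, 42, 40, 36, 39, 42, 41] (8, 6, false) = true := by decide +kernel

/-- The certificates of this file. -/
def L : List (Ent × List ℕ × Ent) := [
  ((3, 9, false), [39, 40, 36, 39, 42, 41], (9, 2, true)),
  ((2, 4, false), [41], (3, 9, false)),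
  ((2, 4, true), [41], (3, 9, false)),
  ((6, 4, true), [36, 39, 42, 40], (3, 9, false)),
  ((6, 5, true), [39, 40, 36, 39, 42, 40], (9, 2, true)),
  ((11, 9, false), [39, 10, 41, 36, 39, 42, 40], (6, 8, true)),
  ((6, 6, true), [25, 39, 42, 42, 25, 40, 39, 41], (8, 6, false)),
  ((8, 10, true), [25, 39, 42, 42, 25, 40, 39, 41], (9, 2, true)),
  ((9, 4, true), [25, 39, 42, 42, 25, 41, 39, 40], (6, 8, true)),
  ((9, 0, true), [39, 40], (9, 4, true)),
  ((3, 8, false), [39, 41], (9, 0, true)),
  ((3, 8, true), [39, 40], (9, 0, true)),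
  ((11, 5, true), [36, 39, 42, 41], (9, 4, true)),
  ((6, 6, false), [22, 25, 39, 42, 42, 25, 40, 39, 41], (8, 6, false)),
  ((4, 4, true), [41, 39, 41, 36, 39, 42, 41], (9, 2, true)),
  ((5, 4, false), [40, 39, 41, 36, 39, 42, 40], (3, 9, false)),
  ((10, 8, true), [41, 36, 39, 42, 41, 39, 41], (8, 10, true)),
  ((3, 7, true), [40, 39, 41, 36, 39, 42, 40], (9, 4, true)),
  ((9, 5, false), [41, 36, 39, 42, 40, 39, 41], (9, 4, true)),
  ((9, 5, true), [40, 36, 39, 42, 40, 39, 40], (9, 4, true)),
  ((4, 4, false), [41, 23, 36, 39, 42, 41, 39, 40], (9, 2, true)),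
  ((10, 3, true), [41, 39, 40, 36, 39, 42, 21, 41], (6, 8, true)),
  ((3, 7, false), [40, 36, 39, 42, 40, 19, 39, 41], (9, 4, true)),
  ((6, 9, false), [41, 11, 36, 39, 42, 41, 15, 39, 40], (9, 4, true)),
  ((8, 12, false), [3, 36, 39, 42, 40, 36, 39, 42, 41], (8, 6, false))]

theorem ok : ∀ r ∈ L, cer r.1 r.2.1 r.2.2 = true := by
  simp only [L, List.forall_mem_cons, List.not_mem_nil, false_imp_iff, implies_true, and_true]
  exact ⟨c0, c1, c2, c3, c4, c5, c6, c7, c8, c9, c10, c11, c12, c13, c14, c15, c16, c17, c18, c19, c20, c21, c22, c23, c24⟩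

end Cfsg.Agent.H816.MCer6
end

-- part: H816/MCer7
section
/-!
# Kernel checks: certificates of the transitivity on pairs of axes, part 7 (helper816)
-/

set_option autoImplicit false
set_option maxRecDepth 100000
set_option Elab.async false

namespace Cfsg.Agent.H816.MCer7

open Cfsg.Agent.H816.MTab

theorem c0 : cer (10, 1, true) [25, 39, 42, 42, 25, 41, 36, 39, 42, 41] (9, 2, true) = true := by decide +kernel

theorem c1 : cer (11, 5, false) [36, 39, 42, 41] (10, 1, true) = true := by decide +kernel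

theorem c2 : cer (11, 17, true) [40, 25, 39, 42, 42, 25, 40, 39, 40] (10, 1, true) = true := by decide +kernel

theorem c3 : cer (10, 2, true) [25, 39, 42, 42, 25, 40, 36, 39, 42, 40] (9, 2, true) = true := by decide +kernel

theorem c4 : cer (6, 9, true) [39, 41] (10, 2, true) = true := by decide +kernel

theorem c5 : cer (11, 3, false) [39, 40] (10, 2, true) = true := by decide +kernel

theorem c6 : cer (11, 18, true) [41, 39, 40, 36, 39, 42, 40] (10, 2, true) = true := by decide +kernel

theorem c7 : cer (11, 13, true) [23, 25, 39, 42, 42, 25, 40, 36, 39, 42, 41] (10, 1, true) = true := by decide +kernel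

theorem c8 : cer (8, 7, false) [39, 10, 40, 36, 39, 42, 40, 39, 41] (11, 20, true) = true := by decide +kernel

theorem c9 : cer (11, 12, false) [39, 16, 40, 23, 36, 39, 42, 5, 41, 39, 40] (10, 2, true) = true := by decide +kernel

theorem c10 : cer (9, 9, false) [41, 25, 39, 42, 42, 25, 41, 36, 39, 42, 40] (10, 1, true) = true := by decide +kernel

theorem c11 : cer (10, 10, false) [41, 25, 39, 42, 42, 25, 40, 36, 39, 42, 40] (10, 1, true) = true := by decide +kernel

theorem c12 : cer (9, 9, true) [39, 5, 41, 25, 39, 42, 42, 25, 40, 39, 40] (8, 6, false) = true := by decide +kernel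

theorem c13 : cer (7, 4, false) [40, 25, 39, 42, 42, 25, 23, 41, 36, 39, 42, 41] (10, 2, true) = true := by decide +kernel

theorem c14 : cer (11, 12, true) [41, 3, 25, 39, 42, 42, 25, 40, 39, 41] (7, 4, false) = true := by decide +kernel

theorem c15 : cer (11, 16, true) [41, 41, 16, 36, 39, 42, 40, 39, 20, 41] (7, 4, false) = true := by decide +kernel

theorem c16 : cer (11, 17, false) [41] (11, 16, true) = true := by decide +kernel

theorem c17 : cer (7, 0, false) [36, 39, 42, 40] (11, 16, true) = true := by decide +kernel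

theorem c18 : cer (7, 0, true) [36, 39, 42, 40] (11, 16, true) = true := by decide +kernel

theorem c19 : cer (11, 4, true) [36, 39, 42, 40, 39, 41] (11, 16, true) = true := by decide +kernel

theorem c20 : cer (10, 7, false) [40, 25, 39, 42, 42, 25, 40, 39, 41] (11, 16, true) = true := by decide +kernel

theorem c21 : cer (10, 7, true) [40, 25, 39, 42, 42, 25, 41, 39, 40] (11, 16, true) = true := by decide +kernel

theorem c22 : cer (11, 1, true) [39, 10, 41, 41, 39, 21, 41, 3, 36, 39, 42, 40] (8, 2, false) = true := by decide +kernel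

theorem c23 : cer (11, 6, false) [40, 24, 39, 5, 41, 21, 39, 41, 36, 39, 42, 41] (9, 2, true) = true := by decide +kernel

theorem c24 : cer (10, 10, true) [15, 39, 11, 41, 39, 40, 36, 39, 42, 22, 40, 40] (11, 16, true) = true := by decide +kernel

/-- The certificates of this file. -/
def L : List (Ent × List ℕ × Ent) := [
  ((10, 1, true), [25, 39, 42, 42, 25, 41, 36, 39, 42, 41], (9, 2, true)),
  ((11, 5, false), [36, 39, 42, 41], (10, 1, true)),
  ((11, 17, true), [40, 25, 39, 42, 42, 25, 40, 39, 40], (10, 1, true)),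
  ((10, 2, true), [25, 39, 42, 42, 25, 40, 36, 39, 42, 40], (9, 2, true)),
  ((6, 9, true), [39, 41], (10, 2, true)),
  ((11, 3, false), [39, 40], (10, 2, true)),
  ((11, 18, true), [41, 39, 40, 36, 39, 42, 40], (10, 2, true)),
  ((11, 13, true), [23, 25, 39, 42, 42, 25, 40, 36, 39, 42, 41], (10, 1, true)),
  ((8, 7, false), [39, 10, 40, 36, 39, 42, 40, 39, 41], (11, 20, true)),
  ((11, 12, false), [39, 16, 40, 23, 36, 39, 42, 5, 41, 39, 40], (10, 2, true)),
  ((9, 9, false), [41, 25, 39, 42, 42, 25, 41, 36, 39, 42, 40], (10, 1, true)),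
  ((10, 10, false), [41, 25, 39, 42, 42, 25, 40, 36, 39, 42, 40], (10, 1, true)),
  ((9, 9, true), [39, 5, 41, 25, 39, 42, 42, 25, 40, 39, 40], (8, 6, false)),
  ((7, 4, false), [40, 25, 39, 42, 42, 25, 23, 41, 36, 39, 42, 41], (10, 2, true)),
  ((11, 12, true), [41, 3, 25, 39, 42, 42, 25, 40, 39, 41], (7, 4, false)),
  ((11, 16, true), [41, 41, 16, 36, 39, 42, 40, 39, 20, 41], (7, 4, false)),
  ((11, 17, false), [41], (11, 16, true)),
  ((7, 0, false), [36, 39, 42, 40], (11, 16, true)),
  ((7, 0, true), [36, 39, 42, 40], (11, 16, true)),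
  ((11, 4, true), [36, 39, 42, 40, 39, 41], (11, 16, true)),
  ((10, 7, false), [40, 25, 39, 42, 42, 25, 40, 39, 41], (11, 16, true)),
  ((10, 7, true), [40, 25, 39, 42, 42, 25, 41, 39, 40], (11, 16, true)),
  ((11, 1, true), [39, 10, 41, 41, 39, 21, 41, 3, 36, 39, 42, 40], (8, 2, false)),
  ((11, 6, false), [40, 24, 39, 5, 41, 21, 39, 41, 36, 39, 42, 41], (9, 2, true)),
  ((10, 10, true), [15, 39, 11, 41, 39, 40, 36, 39, 42, 22, 40, 40], (11, 16, true))]

theorem ok : ∀ r ∈ L, cer r.1 r.2.1 r.2.2 = true := by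
  simp only [L, List.forall_mem_cons, List.not_mem_nil, false_imp_iff, implies_true, and_true]
  exact ⟨c0, c1, c2, c3, c4, c5, c6, c7, c8, c9, c10, c11, c12, c13, c14, c15, c16, c17, c18, c19, c20, c21, c22, c23, c24⟩

end Cfsg.Agent.H816.MCer7
end

private theorem dce_5f939137cac1 : _root_.True := by
  try have : _root_.True := by simp only [_root_.Cfsg.Agent.H816.MCer1.L.eq_1]
  try have : _root_.True := by simp only [_root_.Cfsg.Agent.H816.MCer6.L.eq_1]
  try have : _root_.True := by simp only [_root_.Cfsg.Agent.H816.MCer7.L.eq_1]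
  try have : _root_.True := by simp only [_root_.Cfsg.Agent.H816.MCer4.L.eq_1]
  exact _root_.True.intro
end

-- part: H816/MCer2_mg
section
set_option linter.all false

-- part: H816/MCer2
section
/-!
# Kernel checks: certificates of the transitivity on pairs of axes, part 2 (helper816)
-/

set_option autoImplicit false
set_option maxRecDepth 100000
set_option Elab.async false

namespace Cfsg.Agent.H816.MCer2

open Cfsg.Agent.H816.MTab

theorem c0 : cer (9, 0, false) [39, 40] (4, 1, false) = true := by decide +kernel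

theorem c1 : cer (3, 5, false) [36, 39, 42, 41] (4, 1, false) = true := by decide +kernel

theorem c2 : cer (4, 0, true) [36, 39, 42, 41] (4, 1, false) = true := by decide +kernel

theorem c3 : cer (4, 3, true) [36, 39, 42, 40] (4, 1, false) = true := by decide +kernel

theorem c4 : cer (11, 0, true) [25, 39, 42, 42, 25, 41, 39, 40] (8, 10, false) = true := by decide +kernel

theorem c5 : cer (4, 0, false) [25, 39, 42, 42, 25, 41, 39, 41] (4, 1, false) = true := by decide +kernel

theorem c6 : cer (10, 1, false) [39, 41] (4, 1, true) = true := by decide +kernel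

theorem c7 : cer (6, 10, false) [39, 40] (10, 1, false) = true := by decide +kernel

theorem c8 : cer (6, 10, true) [39, 40] (10, 1, false) = true := by decide +kernel

theorem c9 : cer (1, 3, false) [36, 39, 42, 41] (4, 1, true) = true := by decide +kernel

theorem c10 : cer (1, 3, true) [36, 39, 42, 41] (4, 1, true) = true := by decide +kernel

theorem c11 : cer (2, 2, false) [36, 39, 42, 41] (4, 1, true) = true := by decide +kernel

theorem c12 : cer (2, 2, true) [36, 39, 42, 41] (4, 1, true) = true := by decide +kernel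

theorem c13 : cer (3, 4, false) [36, 39, 42, 41] (4, 1, true) = true := by decide +kernel

theorem c14 : cer (3, 4, true) [36, 39, 42, 41] (4, 1, true) = true := by decide +kernel

theorem c15 : cer (3, 5, true) [36, 39, 42, 40] (4, 1, true) = true := by decide +kernel

theorem c16 : cer (4, 2, true) [36, 39, 42, 40] (4, 1, true) = true := by decide +kernel

theorem c17 : cer (7, 3, false) [36, 39, 42, 40] (4, 1, true) = true := by decide +kernel

theorem c18 : cer (9, 6, true) [36, 39, 42, 41] (4, 1, true) = true := by decide +kernel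

theorem c19 : cer (8, 6, true) [39, 41] (9, 6, true) = true := by decide +kernel

theorem c20 : cer (11, 11, true) [41] (8, 6, true) = true := by decide +kernel

theorem c21 : cer (9, 4, false) [39, 41] (9, 6, true) = true := by decide +kernel

theorem c22 : cer (11, 8, false) [36, 39, 42, 40] (9, 6, true) = true := by decide +kernel

theorem c23 : cer (10, 0, true) [25, 39, 42, 42, 25, 41] (4, 1, true) = true := by decide +kernel

theorem c24 : cer (6, 3, true) [39, 40, 36, 39, 42, 41] (9, 6, true) = true := by decide +kernel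

/-- The certificates of this file. -/
def L : List (Ent × List ℕ × Ent) := [
  ((9, 0, false), [39, 40], (4, 1, false)),
  ((3, 5, false), [36, 39, 42, 41], (4, 1, false)),
  ((4, 0, true), [36, 39, 42, 41], (4, 1, false)),
  ((4, 3, true), [36, 39, 42, 40], (4, 1, false)),
  ((11, 0, true), [25, 39, 42, 42, 25, 41, 39, 40], (8, 10, false)),
  ((4, 0, false), [25, 39, 42, 42, 25, 41, 39, 41], (4, 1, false)),
  ((10, 1, false), [39, 41], (4, 1, true)),
  ((6, 10, false), [39, 40], (10, 1, false)),
  ((6, 10, true), [39, 40], (10, 1, false)),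
  ((1, 3, false), [36, 39, 42, 41], (4, 1, true)),
  ((1, 3, true), [36, 39, 42, 41], (4, 1, true)),
  ((2, 2, false), [36, 39, 42, 41], (4, 1, true)),
  ((2, 2, true), [36, 39, 42, 41], (4, 1, true)),
  ((3, 4, false), [36, 39, 42, 41], (4, 1, true)),
  ((3, 4, true), [36, 39, 42, 41], (4, 1, true)),
  ((3, 5, true), [36, 39, 42, 40], (4, 1, true)),
  ((4, 2, true), [36, 39, 42, 40], (4, 1, true)),
  ((7, 3, false), [36, 39, 42, 40], (4, 1, true)),
  ((9, 6, true), [36, 39, 42, 41], (4, 1, true)),
  ((8, 6, true), [39, 41], (9, 6, true)),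
  ((11, 11, true), [41], (8, 6, true)),
  ((9, 4, false), [39, 41], (9, 6, true)),
  ((11, 8, false), [36, 39, 42, 40], (9, 6, true)),
  ((10, 0, true), [25, 39, 42, 42, 25, 41], (4, 1, true)),
  ((6, 3, true), [39, 40, 36, 39, 42, 41], (9, 6, true))]

theorem ok : ∀ r ∈ L, cer r.1 r.2.1 r.2.2 = true := by
  simp only [L, List.forall_mem_cons, List.not_mem_nil, false_imp_iff, implies_true, and_true]
  exact ⟨c0, c1, c2, c3, c4, c5, c6, c7, c8, c9, c10, c11, c12, c13, c14, c15, c16, c17, c18, c19, c20, c21, c22, c23, c24⟩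

end Cfsg.Agent.H816.MCer2
end

-- part: H816/MCer5
section
/-!
# Kernel checks: certificates of the transitivity on pairs of axes, part 5 (helper816)
-/

set_option autoImplicit false
set_option maxRecDepth 100000
set_option Elab.async false

namespace Cfsg.Agent.H816.MCer5

open Cfsg.Agent.H816.MTab

theorem c0 : cer (11, 13, false) [12, 39, 41, 36, 39, 42, 41, 41, 39, 41] (8, 13, true) = true := by decide +kernel

theorem c1 : cer (11, 14, false) [21, 39, 11, 40, 36, 39, 42, 41, 41, 21, 39, 41] (11, 11, false) = true := by decide +kernel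

theorem c2 : cer (7, 4, true) [14, 25, 39, 42, 42, 25, 40, 39, 40, 36, 39, 42, 40] (11, 11, false) = true := by decide +kernel

theorem c3 : cer (11, 4, false) [25, 39, 42, 42, 25, 12, 41, 39, 40, 10, 36, 39, 42, 41] (7, 4, true) = true := by decide +kernel

theorem c4 : cer (10, 11, true) [25, 39, 42, 42, 25, 41, 25, 39, 42, 42, 25, 20, 41, 39, 10, 40] (11, 11, false) = true := by decide +kernel

theorem c5 : cer (8, 1, false) [39, 41] (8, 2, false) = true := by decide +kernel

theorem c6 : cer (8, 1, true) [39, 41] (8, 2, false) = true := by decide +kernel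

theorem c7 : cer (5, 5, false) [40, 39, 41] (8, 2, false) = true := by decide +kernel

theorem c8 : cer (5, 5, true) [41, 39, 40] (8, 2, false) = true := by decide +kernel

theorem c9 : cer (8, 6, false) [41, 36, 39, 42, 40] (8, 2, false) = true := by decide +kernel

theorem c10 : cer (10, 3, false) [39, 41] (8, 6, false) = true := by decide +kernel

theorem c11 : cer (8, 11, false) [41, 39, 40] (8, 6, false) = true := by decide +kernel

theorem c12 : cer (9, 2, true) [36, 39, 42, 41] (8, 6, false) = true := by decide +kernel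

theorem c13 : cer (6, 8, true) [39, 40] (9, 2, true) = true := by decide +kernel

theorem c14 : cer (8, 8, false) [41] (6, 8, true) = true := by decide +kernel

theorem c15 : cer (11, 20, true) [41] (6, 8, true) = true := by decide +kernel

theorem c16 : cer (9, 7, false) [39, 41] (9, 2, true) = true := by decide +kernel

theorem c17 : cer (5, 7, false) [39, 41] (6, 8, true) = true := by decide +kernel

theorem c18 : cer (5, 7, true) [39, 40] (6, 8, true) = true := by decide +kernel

theorem c19 : cer (9, 7, true) [39, 41] (6, 8, true) = true := by decide +kernel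

theorem c20 : cer (11, 7, true) [36, 39, 42, 41] (9, 2, true) = true := by decide +kernel

theorem c21 : cer (11, 8, true) [36, 39, 42, 41] (9, 2, true) = true := by decide +kernel

theorem c22 : cer (10, 4, false) [36, 39, 42, 41] (6, 8, true) = true := by decide +kernel

theorem c23 : cer (8, 12, true) [40, 36, 39, 42, 41] (8, 6, false) = true := by decide +kernel

theorem c24 : cer (6, 1, true) [39, 41, 36, 39, 42, 40] (8, 6, false) = true := by decide +kernel

/-- The certificates of this file. -/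
def L : List (Ent × List ℕ × Ent) := [
  ((11, 13, false), [12, 39, 41, 36, 39, 42, 41, 41, 39, 41], (8, 13, true)),
  ((11, 14, false), [21, 39, 11, 40, 36, 39, 42, 41, 41, 21, 39, 41], (11, 11, false)),
  ((7, 4, true), [14, 25, 39, 42, 42, 25, 40, 39, 40, 36, 39, 42, 40], (11, 11, false)),
  ((11, 4, false), [25, 39, 42, 42, 25, 12, 41, 39, 40, 10, 36, 39, 42, 41], (7, 4, true)),
  ((10, 11, true), [25, 39, 42, 42, 25, 41, 25, 39, 42, 42, 25, 20, 41, 39, 10, 40], (11, 11, false)),
  ((8, 1, false), [39, 41], (8, 2, false)),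
  ((8, 1, true), [39, 41], (8, 2, false)),
  ((5, 5, false), [40, 39, 41], (8, 2, false)),
  ((5, 5, true), [41, 39, 40], (8, 2, false)),
  ((8, 6, false), [41, 36, 39, 42, 40], (8, 2, false)),
  ((10, 3, false), [39, 41], (8, 6, false)),
  ((8, 11, false), [41, 39, 40], (8, 6, false)),
  ((9, 2, true), [36, 39, 42, 41], (8, 6, false)),
  ((6, 8, true), [39, 40], (9, 2, true)),
  ((8, 8, false), [41], (6, 8, true)),
  ((11, 20, true), [41], (6, 8, true)),
  ((9, 7, false), [39, 41], (9, 2, true)),
  ((5, 7, false), [39, 41], (6, 8, true)),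
  ((5, 7, true), [39, 40], (6, 8, true)),
  ((9, 7, true), [39, 41], (6, 8, true)),
  ((11, 7, true), [36, 39, 42, 41], (9, 2, true)),
  ((11, 8, true), [36, 39, 42, 41], (9, 2, true)),
  ((10, 4, false), [36, 39, 42, 41], (6, 8, true)),
  ((8, 12, true), [40, 36, 39, 42, 41], (8, 6, false)),
  ((6, 1, true), [39, 41, 36, 39, 42, 40], (8, 6, false))]

theorem ok : ∀ r ∈ L, cer r.1 r.2.1 r.2.2 = true := by
  simp only [L, List.forall_mem_cons, List.not_mem_nil, false_imp_iff, implies_true, and_true]
  exact ⟨c0, c1, c2, c3, c4, c5, c6, c7, c8, c9, c10, c11, c12, c13, c14, c15, c16, c17, c18, c19, c20, c21, c22, c23, c24⟩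

end Cfsg.Agent.H816.MCer5
end

private theorem dce_0c6995df73c0 : _root_.True := by
  try have : _root_.True := by simp only [_root_.Cfsg.Agent.H816.MCer5.L.eq_1]
  try have : _root_.True := by simp only [_root_.Cfsg.Agent.H816.MCer2.L.eq_1]
  exact _root_.True.intro
end

-- part: H816/MEnt
section
prune_inst 0x4410000
set_option linter.all false
open scoped Cfsg.Agent.FastGrp

-- part: H816/MTyp
section
/-!
# Kernel checks: the masses of `d j`, the types of the pairs with value `4 / 32` (helper816)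
-/

set_option autoImplicit false
set_option maxRecDepth 100000
set_option Elab.async false

namespace Cfsg.Agent.H816.MTyp

open Cfsg.Agent.H816.MTab Cfsg.Agent.H816.MRun Cfsg.Agent.MonsterX.InstData

theorem m0 : clsC 0 2048 0 = true := by decide +kernel

theorem m1 : clsC 1 256 0 = true := by decide +kernel

theorem m2 : clsC 2 0 64 = true := by decide +kernel

theorem m3 : clsC 3 256 32 = true := by decide +kernel

theorem m4 : clsC 4 64 64 = true := by decide +kernel

theorem m5 : clsC 5 104 0 = true := by decide +kernel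

theorem m6 : clsC 6 40 64 = true := by decide +kernel

theorem m7 : clsC 7 40 40 = true := by decide +kernel

theorem m8 : clsC 8 32 64 = true := by decide +kernel

theorem m9 : clsC 9 64 40 = true := by decide +kernel

theorem m10 : clsC 10 48 32 = true := by decide +kernel

theorem m11 : clsC 11 32 64 = true := by decide +kernel

theorem t1_3 : typC 1 3 [(mt0, pm 2), (mt1, pm 2)] = true := by decide +kernel

theorem t2_2 : typC 2 2 [(mt0, pm 2), (mt1, pm 2)] = true := by decide +kernel

theorem t3_0 : typC 3 0 [(mt1, pm 2)] = true := by decide +kernel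

theorem t3_1 : typC 3 1 [(mt1, pm 2)] = true := by decide +kernel

theorem t3_3 : typC 3 3 [(mt1, pm 2)] = true := by decide +kernel

theorem t3_4 : typC 3 4 [(mt0, pm 2), (mt1, pm 2)] = true := by decide +kernel

theorem t3_5 : typC 3 5 [(mt1, pm 2)] = true := by decide +kernel

theorem t4_1 : typC 4 1 [(mt1, pm 2)] = true := by decide +kernel

theorem t4_2 : typC 4 2 [(mt0, pm 2), (mt1, pm 2)] = true := by decide +kernel

theorem t4_6 : typC 4 6 [(mt0, pm 1), (mt1, pm 1)] = true := by decide +kernel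

theorem t5_2 : typC 5 2 [(mt0, pm 2)] = true := by decide +kernel

theorem t6_1 : typC 6 1 [(mt0, pm 2)] = true := by decide +kernel

theorem t6_2 : typC 6 2 [(mt1, pm 2)] = true := by decide +kernel

theorem t6_3 : typC 6 3 [(mt1, pm 2)] = true := by decide +kernel

theorem t6_10 : typC 6 10 [(mt0, pm 2), (mt1, pm 2)] = true := by decide +kernel

theorem t7_1 : typC 7 1 [(mt1, pm 1)] = true := by decide +kernel

theorem t7_3 : typC 7 3 [(mt0, pm 2), (mt1, pm 1)] = true := by decide +kernel

theorem t8_0 : typC 8 0 [(mt0, pm 2)] = true := by decide +kernel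

theorem t8_4 : typC 8 4 [(mt0, pm 2), (mt1, pm 2)] = true := by decide +kernel

theorem t8_6 : typC 8 6 [(mt1, pm 2)] = true := by decide +kernel

theorem t9_4 : typC 9 4 [(mt0, pm 2)] = true := by decide +kernel

private noncomputable def _root_.Cfsg.Agent.LsF.fa8f8a5_0 : {f // @Nat.pred = f} := ⟨_, by first | (delta Nat.pred; (try delta Nat.pow.match_1); (try delta Nat.casesOn); exact rfl) | exact rfl⟩
private noncomputable def _root_.Cfsg.Agent.LsF.fa8f8a5_8 : {f // @Cfsg.Agent.MonsterX.InstData.nthW = f} := ⟨_, by first | (delta Cfsg.Agent.MonsterX.InstData.nthW; rewrite [Cfsg.Agent.LsF.fa8f8a5_0.2]; exact rfl) | exact rfl⟩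
private noncomputable def _root_.Cfsg.Agent.LsF.fa8f8a5_9 : {f // @Cfsg.Agent.MonsterX.InstData.bj = f} := ⟨_, by first | (delta Cfsg.Agent.MonsterX.InstData.bj; rewrite [Cfsg.Agent.LsF.fa8f8a5_8.2]; exact rfl) | exact rfl⟩
private noncomputable def _root_.Cfsg.Agent.LsF.fa8f8a5_13 : {f // @Cfsg.Agent.MonsterX.CertUTab.us = f} := ⟨_, by first | (delta Cfsg.Agent.MonsterX.CertUTab.us; rewrite [Cfsg.Agent.LsF.getD_eq]; exact rfl) | exact rfl⟩
private noncomputable def _root_.Cfsg.Agent.LsF.fa8f8a5_14 : {f // @Cfsg.Agent.MonsterX.CertUTab.uw = f} := ⟨_, by first | (delta Cfsg.Agent.MonsterX.CertUTab.uw; rewrite [Cfsg.Agent.LsF.fa8f8a5_13.2, Cfsg.Agent.LsF.getD_eq]; exact rfl) | exact rfl⟩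
private noncomputable def _root_.Cfsg.Agent.LsF.fa8f8a5_15 : {f // @Cfsg.Agent.MonsterX.PairValTab.vs = f} := ⟨_, by first | (delta Cfsg.Agent.MonsterX.PairValTab.vs; rewrite [Cfsg.Agent.LsF.getD_eq]; exact rfl) | exact rfl⟩
private noncomputable def _root_.Cfsg.Agent.LsF.fa8f8a5_16 : {f // @Cfsg.Agent.H816.MTab.typC = f} := ⟨_, by first | (delta Cfsg.Agent.H816.MTab.typC; rewrite [Cfsg.Agent.LsF.fa8f8a5_9.2, Cfsg.Agent.LsF.fa8f8a5_14.2, Cfsg.Agent.LsF.fa8f8a5_15.2, Cfsg.Agent.LsF.lappend_pat]; exact rfl) | exact rfl⟩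
private noncomputable def _root_.Cfsg.Agent.LsF.fa8f8a5_10 : {f // @Cfsg.Agent.H816.MTab.pm = f} := ⟨_, by first | (delta Cfsg.Agent.H816.MTab.pm; (try delta Cfsg.Agent.H816.MTab.pm.match_1); (try rewrite [Cfsg.Agent.LsF.instDecEq_eq, Cfsg.Agent.LsF.dite_eq]); exact rfl) | exact rfl⟩
theorem t9_6 : typC 9 6 [(mt1, pm 2)] = true := by ((try (rewrite [Cfsg.Agent.LsF.fa8f8a5_16.2, Cfsg.Agent.LsF.fa8f8a5_10.2])); decide +kernel)

theorem t10_0 : typC 10 0 [(mt1, pm 2)] = true := by decide +kernel

theorem t10_1 : typC 10 1 [(mt0, pm 2)] = true := by ((try (rewrite [Cfsg.Agent.LsF.fa8f8a5_16.2, Cfsg.Agent.LsF.fa8f8a5_10.2])); decide +kernel)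

theorem t10_6 : typC 10 6 [(mt0, pm 2)] = true := by ((try (rewrite [Cfsg.Agent.LsF.fa8f8a5_16.2, Cfsg.Agent.LsF.fa8f8a5_10.2])); decide +kernel)

theorem t10_11 : typC 10 11 [(mt0, pm 1)] = true := by decide +kernel

theorem t11_0 : typC 11 0 [(mt0, pm 2)] = true := by decide +kernel

theorem t11_8 : typC 11 8 [(mt0, pm 2)] = true := by decide +kernel

theorem t11_9 : typC 11 9 [(mt1, pm 2)] = true := by decide +kernel

theorem t11_11 : typC 11 11 [(mt1, pm 2)] = true := by decide +kernel

theorem t11_16 : typC 11 16 [(mt0, pm 1)] = true := by decide +kernel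

end Cfsg.Agent.H816.MTyp
end

-- part: H816/MCer0
section
/-!
# Kernel checks: certificates of the transitivity on pairs of axes, part 0 (helper816)
-/

set_option autoImplicit false
set_option maxRecDepth 100000
set_option Elab.async false

namespace Cfsg.Agent.H816.MCer0

open Cfsg.Agent.H816.MTab

theorem c0 : cer (5, 4, true) [41] (2, 1, true) = true := by decide +kernel

theorem c1 : cer (1, 0, true) [39, 40] (2, 1, true) = true := by decide +kernel

theorem c2 : cer (3, 0, false) [41] (1, 0, true) = true := by decide +kernel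

theorem c3 : cer (0, 1, false) [39, 40] (1, 0, true) = true := by decide +kernel

theorem c4 : cer (0, 1, true) [39, 40] (1, 0, true) = true := by decide +kernel

theorem c5 : cer (11, 20, false) [41] (6, 3, false) = true := by decide +kernel

theorem c6 : cer (3, 9, true) [39, 40] (6, 3, false) = true := by decide +kernel

theorem c7 : cer (2, 5, false) [41] (3, 9, true) = true := by decide +kernel

theorem c8 : cer (2, 5, true) [41] (3, 9, true) = true := by decide +kernel

theorem c9 : cer (9, 8, false) [41] (3, 9, true) = true := by decide +kernel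

theorem c10 : cer (5, 0, true) [39, 41] (6, 3, false) = true := by decide +kernel

theorem c11 : cer (5, 3, false) [40] (5, 0, true) = true := by decide +kernel

theorem c12 : cer (8, 2, true) [39, 41] (6, 3, false) = true := by decide +kernel

theorem c13 : cer (10, 11, false) [39, 40] (11, 16, false) = true := by decide +kernel

theorem c14 : cer (7, 1, true) [39, 40] (10, 11, false) = true := by decide +kernel

theorem c15 : cer (7, 3, true) [39, 40] (10, 11, false) = true := by decide +kernel

theorem c16 : cer (4, 6, false) [36, 39, 42, 41] (10, 11, false) = true := by decide +kernel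

theorem c17 : cer (4, 6, true) [36, 39, 42, 40] (10, 11, false) = true := by decide +kernel

theorem c18 : cer (5, 3, true) [41] (2, 0, true) = true := by decide +kernel

theorem c19 : cer (1, 1, false) [39, 41] (2, 0, true) = true := by decide +kernel

theorem c20 : cer (1, 1, true) [39, 41] (2, 0, true) = true := by decide +kernel

theorem c21 : cer (2, 1, false) [39, 40] (2, 0, true) = true := by decide +kernel

theorem c22 : cer (0, 3, false) [39, 41] (2, 1, false) = true := by decide +kernel

theorem c23 : cer (0, 3, true) [39, 41] (2, 1, false) = true := by decide +kernel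

theorem c24 : cer (6, 4, false) [36, 39, 42, 40] (5, 3, true) = true := by decide +kernel

/-- The certificates of this file. -/
def L : List (Ent × List ℕ × Ent) := [
  ((5, 4, true), [41], (2, 1, true)),
  ((1, 0, true), [39, 40], (2, 1, true)),
  ((3, 0, false), [41], (1, 0, true)),
  ((0, 1, false), [39, 40], (1, 0, true)),
  ((0, 1, true), [39, 40], (1, 0, true)),
  ((11, 20, false), [41], (6, 3, false)),
  ((3, 9, true), [39, 40], (6, 3, false)),
  ((2, 5, false), [41], (3, 9, true)),
  ((2, 5, true), [41], (3, 9, true)),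
  ((9, 8, false), [41], (3, 9, true)),
  ((5, 0, true), [39, 41], (6, 3, false)),
  ((5, 3, false), [40], (5, 0, true)),
  ((8, 2, true), [39, 41], (6, 3, false)),
  ((10, 11, false), [39, 40], (11, 16, false)),
  ((7, 1, true), [39, 40], (10, 11, false)),
  ((7, 3, true), [39, 40], (10, 11, false)),
  ((4, 6, false), [36, 39, 42, 41], (10, 11, false)),
  ((4, 6, true), [36, 39, 42, 40], (10, 11, false)),
  ((5, 3, true), [41], (2, 0, true)),
  ((1, 1, false), [39, 41], (2, 0, true)),
  ((1, 1, true), [39, 41], (2, 0, true)),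
  ((2, 1, false), [39, 40], (2, 0, true)),
  ((0, 3, false), [39, 41], (2, 1, false)),
  ((0, 3, true), [39, 41], (2, 1, false)),
  ((6, 4, false), [36, 39, 42, 40], (5, 3, true))]

theorem ok : ∀ r ∈ L, cer r.1 r.2.1 r.2.2 = true := by
  simp only [L, List.forall_mem_cons, List.not_mem_nil, false_imp_iff, implies_true, and_true]
  exact ⟨c0, c1, c2, c3, c4, c5, c6, c7, c8, c9, c10, c11, c12, c13, c14, c15, c16, c17, c18, c19, c20, c21, c22, c23, c24⟩

end Cfsg.Agent.H816.MCer0
end

-- part: H816/MCer3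
section
/-!
# Kernel checks: certificates of the transitivity on pairs of axes, part 3 (helper816)
-/

set_option autoImplicit false
set_option maxRecDepth 100000
set_option Elab.async false

namespace Cfsg.Agent.H816.MCer3

open Cfsg.Agent.H816.MTab

theorem c0 : cer (8, 0, false) [36, 39, 42, 41, 39, 41] (9, 6, true) = true := by decide +kernel

theorem c1 : cer (8, 4, false) [39, 40] (8, 0, false) = true := by decide +kernel

theorem c2 : cer (8, 4, true) [39, 40] (8, 0, false) = true := by decide +kernel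

theorem c3 : cer (6, 1, false) [39, 40, 36, 39, 42, 41] (8, 6, true) = true := by decide +kernel

theorem c4 : cer (3, 3, true) [25, 39, 42, 42, 25, 40, 39, 40] (9, 6, true) = true := by decide +kernel

theorem c5 : cer (3, 0, true) [40] (3, 3, true) = true := by decide +kernel

theorem c6 : cer (5, 2, false) [25, 39, 42, 42, 25, 40, 39, 40] (8, 6, true) = true := by decide +kernel

theorem c7 : cer (6, 2, true) [39, 41] (5, 2, false) = true := by decide +kernel

theorem c8 : cer (11, 0, false) [39, 41, 36, 39, 42, 41] (5, 2, false) = true := by decide +kernel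

theorem c9 : cer (3, 1, true) [41, 36, 39, 42, 41, 39, 40] (4, 1, true) = true := by decide +kernel

theorem c10 : cer (4, 2, false) [41, 36, 39, 42, 41, 39, 41] (4, 1, true) = true := by decide +kernel

theorem c11 : cer (11, 9, true) [25, 39, 42, 42, 25, 40, 36, 39, 42, 40, 39, 41] (10, 1, false) = true := by decide +kernel

theorem c12 : cer (10, 6, false) [25, 39, 42, 42, 25, 40, 25, 39, 42, 42, 25, 40, 39, 41] (9, 6, true) = true := by decide +kernel

theorem c13 : cer (8, 13, true) [39, 40] (9, 1, false) = true := by decide +kernel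

theorem c14 : cer (8, 11, true) [41] (8, 13, true) = true := by decide +kernel

theorem c15 : cer (9, 10, false) [39, 41] (8, 13, true) = true := by decide +kernel

theorem c16 : cer (9, 10, true) [39, 41] (8, 13, true) = true := by decide +kernel

theorem c17 : cer (9, 3, true) [36, 39, 42, 41] (9, 1, false) = true := by decide +kernel

theorem c18 : cer (9, 6, false) [40] (9, 3, true) = true := by decide +kernel

theorem c19 : cer (9, 2, false) [39, 41] (9, 6, false) = true := by decide +kernel

theorem c20 : cer (9, 8, true) [40] (9, 2, false) = true := by decide +kernel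

theorem c21 : cer (6, 8, false) [39, 41] (9, 2, false) = true := by decide +kernel

theorem c22 : cer (8, 8, true) [41] (6, 8, false) = true := by decide +kernel

theorem c23 : cer (11, 11, false) [40] (6, 8, false) = true := by decide +kernel

theorem c24 : cer (8, 7, true) [39, 41] (9, 2, false) = true := by decide +kernel

/-- The certificates of this file. -/
def L : List (Ent × List ℕ × Ent) := [
  ((8, 0, false), [36, 39, 42, 41, 39, 41], (9, 6, true)),
  ((8, 4, false), [39, 40], (8, 0, false)),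
  ((8, 4, true), [39, 40], (8, 0, false)),
  ((6, 1, false), [39, 40, 36, 39, 42, 41], (8, 6, true)),
  ((3, 3, true), [25, 39, 42, 42, 25, 40, 39, 40], (9, 6, true)),
  ((3, 0, true), [40], (3, 3, true)),
  ((5, 2, false), [25, 39, 42, 42, 25, 40, 39, 40], (8, 6, true)),
  ((6, 2, true), [39, 41], (5, 2, false)),
  ((11, 0, false), [39, 41, 36, 39, 42, 41], (5, 2, false)),
  ((3, 1, true), [41, 36, 39, 42, 41, 39, 40], (4, 1, true)),
  ((4, 2, false), [41, 36, 39, 42, 41, 39, 41], (4, 1, true)),
  ((11, 9, true), [25, 39, 42, 42, 25, 40, 36, 39, 42, 40, 39, 41], (10, 1, false)),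
  ((10, 6, false), [25, 39, 42, 42, 25, 40, 25, 39, 42, 42, 25, 40, 39, 41], (9, 6, true)),
  ((8, 13, true), [39, 40], (9, 1, false)),
  ((8, 11, true), [41], (8, 13, true)),
  ((9, 10, false), [39, 41], (8, 13, true)),
  ((9, 10, true), [39, 41], (8, 13, true)),
  ((9, 3, true), [36, 39, 42, 41], (9, 1, false)),
  ((9, 6, false), [40], (9, 3, true)),
  ((9, 2, false), [39, 41], (9, 6, false)),
  ((9, 8, true), [40], (9, 2, false)),
  ((6, 8, false), [39, 41], (9, 2, false)),
  ((8, 8, true), [41], (6, 8, false)),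
  ((11, 11, false), [40], (6, 8, false)),
  ((8, 7, true), [39, 41], (9, 2, false))]

theorem ok : ∀ r ∈ L, cer r.1 r.2.1 r.2.2 = true := by
  simp only [L, List.forall_mem_cons, List.not_mem_nil, false_imp_iff, implies_true, and_true]
  exact ⟨c0, c1, c2, c3, c4, c5, c6, c7, c8, c9, c10, c11, c12, c13, c14, c15, c16, c17, c18, c19, c20, c21, c22, c23, c24⟩

end Cfsg.Agent.H816.MCer3
end

-- part: H816/MCer8
section
/-!
# Kernel checks: certificates of the transitivity on pairs of axes, part 8 (helper816)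
-/

set_option autoImplicit false
set_option maxRecDepth 100000
set_option Elab.async false

namespace Cfsg.Agent.H816.MCer8

open Cfsg.Agent.H816.MTab

theorem c0 : cer (11, 6, true) [5, 36, 39, 42, 40, 36, 39, 42, 4, 40, 39, 40] (8, 6, false) = true := by decide +kernel

theorem c1 : cer (11, 10, true) [11, 36, 39, 42, 41, 36, 39, 42, 40, 8, 39, 13, 40] (7, 4, false) = true := by decide +kernel

theorem c2 : cer (6, 2, false) [25, 39, 42, 42, 25, 40, 36, 39, 42, 40, 39, 41] (9, 2, true) = true := by decide +kernel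

theorem c3 : cer (5, 1, true) [36, 39, 42, 40, 25, 39, 42, 42, 25, 40, 39, 40] (6, 8, true) = true := by decide +kernel

theorem c4 : cer (5, 2, true) [36, 39, 42, 40] (5, 1, true) = true := by decide +kernel

theorem c5 : cer (11, 10, false) [40, 6, 36, 39, 42, 41, 36, 39, 42, 40, 39, 11, 40] (7, 4, false) = true := by decide +kernel

theorem c6 : cer (8, 5, false) [25, 39, 42, 42, 25, 40, 25, 39, 42, 42, 25, 20, 41, 39, 13, 41] (10, 1, true) = true := by decide +kernel

theorem c7 : cer (8, 5, true) [25, 39, 42, 42, 25, 40, 20, 25, 39, 42, 42, 25, 41, 21, 39, 41] (10, 1, true) = true := by decide +kernel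

theorem c8 : cer (11, 14, true) [36, 39, 42, 8, 40, 25, 39, 42, 42, 25, 41, 24, 36, 39, 42, 41] (7, 4, false) = true := by decide +kernel

theorem c9 : cer (6, 0, false) [25, 39, 42, 42, 25, 41, 25, 39, 42, 42, 25, 40, 36, 39, 42, 41] (9, 2, true) = true := by decide +kernel

/-- The certificates of this file. -/
def L : List (Ent × List ℕ × Ent) := [
  ((11, 6, true), [5, 36, 39, 42, 40, 36, 39, 42, 4, 40, 39, 40], (8, 6, false)),
  ((11, 10, true), [11, 36, 39, 42, 41, 36, 39, 42, 40, 8, 39, 13, 40], (7, 4, false)),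
  ((6, 2, false), [25, 39, 42, 42, 25, 40, 36, 39, 42, 40, 39, 41], (9, 2, true)),
  ((5, 1, true), [36, 39, 42, 40, 25, 39, 42, 42, 25, 40, 39, 40], (6, 8, true)),
  ((5, 2, true), [36, 39, 42, 40], (5, 1, true)),
  ((11, 10, false), [40, 6, 36, 39, 42, 41, 36, 39, 42, 40, 39, 11, 40], (7, 4, false)),
  ((8, 5, false), [25, 39, 42, 42, 25, 40, 25, 39, 42, 42, 25, 20, 41, 39, 13, 41], (10, 1, true)),
  ((8, 5, true), [25, 39, 42, 42, 25, 40, 20, 25, 39, 42, 42, 25, 41, 21, 39, 41], (10, 1, true)),
  ((11, 14, true), [36, 39, 42, 8, 40, 25, 39, 42, 42, 25, 41, 24, 36, 39, 42, 41], (7, 4, false)),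
  ((6, 0, false), [25, 39, 42, 42, 25, 41, 25, 39, 42, 42, 25, 40, 36, 39, 42, 41], (9, 2, true))]

theorem ok : ∀ r ∈ L, cer r.1 r.2.1 r.2.2 = true := by
  simp only [L, List.forall_mem_cons, List.not_mem_nil, false_imp_iff, implies_true, and_true]
  exact ⟨c0, c1, c2, c3, c4, c5, c6, c7, c8, c9⟩

end Cfsg.Agent.H816.MCer8
end

-- part: H816/MCol
section
/-!
# The colours of the pairs of axes of the Monster: abstract part (helper816)

`tx M x` : the involution of the axis `x`; `psi x y = F y (t_x y)`; `col x y` : the colour of the pair,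
`0, …, 8` = `1A 2A 2B 3A 3C 4A 4B 5A 6A`.
-/

set_option autoImplicit false

namespace Cfsg.Agent.H816.MCol

open Cfsg.Agent.MonsterX.Model Cfsg.Agent.MonsterX.MainBasic Cfsg.Agent.MonsterX.MainTrans

variable {W : Type} [AddCommGroup W] [Module ℚ W] {M : MData W} {K₀ : Type} [Group K₀]

/-- The involution of an axis. -/
noncomputable def tx (M : MData W) (x : W) : W ≃ₗ[ℚ] W := by
  classical
  exact if h : ∃ g ∈ M.G, g M.a₀ = x then h.choose * M.t₀ * h.choose⁻¹ else 1

/-- The second invariant of a pair. -/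
noncomputable def psi (M : MData W) (x y : W) : ℚ := M.F y (tx M x y)

/-- The colour from the two invariants. -/
noncomputable def code (r s : ℚ) : Fin 9 :=
  if r = 8 then 0 else if r = 1 then 1 else if r = 0 then 2 else if r = 13 / 32 then 3 else
    if r = 1 / 8 then (if s = 1 then 6 else 4) else if r = 1 / 4 then 5 else if r = 3 / 16 then 7 else 8

/-- The colour of a pair. -/
noncomputable def col (M : MData W) (x y : W) : Fin 9 := code (M.F x y) (psi M x y)

/-- The colour from integral values. -/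
def ecol (c : ℤ) (p : ℕ) : Fin 9 :=
  if c = 2048 then 0 else if c = 256 then 1 else if c = 0 then 2 else if c = 104 then 3 else
    if c = 32 then (if p = 2 then 6 else 4) else if c = 64 then 5 else if c = 48 then 7 else 8

theorem div_iff (c d : ℤ) (r : ℚ) (h : (d : ℚ) = 256 * r) : (c : ℚ) / 2 ^ 8 = r ↔ c = d := by
  rw [div_eq_iff (by norm_num)]
  constructor
  · intro h1
    have h2 : (c : ℚ) = (d : ℚ) := by rw [h, h1]; ring
    exact_mod_cast h2
  · rintro rfl
    rw [h]; ring

theorem code_div (c : ℤ) (p : ℕ) (s : ℚ) (h : c = 32 → (s = 1 ↔ p = 2)) : code ((c : ℚ) / 2 ^ 8) s = ecol c p := by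
  unfold code ecol
  simp only [div_iff c 2048 8 (by norm_num), div_iff c 256 1 (by norm_num), div_iff c 0 0 (by norm_num),
    div_iff c 104 (13 / 32) (by norm_num), div_iff c 32 (1 / 8) (by norm_num), div_iff c 64 (1 / 4) (by norm_num),
    div_iff c 48 (3 / 16) (by norm_num)]
  by_cases h1 : c = 32
  · simp only [h h1]
  · simp only [h1, if_false]

section

variable (hG : MGroup M K₀) (hR : MRep M) (hL : MLat M) (hO : MOrbit M) (hT : MTrans M)

include hG hR hL hO hT

theorem tx_of {g : W ≃ₗ[ℚ] W} (hg : g ∈ M.G) : tx M (g M.a₀) = g * M.t₀ * g⁻¹ := by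
  have h : ∃ k ∈ M.G, k M.a₀ = g M.a₀ := ⟨g, hg, rfl⟩
  unfold tx
  rw [dif_pos h]
  exact conj_eq hG hR hL hO hT h.choose_spec.1 hg h.choose_spec.2

theorem tx_smul {g x} (hg : g ∈ M.G) (hx : x ∈ M.X) : tx M (g x) = g * tx M x * g⁻¹ := by
  obtain ⟨k, hk, rfl⟩ := X_eq_orbit hO hx
  have h1 : g (k M.a₀) = (g * k) M.a₀ := rfl
  rw [h1, tx_of hG hR hL hO hT (M.G.mul_mem hg hk), tx_of hG hR hL hO hT hk]
  group

theorem psi_smul {g x} (hg : g ∈ M.G) (hx : x ∈ M.X) (y : W) : psi M (g x) (g y) = psi M x y := by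
  unfold psi
  rw [tx_smul hG hR hL hO hT hg hx]
  have h1 : (g * tx M x * g⁻¹) (g y) = g (tx M x y) := by
    rw [LinearEquiv.mul_apply, LinearEquiv.mul_apply, inv_apply']
  rw [h1, G_isom hO hR hg]

theorem col_smul {g x} (hg : g ∈ M.G) (hx : x ∈ M.X) (y : W) : col M (g x) (g y) = col M x y := by
  unfold col
  rw [psi_smul hG hR hL hO hT hg hx, G_isom hO hR hg]

theorem tx_a₀ : tx M M.a₀ = M.t₀ := by
  have h := tx_of hG hR hL hO hT M.G.one_mem
  rw [one_mul, inv_one, mul_one] at h
  exact h

theorem tx_a₁ : tx M M.a₁ = M.z * M.t₀ := by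
  obtain ⟨y, hy, h0, h1⟩ := exists_y hG hR
  rw [← h0, tx_of hG hR hL hO hT (C_le (hG.Q_le hy)), h1]

theorem psi_a₀ (y : W) : psi M M.a₀ y = M.F y (M.t₀ y) := by
  unfold psi
  rw [tx_a₀ hG hR hL hO hT]

theorem psi_a₁ (y : W) : psi M M.a₁ y = M.F y (M.z (M.t₀ y)) := by
  unfold psi
  rw [tx_a₁ hG hR hL hO hT]
  rfl

end

end Cfsg.Agent.H816.MCol
end

-- part: H816/MEnt
section
/-!
# The orbits of the Monster on the pairs of axes (helper816)

`tr` : pairs of axes of the same colour are conjugate.
-/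

set_option autoImplicit false
set_option maxRecDepth 100000

namespace Cfsg.Agent.H816.MEnt

open Cfsg Cfsg.Agent.Monster.VecEngine Cfsg.Agent.Monster.VecSpace
open Cfsg.Agent.MonsterX Cfsg.Agent.MonsterX.Space Cfsg.Agent.MonsterX.Conc Cfsg.Agent.MonsterX.Model
open Cfsg.Agent.MonsterX.InstData Cfsg.Agent.MonsterX.PairValTab Cfsg.Agent.MonsterX.CertUTab
open Cfsg.Agent.MonsterX.MainBasic
open Cfsg.Agent.H816.MRun Cfsg.Agent.H816.MTab Cfsg.Agent.H816.MCol

theorem hG : MGroup M Spor.Co1 := Instance.mGroup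
theorem hR : MRep M := Instance.mRep
theorem hL : MLat M := Instance.mLat
theorem hO : MOrbit M := Cfsg.Agent.MonsterU.Uncond.mOrbit
theorem hT : MTrans M := Instance.mTrans

/-- The vector of an entry. -/
noncomputable def yE (e : Ent) : V := FieldsP.yv e.1 e.2.1 e.2.2

/-- The entries of the table. -/
def Val (e : Ent) : Prop := e.1 < 12 ∧ e.2.1 < nr e.1

instance (e : Ent) : Decidable (Val e) := by unfold Val; infer_instance

theorem wd_eq (e : Ent) : MTab.wd e = bj e.1 ++ PairZero.wd e.1 e.2.1 e.2.2 := by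
  unfold MTab.wd PairZero.wd
  cases e.2.2 <;> rfl

theorem yE_wd (e : Ent) : yE e = W (MTab.wd e) (vecV a0B) := by
  rw [wd_eq, W_append]
  unfold yE FieldsP.yv
  rw [M_a₀]
  rfl

theorem lt_uw : ∀ j < 12, ∀ m < nr j, ∀ n ∈ uw j m, n < 46 := by decide +kernel

theorem wd_lt {e : Ent} (h : Val e) : ∀ n ∈ MTab.wd e, n < 46 := by
  intro n hn
  unfold MTab.wd at hn
  rw [List.mem_append, List.mem_append] at hn
  rcases hn with hn | hn | hn
  · exact FieldsP.lt_bj _ h.1 n hn
  · exact lt_uw _ h.1 _ h.2 n hn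
  · cases hb : e.2.2
    · rw [hb] at hn; simp at hn
    · rw [hb] at hn
      simp only [List.mem_singleton] at hn
      omega

theorem a₀_X : M.a₀ ∈ M.X := S_sub_X hO a₀_mem_S

theorem a₁_X : M.a₁ ∈ M.X := S_sub_X hO (a₁_mem_S hG hR)

theorem yE_X {e : Ent} (h : Val e) : yE e ∈ M.X := by
  rw [yE_wd, ← M_a₀]
  exact G_X hO (FieldsP.W_mem_G' (wd_lt h)) a₀_X

theorem F_self {x : V} (hx : x ∈ M.X) : M.F x x = 8 := by
  obtain ⟨g, hg, rfl⟩ := X_eq_orbit hO hx
  rw [G_isom hO hR hg, hL.F_a₀]

/-! ### Masses -/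

theorem mass_hi {x : V} (hx : x ∈ M.X) : mass ProgZ.hiM x = (8 - M.F x (M.z x)) / 2 := by
  have h := F_z x
  rw [show F x x = 8 from F_self hx] at h
  rw [show M.F x (M.z x) = F x (z x) from rfl, h]
  ring

theorem mass_sig {x : V} (hx : x ∈ M.X) : mass sigM x = (8 - M.F x (M.σ x)) / 2 := by
  have h := F_σ x
  rw [show F x x = 8 from F_self hx] at h
  rw [show M.F x (M.σ x) = F x (σ x) from rfl, h]
  ring

theorem mass_hi_C {x : V} (hx : x ∈ M.X) {k : V ≃ₗ[ℚ] V} (hk : k ∈ M.C) : mass ProgZ.hiM (k x) = mass ProgZ.hiM x := by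
  rw [mass_hi hx, mass_hi (C_X hk hx)]
  have h1 : M.z (k x) = k (M.z x) := (congrArg (fun f : V ≃ₗ[ℚ] V => f x) (hG.z_comm k hk)).symm
  rw [h1, hR.C_isom k hk]

theorem mass_sig_C {x : V} (hx : x ∈ M.X) {k : V ≃ₗ[ℚ] V} (hk : k ∈ M.C) : mass sigM (k x) = mass sigM x := by
  rw [mass_sig hx, mass_sig (C_X hk hx), hR.σ_comm k hk, hR.C_isom k hk]

theorem ml_mem (j p : ℕ) : (ProgZ.hiM, MTab.hT.getD j 0) ∈ ml j p ∧ (sigM, sT.getD j 0) ∈ ml j p := by
  cases p <;> exact ⟨List.mem_cons_self, List.mem_cons_of_mem _ List.mem_cons_self⟩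

theorem mass_of {n : ℕ} {w : List ℕ} {c c' : ℤ} {l : List (ℕ × ℕ)} (h : chk n w c c' l = true) {m d : ℕ}
    (hm : (m, d) ∈ l) : mass m (W w (vecV a0B)) = (d : ℚ) / 4 ^ n := (chk_sound h).2.2 (m, d) hm

theorem cls_of {j : ℕ} {c c' : ℤ} (h : clsC j c c' = true) :
    mass ProgZ.hiM (W (bj j) (vecV a0B)) = ((MTab.hT.getD j 0 : ℕ) : ℚ) / 4 ^ 8 ∧
      mass sigM (W (bj j) (vecV a0B)) = ((sT.getD j 0 : ℕ) : ℚ) / 4 ^ 8 := by
  unfold clsC at h
  exact ⟨mass_of h (ml_mem j 0).1, mass_of h (ml_mem j 0).2⟩

theorem cls_all (j : Fin 12) : mass ProgZ.hiM (M.d j) = ((MTab.hT.getD j.1 0 : ℕ) : ℚ) / 4 ^ 8 ∧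
      mass sigM (M.d j) = ((sT.getD j.1 0 : ℕ) : ℚ) / 4 ^ 8 := by
  rw [M_d]
  fin_cases j
  · exact cls_of MTyp.m0
  · exact cls_of MTyp.m1
  · exact cls_of MTyp.m2
  · exact cls_of MTyp.m3
  · exact cls_of MTyp.m4
  · exact cls_of MTyp.m5
  · exact cls_of MTyp.m6
  · exact cls_of MTyp.m7
  · exact cls_of MTyp.m8
  · exact cls_of MTyp.m9
  · exact cls_of MTyp.m10
  · exact cls_of MTyp.m11

theorem cls_inj : ∀ j < 12, ∀ k < 12, MTab.hT.getD j 0 = MTab.hT.getD k 0 → sT.getD j 0 = sT.getD k 0 → j = k := by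
  decide +kernel

/-! ### The types -/

/-- The types of the representative `m` of class `j`. -/
def tp (j m : ℕ) : ℕ × ℕ := (pT.getD j []).getD m (0, 0)

/-- The representatives with a value `4 / 32`. -/
def TL : List (ℕ × ℕ × Bool × Bool) := [(1, 3, true, true), (2, 2, true, true), (3, 0, false, true), (3, 1, false, true), (3, 3, false, true), (3, 4, true, true), (3, 5, false, true), (4, 1, false, true), (4, 2, true, true), (4, 6, true, true), (5, 2, true, false), (6, 1, true, false), (6, 2, false, true), (6, 3, false, true), (6, 10, true, true), (7, 1, false, true), (7, 3, true, true), (8, 0, true, false), (8, 4, true, true), (8, 6, false, true), (9, 4, true, false), (9, 6, false, true), (10, 0, false, true), (10, 1, true, false), (10, 6, true, false), (10, 11, true, false), (11, 0, true, false), (11, 8, true, false), (11, 9, false, true), (11, 11, false, true), (11, 16, true, false)]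

/-- The masses checked for a representative. -/
noncomputable def mkL (j m : ℕ) (f0 f1 : Bool) : List (ℕ × ℕ) :=
  match f0, f1 with
  | true, true => [(mt0, pm (tp j m).1), (mt1, pm (tp j m).2)]
  | true, false => [(mt0, pm (tp j m).1)]
  | false, true => [(mt1, pm (tp j m).2)]
  | false, false => []

theorem TL_ok : ∀ r ∈ TL, typC r.1 r.2.1 (mkL r.1 r.2.1 r.2.2.1 r.2.2.2) = true := by
  simp only [TL, List.forall_mem_cons, List.not_mem_nil, false_imp_iff, implies_true, and_true]
  exact ⟨MTyp.t1_3, MTyp.t2_2, MTyp.t3_0, MTyp.t3_1, MTyp.t3_3, MTyp.t3_4, MTyp.t3_5, MTyp.t4_1, MTyp.t4_2, MTyp.t4_6, MTyp.t5_2, MTyp.t6_1, MTyp.t6_2, MTyp.t6_3, MTyp.t6_10, MTyp.t7_1, MTyp.t7_3, MTyp.t8_0, MTyp.t8_4, MTyp.t8_6, MTyp.t9_4, MTyp.t9_6, MTyp.t10_0, MTyp.t10_1, MTyp.t10_6, MTyp.t10_11, MTyp.t11_0, MTyp.t11_8, MTyp.t11_9, MTyp.t11_11, MTyp.t11_16⟩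

theorem tp_ok' : ∀ j < 12, ∀ m < nr j,
    ((vs j m).1 = 32 → (TL.any fun r => r.1 == j && (r.2.1 == m && r.2.2.1)) = true ∧
      ((tp j m).1 = 1 ∨ (tp j m).1 = 2)) ∧
    ((vs j m).2 = 32 → (TL.any fun r => r.1 == j && (r.2.1 == m && r.2.2.2)) = true ∧
      ((tp j m).2 = 1 ∨ (tp j m).2 = 2)) := by
  decide +kernel

theorem tp_ok (j : ℕ) (hj : j < 12) (m : ℕ) (hm : m < nr j) :
    ((vs j m).1 = 32 → (∃ f, (j, m, true, f) ∈ TL) ∧ ((tp j m).1 = 1 ∨ (tp j m).1 = 2)) ∧
    ((vs j m).2 = 32 → (∃ f, (j, m, f, true) ∈ TL) ∧ ((tp j m).2 = 1 ∨ (tp j m).2 = 2)) := by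
  have h := tp_ok' j hj m hm
  refine ⟨fun h1 => ⟨?_, (h.1 h1).2⟩, fun h1 => ⟨?_, (h.2 h1).2⟩⟩
  · obtain ⟨⟨j', m', f0, f1⟩, hr, h3⟩ := List.any_eq_true.1 (h.1 h1).1
    simp only [Bool.and_eq_true, beq_iff_eq] at h3
    obtain ⟨rfl, rfl, rfl⟩ := h3
    exact ⟨f1, hr⟩
  · obtain ⟨⟨j', m', f0, f1⟩, hr, h3⟩ := List.any_eq_true.1 (h.2 h1).1
    simp only [Bool.and_eq_true, beq_iff_eq] at h3
    obtain ⟨rfl, rfl, rfl⟩ := h3
    exact ⟨f0, hr⟩

theorem yE_false (j m : ℕ) : yE (j, m, false) = W (bj j ++ uw j m) (vecV a0B) := by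
  rw [yE_wd]
  have : MTab.wd (j, m, false) = bj j ++ uw j m := by
    show bj j ++ (uw j m ++ []) = _
    rw [List.append_nil]
  rw [this]

theorem mass_mt0 {j m : ℕ} (hj : j < 12) (hm : m < nr j) (h : (vs j m).1 = 32) :
    mass mt0 (yE (j, m, false)) = ((pm (tp j m).1 : ℕ) : ℚ) / 4 ^ 8 := by
  obtain ⟨⟨f1, hr⟩, -⟩ := (tp_ok j hj m hm).1 h
  have h1 : typC j m (mkL j m true f1) = true := TL_ok (j, m, true, f1) hr
  rw [yE_false]
  unfold typC at h1
  refine mass_of h1 ?_
  cases f1
  · exact List.mem_cons_self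
  · exact List.mem_cons_self

theorem mass_mt1 {j m : ℕ} (hj : j < 12) (hm : m < nr j) (h : (vs j m).2 = 32) :
    mass mt1 (yE (j, m, false)) = ((pm (tp j m).2 : ℕ) : ℚ) / 4 ^ 8 := by
  obtain ⟨⟨f0, hr⟩, -⟩ := (tp_ok j hj m hm).2 h
  have h1 : typC j m (mkL j m f0 true) = true := TL_ok (j, m, f0, true) hr
  rw [yE_false]
  unfold typC at h1
  refine mass_of h1 ?_
  cases f0
  · exact List.mem_cons_self
  · exact List.mem_cons_of_mem _ List.mem_cons_self

/-! ### Colours -/

theorem psi_eq {p : ℕ} {q : ℚ} (hp : p = 1 ∨ p = 2) (hq : q = 8 - 2 * (((pm p : ℕ) : ℚ) / 4 ^ 8)) : q = 1 ↔ p = 2 := by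
  rw [hq]
  rcases hp with rfl | rfl
  · constructor
    · intro h
      exfalso
      norm_num [pm] at h
    · intro h; omega
  · constructor
    · intro _; rfl
    · intro _
      norm_num [pm]

theorem col_a₀_of {y : V} (hy : y ∈ M.X) {c : ℤ} {p : ℕ} (hF : F (vecV a0B) y = (c : ℚ) / 2 ^ 8)
    (h : c = 32 → (p = 1 ∨ p = 2) ∧ mass mt0 y = ((pm p : ℕ) : ℚ) / 4 ^ 8) : col M M.a₀ y = ecol c p := by
  unfold col
  rw [show M.F M.a₀ y = F (vecV a0B) y by rw [M_a₀]; rfl, hF]
  apply code_div
  intro hc
  obtain ⟨hp, hm⟩ := h hc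
  refine psi_eq hp ?_
  rw [psi_a₀ hG hR hL hO MEnt.hT, ← hm]
  have h1 := F_t₀ y
  rw [show F y y = 8 from F_self hy] at h1
  exact h1

theorem col_a₁_of {y : V} (hy : y ∈ M.X) {c : ℤ} {p : ℕ} (hF : F (vecV a1B) y = (c : ℚ) / 2 ^ 8)
    (h : c = 32 → (p = 1 ∨ p = 2) ∧ mass mt1 y = ((pm p : ℕ) : ℚ) / 4 ^ 8) : col M M.a₁ y = ecol c p := by
  unfold col
  rw [show M.F M.a₁ y = F (vecV a1B) y by rw [M_a₁]; rfl, hF]
  apply code_div
  intro hc
  obtain ⟨hp, hm⟩ := h hc
  refine psi_eq hp ?_
  rw [psi_a₁ hG hR hL hO MEnt.hT, ← hm]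
  have h1 := F_t₁ y
  rw [show F y y = 8 from F_self hy] at h1
  exact h1

theorem col_false {j m : ℕ} (hj : j < 12) (hm : m < nr j) :
    col M M.a₀ (yE (j, m, false)) = ecol (vs j m).1 (tp j m).1 ∧
      col M M.a₁ (yE (j, m, false)) = ecol (vs j m).2 (tp j m).2 := by
  have hX : yE (j, m, false) ∈ M.X := yE_X ⟨hj, hm⟩
  obtain ⟨hF0, hF1⟩ := FieldsP.F_false hj hm
  refine ⟨col_a₀_of hX hF0 fun hc => ⟨((tp_ok j hj m hm).1 hc).2, mass_mt0 hj hm hc⟩,
    col_a₁_of hX hF1 fun hc => ⟨((tp_ok j hj m hm).2 hc).2, mass_mt1 hj hm hc⟩⟩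

theorem E1_mem : W [1] ∈ M.G := FieldsP.W_mem_G' (by simp)

theorem col_true {j m : ℕ} (hj : j < 12) (hm : m < nr j) :
    col M M.a₀ (yE (j, m, true)) = ecol (vs j m).2 (tp j m).2 ∧
      col M M.a₁ (yE (j, m, true)) = ecol (vs j m).1 (tp j m).1 := by
  have e : yE (j, m, true) = W [1] (yE (j, m, false)) := FieldsP.yv_true j m
  obtain ⟨h0, h1⟩ := col_false hj hm
  have e1 : W [1] M.a₁ = M.a₀ := by rw [M_a₁, M_a₀]; exact FieldsP.x1_a1
  have e0 : W [1] M.a₀ = M.a₁ := by rw [M_a₁, M_a₀]; exact FieldsP.x1_a0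
  constructor
  · rw [← h1, e]
    nth_rewrite 1 [← e1]
    exact col_smul hG hR hL hO MEnt.hT E1_mem a₁_X _
  · rw [← h0, e]
    nth_rewrite 1 [← e0]
    exact col_smul hG hR hL hO MEnt.hT E1_mem a₀_X _

/-- The colours of the representatives. -/
def kT : List (List (ℕ × ℕ)) := [
  [(2, 0), (1, 1), (2, 2), (5, 5)],
  [(2, 1), (5, 5), (2, 2), (6, 6)],
  [(2, 5), (5, 1), (6, 6), (5, 5), (8, 8), (3, 3)],
  [(1, 6), (5, 6), (5, 5), (2, 6), (6, 6), (5, 6), (7, 7), (8, 8), (8, 8), (8, 3)],
  [(5, 5), (5, 6), (6, 6), (2, 5), (8, 8), (7, 7), (4, 4)],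
  [(2, 3), (5, 8), (6, 8), (3, 5), (8, 1), (8, 8), (7, 7), (8, 8), (5, 5)],
  [(8, 5), (6, 8), (8, 6), (3, 6), (5, 8), (2, 8), (8, 8), (7, 7), (7, 8), (8, 8), (6, 6)],
  [(8, 8), (5, 4), (7, 7), (6, 4), (8, 7)],
  [(6, 5), (8, 8), (8, 3), (5, 5), (6, 6), (8, 8), (8, 6), (8, 7), (8, 7), (7, 7), (5, 8), (8, 7), (8, 8), (5, 7)],
  [(5, 8), (7, 5), (7, 8), (2, 7), (6, 8), (8, 8), (7, 6), (8, 8), (3, 7), (8, 8), (7, 7), (5, 5)],
  [(7, 6), (6, 8), (5, 8), (8, 8), (8, 7), (5, 7), (6, 7), (8, 8), (7, 8), (7, 7), (8, 8), (4, 7)],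
  [(6, 5), (5, 8), (7, 7), (8, 7), (7, 8), (8, 8), (8, 8), (5, 8), (6, 8), (8, 6), (8, 8), (7, 6), (8, 8), (7, 8), (7, 8), (7, 7), (4, 8), (8, 8), (5, 8), (5, 7), (3, 8)]]

/-- The colours of a representative. -/
def kc (j m : ℕ) : ℕ × ℕ := (kT.getD j []).getD m (9, 9)

/-- The colour of `(a₀, y)`. -/
def k0 (e : Ent) : ℕ := match e.2.2 with
  | true => (kc e.1 e.2.1).2
  | false => (kc e.1 e.2.1).1

/-- The colour of `(a₁, y)`. -/
def k1 (e : Ent) : ℕ := match e.2.2 with
  | true => (kc e.1 e.2.1).1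
  | false => (kc e.1 e.2.1).2

theorem kT_ok : ∀ j < 12, ∀ m < nr j, (ecol (vs j m).1 (tp j m).1).1 = (kc j m).1 ∧
    (ecol (vs j m).2 (tp j m).2).1 = (kc j m).2 := by decide +kernel

theorem col_k0 {e : Ent} (h : Val e) : (col M M.a₀ (yE e)).1 = k0 e := by
  obtain ⟨j, m, b⟩ := e
  cases b
  · rw [(col_false h.1 h.2).1]
    exact (kT_ok j h.1 m h.2).1
  · rw [(col_true h.1 h.2).1]
    exact (kT_ok j h.1 m h.2).2

theorem col_k1 {e : Ent} (h : Val e) : (col M M.a₁ (yE e)).1 = k1 e := by
  obtain ⟨j, m, b⟩ := e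
  cases b
  · rw [(col_false h.1 h.2).2]
    exact (kT_ok j h.1 m h.2).2
  · rw [(col_true h.1 h.2).2]
    exact (kT_ok j h.1 m h.2).1

/-! ### The cover -/

theorem cov_S {j : Fin 12} {s : V} (hs : s ∈ M.S) : ∃ g ∈ M.C, ∃ e : Ent, Val e ∧ e.1 = j.1 ∧ g s = M.a₀ ∧
    g (M.d j) = yE e := by
  obtain ⟨i, l, hl, hd, e⟩ := Instance.tab.cov j s hs
  have hu := Instance.tab.u_mem j i
  refine ⟨Instance.tab.u j i * l⁻¹, M.C.mul_mem hu (M.C.inv_mem hl),
    (j.1, Instance.words.m j i, Instance.words.b j i), ⟨j.2, Instance.words.lt j i⟩, rfl, ?_, ?_⟩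
  · rw [e, LinearEquiv.mul_apply, inv_apply', apply_inv']
  · have h1 : l⁻¹ (M.d j) = M.d j := (eq_inv_apply l hd).symm
    rw [LinearEquiv.mul_apply, h1]
    exact FieldsP.y_eq Instance.words j i

theorem cov_N {y : V} (hy : y ∈ M.X) : ∃ g ∈ M.C, g M.a₀ = M.a₀ ∧ ∃ e : Ent, Val e ∧ g y = yE e ∧
    ∃ j : Fin 12, e.1 = j.1 ∧ ∃ k ∈ M.C, y = k (M.d j) := by
  obtain ⟨j, k, hk, rfl⟩ := hy
  have hs : k⁻¹ M.a₀ ∈ M.S := C_S (M.C.inv_mem hk) a₀_mem_S
  obtain ⟨g, hg, e, he, hj, h1, h2⟩ := cov_S (j := j) hs
  refine ⟨g * k⁻¹, M.C.mul_mem hg (M.C.inv_mem hk), h1, e, he, ?_, j, hj, k, hk, rfl⟩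
  rw [LinearEquiv.mul_apply, inv_apply', h2]

theorem cov_all {x y : V} (hx : x ∈ M.X) (hy : y ∈ M.X) : ∃ g ∈ M.G, g x = M.a₀ ∧ ∃ e : Ent, Val e ∧ g y = yE e := by
  obtain ⟨g, hg, rfl⟩ := X_eq_orbit hO hx
  obtain ⟨k, hk, h0, e, he, h1, -⟩ := cov_N (G_X hO (M.G.inv_mem hg) hy)
  refine ⟨k * g⁻¹, M.G.mul_mem (C_le hk) (M.G.inv_mem hg), ?_, e, he, h1⟩
  rw [LinearEquiv.mul_apply, inv_apply', h0]

/-! ### The certificates -/

/-- Conjugate under the stabiliser of `a₀`. -/
def Eqv (y y' : V) : Prop := ∃ g ∈ M.G, g M.a₀ = M.a₀ ∧ g y = y'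

theorem Eqv.refl (y : V) : Eqv y y := ⟨1, M.G.one_mem, rfl, rfl⟩

theorem Eqv.symm {y y' : V} (h : Eqv y y') : Eqv y' y := by
  obtain ⟨g, hg, h0, rfl⟩ := h
  exact ⟨g⁻¹, M.G.inv_mem hg, (eq_inv_apply g h0).symm, inv_apply' g y⟩

theorem Eqv.trans {y y' y'' : V} (h : Eqv y y') (h' : Eqv y' y'') : Eqv y y'' := by
  obtain ⟨g, hg, h0, rfl⟩ := h
  obtain ⟨k, hk, h1, rfl⟩ := h'
  exact ⟨k * g, M.G.mul_mem hk hg, by rw [LinearEquiv.mul_apply, h0, h1], rfl⟩

/-- The letters fixing `a₀` used in the certificates. -/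
def LF : List ℕ := [3, 4, 5, 6, 8, 10, 11, 12, 13, 14, 15, 16, 17, 18, 19, 20, 21, 22, 23, 24, 39, 40, 41]

/-- The kernel check that a word fixes `a₀`. -/
noncomputable def fixA (w : List ℕ) : Bool :=
  check (w.map ProgTable.prog) (up 8 a0B) (([] : List ℕ).map ProgTable.prog) (up 8 a0B)

theorem fixA_sound {w : List ℕ} (h : fixA w = true) : W w (vecV a0B) = vecV a0B := by
  have h1 : W w (vecV a0B) = W [] (vecV a0B) := W_eq_of_up (n := 8) h
  rw [h1, W_nil]
  rfl

theorem LF_ok : ∀ n ∈ LF, n < 46 ∧ fixA [n] = true := by decide +kernel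

theorem fixA_1 : fixA [36, 39, 42] = true := by decide +kernel

theorem fixA_2 : fixA [25, 39, 42, 42, 25] = true := by decide +kernel

/-- The word is a product of letters and of two blocks fixing `a₀`. -/
def parse : ℕ → List ℕ → Bool
  | 0, l => l.isEmpty
  | n + 1, l => l.isEmpty || ((match l with
      | a :: t => LF.elem a && parse n t
      | [] => true) || ((l.take 3 == [36, 39, 42] && parse n (l.drop 3)) ||
      (l.take 5 == [25, 39, 42, 42, 25] && parse n (l.drop 5))))

/-- The word acts as an element of the group fixing `a₀`. -/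
def Fix (w : List ℕ) : Prop := (∀ n ∈ w, n < 46) ∧ W w (vecV a0B) = vecV a0B

theorem Fix.nil : Fix [] := ⟨by simp, by rw [W_nil]; rfl⟩

theorem Fix.append {w w' : List ℕ} (h : Fix w) (h' : Fix w') : Fix (w ++ w') := by
  refine ⟨fun n hn => ?_, ?_⟩
  · rcases List.mem_append.1 hn with hn | hn
    · exact h.1 n hn
    · exact h'.1 n hn
  · rw [W_append, LinearEquiv.mul_apply, h.2, h'.2]

theorem parse_sound {n : ℕ} {l : List ℕ} (h : parse n l = true) : Fix l := by
  induction n generalizing l with
  | zero =>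
    have h1 : l = [] := List.isEmpty_iff.1 h
    rw [h1]; exact Fix.nil
  | succ n ih =>
    unfold parse at h
    rw [Bool.or_eq_true, Bool.or_eq_true, Bool.or_eq_true] at h
    rcases h with h | h | h | h
    · have h1 : l = [] := List.isEmpty_iff.1 h
      rw [h1]; exact Fix.nil
    · cases l with
      | nil => exact Fix.nil
      | cons a t =>
        have h' : (LF.elem a && parse n t) = true := h
        rw [Bool.and_eq_true] at h'
        obtain ⟨q1, q2⟩ := LF_ok a (List.elem_iff.1 h'.1)
        have : Fix [a] := ⟨by simpa using q1, fixA_sound q2⟩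
        exact this.append (ih h'.2)
    · rw [Bool.and_eq_true] at h
      have h1 : l.take 3 = [36, 39, 42] := eq_of_beq h.1
      have h2 : Fix (l.take 3) := by
        rw [h1]; exact ⟨by decide, fixA_sound fixA_1⟩
      have h3 := h2.append (ih h.2)
      rwa [List.take_append_drop] at h3
    · rw [Bool.and_eq_true] at h
      have h1 : l.take 5 = [25, 39, 42, 42, 25] := eq_of_beq h.1
      have h2 : Fix (l.take 5) := by
        rw [h1]; exact ⟨by decide, fixA_sound fixA_2⟩
      have h3 := h2.append (ih h.2)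
      rwa [List.take_append_drop] at h3

theorem W_fix {w : List ℕ} (h : Fix w) : W w ∈ M.G ∧ W w M.a₀ = M.a₀ := by
  refine ⟨FieldsP.W_mem_G' h.1, ?_⟩
  rw [M_a₀]
  exact h.2

/-- The checks on a certificate. -/
def cOK (r : Ent × List ℕ × Ent) : Bool :=
  (parse 40 r.2.1) && decide (Val r.1) && decide (Val r.2.2) && (k0 r.1 == k0 r.2.2) &&
    (decide (v1 r.2.2 = 32 → p1 r.2.2 = 1 ∨ p1 r.2.2 = 2)) &&
    ((List.range (nr r.2.2.1)).all fun m => [true, false].all fun b =>
      !(k0 (r.2.2.1, m, b) == k0 r.2.2) || !(k1 (r.2.2.1, m, b) == k1 r.2.2) ||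
        (m == r.2.2.2.1 && b == r.2.2.2.2))

theorem ecol_k1 {e : Ent} (h : Val e) : (ecol (v1 e) (p1 e)).1 = k1 e := by
  obtain ⟨j, m, b⟩ := e
  cases b
  · exact (kT_ok j h.1 m h.2).2
  · exact (kT_ok j h.1 m h.2).1

/-- **A certificate.** -/
theorem eqv_of_cer {e e' : Ent} {h : List ℕ} (hc : cer e h e' = true) (hok : cOK (e, h, e') = true) :
    Eqv (yE e) (yE e') := by
  unfold cOK at hok
  simp only [Bool.and_eq_true] at hok
  obtain ⟨⟨⟨⟨⟨o1, o2⟩, o3⟩, o4⟩, o5⟩, o6⟩ := hok
  have he : Val e := of_decide_eq_true o2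
  have he' : Val e' := of_decide_eq_true o3
  have hk : k0 e = k0 e' := eq_of_beq o4
  have hp := of_decide_eq_true o5
  obtain ⟨hWG, hW0⟩ := W_fix (w := h) (parse_sound o1)
  unfold cer at hc
  have hc' := hc
  obtain ⟨c0, c1, -⟩ := chk_sound hc
  set v : V := W (MTab.wd e ++ h) (vecV a0B) with hv
  have hvy : v = W h (yE e) := by rw [hv, W_append, yE_wd]; rfl
  have hvX : v ∈ M.X := by rw [hvy]; exact G_X hO hWG (yE_X he)
  have hcol0 : (col M M.a₀ v).1 = k0 e' := by
    rw [← hk, ← col_k0 he, hvy]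
    nth_rewrite 1 [← hW0]
    rw [col_smul hG hR hL hO MEnt.hT hWG a₀_X]
  have hcol1 : (col M M.a₁ v).1 = k1 e' := by
    rw [← ecol_k1 he']
    congr 1
    refine col_a₁_of hvX c1 fun hc => ⟨hp hc, ?_⟩
    refine mass_of hc' ?_
    rcases hp hc with h1 | h1 <;> rw [h1] <;>
      exact List.mem_cons_of_mem _ (List.mem_cons_of_mem _ List.mem_cons_self)
  obtain ⟨n, hn, hn0, e'', he'', hy'', j, hj, k, hk', hvk⟩ := cov_N hvX
  have hj' : e''.1 = e'.1 := by
    rw [hj]
    obtain ⟨m1, m2⟩ := cls_all j
    have g1 : mass ProgZ.hiM v = mass ProgZ.hiM (M.d j) := by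
      rw [hvk]; exact mass_hi_C ⟨j, 1, M.C.one_mem, rfl⟩ hk'
    have g2 : mass sigM v = mass sigM (M.d j) := by
      rw [hvk]; exact mass_sig_C ⟨j, 1, M.C.one_mem, rfl⟩ hk'
    have g3 := mass_of hc' (ml_mem e'.1 (p1 e')).1
    have g4 := mass_of hc' (ml_mem e'.1 (p1 e')).2
    rw [← hv] at g3 g4
    rw [g1, m1] at g3
    rw [g2, m2] at g4
    have g5 : MTab.hT.getD j.1 0 = MTab.hT.getD e'.1 0 := by
      have := (div_left_inj' (by norm_num : (4 : ℚ) ^ 8 ≠ 0)).1 g3
      exact_mod_cast this
    have g6 : sT.getD j.1 0 = sT.getD e'.1 0 := by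
      have := (div_left_inj' (by norm_num : (4 : ℚ) ^ 8 ≠ 0)).1 g4
      exact_mod_cast this
    exact cls_inj j.1 j.2 e'.1 he'.1 g5 g6
  have hk0 : k0 e'' = k0 e' := by
    rw [← col_k0 he'', ← hcol0, ← hy'']
    nth_rewrite 1 [← hn0]
    rw [col_smul hG hR hL hO MEnt.hT (C_le hn) a₀_X]
  have hk1 : k1 e'' = k1 e' := by
    rw [← col_k1 he'', ← hcol1, ← hy'']
    nth_rewrite 1 [← C_a₁ hR hn hn0]
    rw [col_smul hG hR hL hO MEnt.hT (C_le hn) a₁_X]
  have hee : e'' = e' := by
    obtain ⟨j'', m'', b''⟩ := e''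
    dsimp only at hj'
    subst hj'
    have q1 := List.all_eq_true.1 o6 m'' (List.mem_range.2 he''.2)
    have q2 := List.all_eq_true.1 q1 b'' (by cases b'' <;> simp)
    simp only [hk0, hk1, beq_self_eq_true, Bool.not_true, Bool.false_or, Bool.and_eq_true, beq_iff_eq] at q2
    rw [q2.1, q2.2]
  refine Eqv.trans ⟨W h, hWG, hW0, rfl⟩ ?_
  rw [← hvy, ← hee]
  exact ⟨n, C_le hn, hn0, hy''⟩

/-! ### The chain -/

/-- The roots of the colours. -/
def rts : List Ent := [(0, 0, true), (2, 1, true), (0, 0, false), (6, 3, false), (11, 16, false), (2, 0, true), (4, 1, true), (9, 1, false), (8, 2, false)]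

/-- The root vectors. -/
noncomputable def rv (k : ℕ) : V := yE (rts.getD k (0, 0, true))

/-- The entry is equivalent to the root of its colour. -/
def Good (e : Ent) : Prop := Eqv (yE e) (rv (k0 e))

/-- Equality of entries. -/
def eqE (a b : Ent) : Bool := Nat.beq a.1 b.1 && (Nat.beq a.2.1 b.2.1 && (a.2.2 == b.2.2))

theorem eqE_sound {a b : Ent} (h : eqE a b = true) : a = b := by
  unfold eqE at h
  rw [Bool.and_eq_true, Bool.and_eq_true] at h
  obtain ⟨h1, h2, h3⟩ := h
  exact Prod.ext (Nat.eq_of_beq_eq_true h1) (Prod.ext (Nat.eq_of_beq_eq_true h2) (eq_of_beq h3))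

/-- The chain of the certificates. -/
noncomputable def chain (fin : List Ent → Bool) (L : List (Ent × List ℕ × Ent)) : List Ent → Bool :=
  List.rec (motive := fun _ => List Ent → Bool) fin
    (fun r _ ih K => and (cOK r) (and (K.any (eqE r.2.2)) (ih (r.1 :: K)))) L

theorem chain_sound {fin : List Ent → Bool} {L : List (Ent × List ℕ × Ent)} {K : List Ent}
    (hL : ∀ r ∈ L, cer r.1 r.2.1 r.2.2 = true) (hK : ∀ e ∈ K, Good e) (h : chain fin L K = true) :
    ∃ K', (∀ e ∈ K', Good e) ∧ fin K' = true := by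
  induction L generalizing K with
  | nil => exact ⟨K, hK, h⟩
  | cons r L ih =>
    have h' : and (cOK r) (and (K.any (eqE r.2.2)) (chain fin L (r.1 :: K))) = true := h
    rw [Bool.and_eq_true, Bool.and_eq_true] at h'
    obtain ⟨h1, h2, h3⟩ := h'
    refine ih (fun r hr => hL r (List.mem_cons_of_mem _ hr)) ?_ h3
    intro e he
    rcases List.mem_cons.1 he with rfl | he
    · rw [List.any_eq_true] at h2
      obtain ⟨e', he', h4⟩ := h2
      have h5 := eqE_sound h4
      have h6 := hK e' he'
      rw [← h5] at h6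
      have h7 := eqv_of_cer (hL r List.mem_cons_self) h1
      have h8 : k0 r.1 = k0 r.2.2 := by
        unfold cOK at h1
        simp only [Bool.and_eq_true] at h1
        exact eq_of_beq h1.1.1.2
      unfold Good
      rw [h8]
      exact h7.trans h6
    · exact hK e he

/-- All certificates. -/
def LL : List (Ent × List ℕ × Ent) := MCer0.L ++ MCer1.L ++ MCer2.L ++ MCer3.L ++ MCer4.L ++ MCer5.L ++ MCer6.L ++ MCer7.L ++ MCer8.L

theorem LL_ok : ∀ r ∈ LL, cer r.1 r.2.1 r.2.2 = true := by
  intro r hr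
  simp only [LL, List.mem_append] at hr
  rcases hr with (((((((h | h) | h) | h) | h) | h) | h) | h) | h
  · exact MCer0.ok r h
  · exact MCer1.ok r h
  · exact MCer2.ok r h
  · exact MCer3.ok r h
  · exact MCer4.ok r h
  · exact MCer5.ok r h
  · exact MCer6.ok r h
  · exact MCer7.ok r h
  · exact MCer8.ok r h

/-- The final check. -/
def finC (K : List Ent) : Bool :=
  (List.range 12).all fun j => (List.range (nr j)).all fun m => [true, false].all fun b =>
    (k0 (j, m, b) == 2) || K.any (eqE (j, m, b))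

private noncomputable def _root_.Cfsg.Agent.LsF.fa8f8a5_22 : {f // @Cfsg.Agent.H816.MEnt.parse = f} := ⟨_, by first | (delta Cfsg.Agent.H816.MEnt.parse Cfsg.Agent.H816.MEnt.parse._f Nat.brecOn.go Nat.brecOn; rewrite [Cfsg.Agent.LsF.instNBEq_pat, Cfsg.Agent.LsF.and_eq, Cfsg.Agent.LsF.or_eq, Cfsg.Agent.LsF.elem_eq, Cfsg.Agent.LsF.take_eq, Cfsg.Agent.LsF.drop_eq, Cfsg.Agent.LsF.isEmpty_eq, Cfsg.Agent.LsF.instBEq_eq]; (try delta Cfsg.Agent.H816.MEnt.parse.match_2); (try delta Cfsg.Agent.H816.MEnt.parse.match_1); (try delta Nat.casesOn List.casesOn); first | dsimp -zeta only | exact rfl) | exact rfl⟩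
private noncomputable def _root_.Cfsg.Agent.LsF.fa8f8a5_23 : {f // @Cfsg.Agent.MonsterX.CertUTab.nr = f} := ⟨_, by first | (delta Cfsg.Agent.MonsterX.CertUTab.nr; rewrite [Cfsg.Agent.LsF.fa8f8a5_13.2, Cfsg.Agent.LsF.length_eq]; exact rfl) | exact rfl⟩
private noncomputable def _root_.Cfsg.Agent.LsF.fa8f8a5_24 : {f // @Cfsg.Agent.H816.MEnt.kc = f} := ⟨_, by first | (delta Cfsg.Agent.H816.MEnt.kc; rewrite [Cfsg.Agent.LsF.getD_eq]; exact rfl) | exact rfl⟩
private noncomputable def _root_.Cfsg.Agent.LsF.fa8f8a5_25 : {f // @Cfsg.Agent.H816.MEnt.k0 = f} := ⟨_, by first | (delta Cfsg.Agent.H816.MEnt.k0; rewrite [Cfsg.Agent.LsF.fa8f8a5_24.2]; (try delta Cfsg.Agent.H816.MEnt.k0.match_1); (try delta Bool.casesOn); exact rfl) | exact rfl⟩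
private noncomputable def _root_.Cfsg.Agent.LsF.fa8f8a5_19 : {f // @Cfsg.Agent.H816.MTab.v1 = f} := ⟨_, by first | (delta Cfsg.Agent.H816.MTab.v1; rewrite [Cfsg.Agent.LsF.fa8f8a5_15.2]; (try delta Cfsg.Agent.H816.MTab.v0.match_1); (try delta Bool.casesOn); exact rfl) | exact rfl⟩
private noncomputable def _root_.Cfsg.Agent.LsF.fa8f8a5_20 : {f // @Cfsg.Agent.H816.MTab.p1 = f} := ⟨_, by first | (delta Cfsg.Agent.H816.MTab.p1; rewrite [Cfsg.Agent.LsF.getD_eq]; (try delta Cfsg.Agent.H816.MTab.v0.match_1); (try delta Bool.casesOn); exact rfl) | exact rfl⟩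
private noncomputable def _root_.Cfsg.Agent.LsF.fa8f8a5_26 : {f // @Cfsg.Agent.H816.MEnt.k1 = f} := ⟨_, by first | (delta Cfsg.Agent.H816.MEnt.k1; rewrite [Cfsg.Agent.LsF.fa8f8a5_24.2]; (try delta Cfsg.Agent.H816.MEnt.k0.match_1); (try delta Bool.casesOn); exact rfl) | exact rfl⟩
private noncomputable def _root_.Cfsg.Agent.LsF.fa8f8a5_27 : {f // @Cfsg.Agent.H816.MEnt.cOK = f} := ⟨_, by first | (delta Cfsg.Agent.H816.MEnt.cOK Cfsg.Agent.H816.MEnt.Val Cfsg.Agent.H816.MEnt.instDecidableVal; rewrite [Cfsg.Agent.LsF.fa8f8a5_22.2, Cfsg.Agent.LsF.fa8f8a5_23.2, Cfsg.Agent.LsF.fa8f8a5_25.2, Cfsg.Agent.LsF.fa8f8a5_19.2, Cfsg.Agent.LsF.fa8f8a5_20.2, Cfsg.Agent.LsF.fa8f8a5_26.2, Cfsg.Agent.LsF.nbeq_pat, Cfsg.Agent.LsF.bbeq_pat, Cfsg.Agent.LsF.and_eq, Cfsg.Agent.LsF.or_eq, Cfsg.Agent.LsF.not_eq, Cfsg.Agent.LsF.instDecEq_eq, Cfsg.Agent.LsF.decLt_eq, Cfsg.Agent.LsF.all_eq, Cfsg.Agent.LsF.range_eq, Cfsg.Agent.LsF.instIDecEq_eq, Cfsg.Agent.LsF.dAnd_eq, Cfsg.Agent.LsF.dOr_eq, Cfsg.Agent.LsF.dAllP_eq, Cfsg.Agent.LsF.decide_eq];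 exact rfl) | exact rfl⟩
private noncomputable def _root_.Cfsg.Agent.LsF.fa8f8a5_28 : {f // @Cfsg.Agent.H816.MEnt.eqE = f} := ⟨_, by first | (delta Cfsg.Agent.H816.MEnt.eqE; rewrite [Cfsg.Agent.LsF.bbeq_pat, Cfsg.Agent.LsF.and_eq]; exact rfl) | exact rfl⟩
private noncomputable def _root_.Cfsg.Agent.LsF.fa8f8a5_29 : {f // @Cfsg.Agent.H816.MEnt.chain = f} := ⟨_, by first | (delta Cfsg.Agent.H816.MEnt.chain; rewrite [Cfsg.Agent.LsF.fa8f8a5_27.2, Cfsg.Agent.LsF.fa8f8a5_28.2, Cfsg.Agent.LsF.and_eq, Cfsg.Agent.LsF.any_eq]; exact rfl) | exact rfl⟩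
private noncomputable def _root_.Cfsg.Agent.LsF.fa8f8a5_30 : {f // @Cfsg.Agent.H816.MEnt.finC = f} := ⟨_, by first | (delta Cfsg.Agent.H816.MEnt.finC; rewrite [Cfsg.Agent.LsF.fa8f8a5_23.2, Cfsg.Agent.LsF.fa8f8a5_25.2, Cfsg.Agent.LsF.fa8f8a5_28.2, Cfsg.Agent.LsF.nbeq_pat, Cfsg.Agent.LsF.or_eq, Cfsg.Agent.LsF.all_eq, Cfsg.Agent.LsF.any_eq, Cfsg.Agent.LsF.range_eq]; exact rfl) | exact rfl⟩
private noncomputable def _root_.Cfsg.Agent.LsF.fa8f8a5_31 : {f // @Cfsg.Agent.H816.MEnt.LL = f} := ⟨_, by first | (delta Cfsg.Agent.H816.MEnt.LL; rewrite [Cfsg.Agent.LsF.lappend_pat]; exact rfl) | exact rfl⟩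
theorem chain_ok : chain finC LL rts = true := by ((try (rewrite [Cfsg.Agent.LsF.fa8f8a5_29.2, Cfsg.Agent.LsF.fa8f8a5_30.2, Cfsg.Agent.LsF.fa8f8a5_31.2])); decide +kernel)

theorem rts_ok : ∀ k < 9, k0 (rts.getD k (0, 0, true)) = k := by decide +kernel

theorem rts_good : ∀ e ∈ rts, Good e := by
  intro e he
  obtain ⟨k, hk, rfl⟩ := List.getElem_of_mem he
  have hk' : k < 9 := hk
  have h1 := rts_ok k hk'
  rw [List.getD_eq_getElem _ _ hk] at h1
  unfold Good rv
  rw [h1, List.getD_eq_getElem _ _ hk]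
  exact Eqv.refl _

theorem k0_two : ∀ j < 12, ∀ m < nr j, ∀ b : Bool, k0 (j, m, b) = 2 → FieldsP.vb j m b = 0 := by decide +kernel

theorem yE_00f : yE (0, 0, false) = M.a₁ := by
  show FieldsP.yv 0 0 false = _
  unfold FieldsP.yv
  have h1 : PairZero.wd 0 0 false = [1] := by decide
  have h2 : W (bj 0) M.a₀ = M.a₀ := by
    have : bj 0 = [] := by decide +kernel
    rw [this, W_nil]; rfl
  rw [h1, h2, M_a₀, M_a₁, FieldsP.x1_a0]

theorem yE_00t : yE (0, 0, true) = M.a₀ := by
  have e : yE (0, 0, true) = W [1] (yE (0, 0, false)) := FieldsP.yv_true 0 0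
  rw [e, yE_00f, M_a₁, M_a₀, FieldsP.x1_a1]

theorem F_yE {e : Ent} (h : Val e) : M.F M.a₀ (yE e) = (FieldsP.vb e.1 e.2.1 e.2.2 : ℚ) / 2 ^ 8 := by
  rw [M_a₀]
  exact FieldsP.F_a₀_yv h.1 h.2 e.2.2

/-- **All entries are equivalent to the roots.** -/
theorem good {e : Ent} (h : Val e) : Good e := by
  obtain ⟨K, hK, hf⟩ := chain_sound LL_ok rts_good chain_ok
  obtain ⟨j, m, b⟩ := e
  have h1 := List.all_eq_true.1 hf j (List.mem_range.2 h.1)
  have h2 := List.all_eq_true.1 h1 m (List.mem_range.2 h.2)
  have h3 := List.all_eq_true.1 h2 b (by cases b <;> simp)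
  rw [Bool.or_eq_true] at h3
  rcases h3 with h3 | h3
  · have h4 : k0 (j, m, b) = 2 := eq_of_beq h3
    have h5 := k0_two j h.1 m h.2 b h4
    have h6 : M.F M.a₀ (yE (j, m, b)) = 0 := by
      rw [F_yE h]
      show ((FieldsP.vb j m b : ℤ) : ℚ) / 2 ^ 8 = 0
      rw [h5]; norm_num
    unfold Good
    rw [h4]
    have h7 : rv 2 = M.a₁ := yE_00f
    rw [h7]
    obtain ⟨jj, k, hk, hy⟩ := yE_X h
    have h8 : M.F (k⁻¹ M.a₀) (M.d jj) = 0 := by
      rw [← hR.C_isom k hk, apply_inv', ← hy, h6]
    obtain ⟨g, hg, g0, g1⟩ := hO.trans₂ jj (k⁻¹ M.a₀) (C_S (M.C.inv_mem hk) a₀_mem_S) h8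
    refine ⟨g * k⁻¹, M.G.mul_mem hg (M.G.inv_mem (C_le hk)), g0, ?_⟩
    rw [hy, LinearEquiv.mul_apply, inv_apply', g1]
  · rw [List.any_eq_true] at h3
    obtain ⟨e', he', h4⟩ := h3
    rw [eqE_sound h4]
    exact hK e' he'

/-! ### The orbits on pairs -/

/-- **Pairs of the same colour are conjugate.** -/
theorem tr {x y x' y' : V} (hx : x ∈ M.X) (hy : y ∈ M.X) (hx' : x' ∈ M.X) (hy' : y' ∈ M.X)
    (h : col M x y = col M x' y') : ∃ g ∈ M.G, g x = x' ∧ g y = y' := by
  obtain ⟨g, hg, g0, e, he, g1⟩ := cov_all hx hy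
  obtain ⟨g', hg', g0', e', he', g1'⟩ := cov_all hx' hy'
  have h0 : col M M.a₀ (yE e) = col M x y := by
    rw [← g0, ← g1, col_smul hG hR hL hO MEnt.hT hg hx]
  have h0' : col M M.a₀ (yE e') = col M x' y' := by
    rw [← g0', ← g1', col_smul hG hR hL hO MEnt.hT hg' hx']
  have h1 : k0 e = k0 e' := by
    rw [← col_k0 he, ← col_k0 he', h0, h0', h]
  obtain ⟨k, hk, k0', k1'⟩ := ((good he).trans (by rw [h1]; exact (good he').symm) : Eqv (yE e) (yE e'))
  refine ⟨g'⁻¹ * (k * g), M.G.mul_mem (M.G.inv_mem hg') (M.G.mul_mem hk hg), ?_, ?_⟩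
  · rw [LinearEquiv.mul_apply, LinearEquiv.mul_apply, g0, k0', ← g0', inv_apply']
  · rw [LinearEquiv.mul_apply, LinearEquiv.mul_apply, g1, k1', ← g1', inv_apply']

theorem k0_zero : ∀ j < 12, ∀ m < nr j, ∀ b : Bool, k0 (j, m, b) = 0 → (j, m, b) = (0, 0, true) := by decide +kernel

theorem diag {x y : V} (hx : x ∈ M.X) (hy : y ∈ M.X) : col M x y = 0 ↔ x = y := by
  constructor
  · intro h
    obtain ⟨g, hg, g0, e, he, g1⟩ := cov_all hx hy
    have h0 : col M M.a₀ (yE e) = col M x y := by
      rw [← g0, ← g1, col_smul hG hR hL hO MEnt.hT hg hx]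
    have h1 : k0 e = 0 := by
      rw [← col_k0 he, h0, h]
      rfl
    have h2 : e = (0, 0, true) := k0_zero e.1 he.1 e.2.1 he.2 e.2.2 h1
    rw [h2, yE_00t, ← g0] at g1
    exact (g.injective g1).symm
  · rintro rfl
    unfold col
    rw [F_self hx]
    unfold code
    rw [if_pos rfl]

end Cfsg.Agent.H816.MEnt
end

private theorem dce_b25b461cfde5 : _root_.True := by
  try have : _root_.True := by simp only [_root_.Cfsg.Agent.H816.MCer3.L.eq_1]
  try have : _root_.True := by simp only [_root_.Cfsg.Agent.H816.MEnt.parse.eq_def]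
  try have : _root_.True := by simp only [_root_.Cfsg.Agent.H816.MEnt.LL.eq_1]
  try have : _root_.True := by simp only [_root_.Cfsg.Agent.H816.MEnt.TL.eq_1]
  try have : _root_.True := by simp only [_root_.Cfsg.Agent.H816.MCer0.L.eq_1]
  try have : _root_.True := by simp only [_root_.Cfsg.Agent.H816.MCer8.L.eq_1]
  try have : _root_.True := by simp only [_root_.Cfsg.Agent.H816.MTab.pm.eq_1]
  try have : _root_.True := by simp only [_root_.Cfsg.Agent.H816.MTab.pm.eq_2]
  exact _root_.True.intro
end

-- part: H816/MLane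
section
prune_inst 0x4010000
set_option linter.all false
open scoped Cfsg.Agent.FastGrp

/-!
# Joint lane counts (helper816)

`NN_of` : the numbers of `s` in the base orbit with given values `F s v`, `F (σ s) v`, from one
kernel check for `v = W w a₀`.
-/

set_option autoImplicit false
set_option maxRecDepth 100000

namespace Cfsg.Agent.H816.MLane

open Cfsg Cfsg.Agent.Monster Cfsg.Agent.Monster.VecEngine Cfsg.Agent.Monster.VecSpace
open Cfsg.Agent.Monster.PlaneArith Cfsg.Agent.Monster.LevelSets
open Cfsg.Agent.MonsterX.LaneLab Cfsg.Agent.MonsterX.LaneVec Cfsg.Agent.MonsterX.LaneInj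
open Cfsg.Agent.MonsterX.ProgBase Cfsg.Agent.MonsterX.ProgTable Cfsg.Agent.MonsterX.Space Cfsg.Agent.MonsterX.Conc
open Cfsg.Agent.MonsterX.USide (u)
open Cfsg.Agent.MonsterX.InstData Cfsg.Agent.MonsterX.InstEval Cfsg.Agent.MonsterX.LaneQuad
open Cfsg.Agent.MonsterX.LaneCount
open Cfsg.Agent.MonsterX

/-- Continue with the evaluated number. -/
noncomputable def goN (m : ℕ) (k : ℕ → Bool) : Bool := (fun z => Bool.rec (k z) (k z) (Nat.beq z 0)) m

theorem goN_eq (m : ℕ) (k : ℕ → Bool) : goN m k = k m := by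
  show (Bool.rec (k m) (k m) (Nat.beq m 0) : Bool) = k m
  cases Nat.beq m 0 <;> rfl

/-- The lanes of `XL` with the given values. -/
noncomputable def jm (Y1 Y0 : Pl) (a b : ℕ) : ℕ := Nat.land (lev 17 12 a XL Y1) (lev 17 12 b XL Y0)

/-- The check of a list of pairs of values. -/
noncomputable def prs (q : ℕ) (Y1 Y0 : Pl) (l : List (ℕ × ℕ × ℕ)) : ℕ → Bool :=
  List.rec (motive := fun _ => ℕ → Bool) (fun M => Nat.beq M XL)
    (fun e _ ih M => goN (jm Y1 Y0 (Nat.mul q e.1) (Nat.mul q e.2.1)) fun m =>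
      and (and (Nat.blt e.2.2 262144) (and (Nat.blt (Nat.mul q e.1) 4096) (Nat.blt (Nat.mul q e.2.1) 4096)))
        (and (cardIs 17 18 e.2.2 m) (goN (Nat.lor M m) ih))) l

theorem prs_cons (q : ℕ) (Y1 Y0 : Pl) (e : ℕ × ℕ × ℕ) (l : List (ℕ × ℕ × ℕ)) (M : ℕ) :
    prs q Y1 Y0 (e :: l) M = goN (jm Y1 Y0 (Nat.mul q e.1) (Nat.mul q e.2.1)) fun m =>
      and (and (Nat.blt e.2.2 262144) (and (Nat.blt (Nat.mul q e.1) 4096) (Nat.blt (Nat.mul q e.2.1) 4096)))
        (and (cardIs 17 18 e.2.2 m) (goN (Nat.lor M m) (prs q Y1 Y0 l))) := rfl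

theorem testBit_lev' {c : ℕ} {Y : Pl} (hc : c < 4096) (i : ℕ) :
    (lev 17 12 c XL Y).testBit i = true ↔ XL.testBit i = true ∧ val Y i = c := by
  rw [testBit_lev (by norm_num; omega)]
  have h : cstVal 12 c = c := by
    unfold cstVal
    rw [if_pos (by norm_num; omega)]
  rw [h]
  constructor
  · rintro ⟨h1, -, h3⟩; exact ⟨h1, h3⟩
  · rintro ⟨h1, h3⟩
    exact ⟨h1, lt_of_lt_of_le (lt_of_XL h1) (by norm_num), h3⟩

theorem testBit_jm {a b : ℕ} {Y1 Y0 : Pl} (ha : a < 4096) (hb : b < 4096) (i : ℕ) :
    (jm Y1 Y0 a b).testBit i = true ↔ XL.testBit i = true ∧ val Y1 i = a ∧ val Y0 i = b := by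
  show (lev 17 12 a XL Y1 &&& lev 17 12 b XL Y0).testBit i = true ↔ _
  rw [Nat.testBit_and, Bool.and_eq_true, testBit_lev' ha, testBit_lev' hb]
  tauto

theorem prs_sound {q : ℕ} {Y1 Y0 : Pl} {l : List (ℕ × ℕ × ℕ)} {M : ℕ} (h : prs q Y1 Y0 l M = true) :
    (∀ e ∈ l, ((Finset.range (2 ^ 17)).filter (fun i => XL.testBit i = true ∧ val Y1 i = ((q * e.1 : ℕ) : ℤ) ∧
      val Y0 i = ((q * e.2.1 : ℕ) : ℤ))).card = e.2.2) ∧
    ∀ i, XL.testBit i = true → M.testBit i = true ∨ ∃ e ∈ l, val Y1 i = ((q * e.1 : ℕ) : ℤ) ∧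
      val Y0 i = ((q * e.2.1 : ℕ) : ℤ) := by
  induction l generalizing M with
  | nil =>
    have h' : Nat.beq M XL = true := h
    have h1 := Nat.eq_of_beq_eq_true h'
    refine ⟨by simp, fun i hi => Or.inl ?_⟩
    rw [h1]; exact hi
  | cons e l ih =>
    rw [prs_cons, goN_eq, goN_eq, Bool.and_eq_true, Bool.and_eq_true, Bool.and_eq_true, Bool.and_eq_true,
      Nat.blt_eq, Nat.blt_eq, Nat.blt_eq] at h
    obtain ⟨⟨h1, h2, h3⟩, h4, h5⟩ := h
    obtain ⟨i1, i2⟩ := ih h5
    refine ⟨fun f hf => ?_, fun i hi => ?_⟩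
    · rcases List.mem_cons.1 hf with rfl | hf
      · refine Eq.trans (congrArg Finset.card (Finset.filter_congr fun i _ => ?_))
          (cardIs_sound (lt_of_lt_of_eq h1 (by norm_num)) h4)
        exact (testBit_jm h2 h3 i).symm
      · exact i1 f hf
    · rcases i2 i hi with h6 | ⟨f, hf, h6⟩
      · have h7 : (M ||| jm Y1 Y0 (q * e.1) (q * e.2.1)).testBit i = true := h6
        rw [Nat.testBit_or, Bool.or_eq_true] at h7
        rcases h7 with h7 | h7
        · exact Or.inl h7
        · exact Or.inr ⟨e, List.mem_cons_self, ((testBit_jm h2 h3 i).1 h7).2⟩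
      · exact Or.inr ⟨f, List.mem_cons_of_mem _ hf, h6⟩

/-- The check of a vector. -/
noncomputable def cntP (q : ℕ) (l : List (ℕ × ℕ × ℕ)) (y : Pl) : Bool :=
  quad 131072 (rowsQ 24) y (.sgn 0) fun p => go (x32 (low 131072 y)) fun z =>
    go (plus p z) fun Y1 => go (sub 131072 p z) fun Y0 => prs q Y1 Y0 l 0

theorem cntP_sound {q : ℕ} {l : List (ℕ × ℕ × ℕ)} {y : Pl} (h : cntP q l y = true) :
    (∀ e ∈ l, ((Finset.range (2 ^ 17)).filter (fun i => XL.testBit i = true ∧ qv y i true = ((q * e.1 : ℕ) : ℤ) ∧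
      qv y i false = ((q * e.2.1 : ℕ) : ℤ))).card = e.2.2) ∧
    ∀ i, XL.testBit i = true → ∃ e ∈ l, qv y i true = ((q * e.1 : ℕ) : ℤ) ∧
      qv y i false = ((q * e.2.1 : ℕ) : ℤ) := by
  unfold cntP at h
  obtain ⟨p, hp, hk⟩ := quad_sound h
  rw [go_eq, go_eq, go_eq] at hk
  have hq' : ∀ i < 131072, val p i = quadVal (rowsQ 24) y i := by
    intro i hi
    rw [hp i hi, val_sgn, bt_zero]; ring
  have hz : ∀ i < 131072, val (norm (x32 (low 131072 y))) i = 32 * val y i := by
    intro i hi
    rw [val_norm, val_x32, val_low _ _ _ hi]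
  have h1 : ∀ i < 131072, val (norm (plus p (norm (x32 (low 131072 y))))) i = qv y i true := by
    intro i hi
    rw [val_norm, val_plus, hq' i hi, hz i hi, qv_true]
  have h0 : ∀ i < 131072, val (norm (sub 131072 p (norm (x32 (low 131072 y))))) i = qv y i false := by
    intro i hi
    rw [val_norm, val_sub _ _ _ _ hi, hq' i hi, hz i hi, qv_false]
  obtain ⟨i1, i2⟩ := prs_sound hk
  refine ⟨fun e he => ?_, fun i hi => ?_⟩
  · refine Eq.trans (congrArg Finset.card (Finset.filter_congr fun i hi => ?_)) (i1 e he)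
    have hi' : i < 131072 := lt_of_lt_of_eq (Finset.mem_range.mp hi) (by norm_num)
    rw [h1 i hi', h0 i hi']
  · have hi' : i < 131072 := lt_of_XL hi
    rcases i2 i hi with h3 | h3
    · simp at h3
    · rwa [h1 i hi', h0 i hi'] at h3

/-- Look up. -/
def lk (l : List (ℕ × ℕ × ℕ)) (a b : ℕ) : ℕ :=
  match l.find? (fun e => e.1 == a && e.2.1 == b) with
  | some e => e.2.2
  | none => 0

/-- The number of lanes with given values. -/
noncomputable def AA (v : V) (a b : ℕ) : ℕ :=
  ((Finset.range (2 ^ 17)).filter (fun i => XL.testBit i = true ∧ F (sv KRows.Xv i true) v = (a : ℚ) / 32 ∧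
    F (sv KRows.Xv i false) v = (b : ℚ) / 32)).card

theorem qv_iff {n : ℕ} {y : Pl} {v : V} (hy : ∀ i : Lane U, (2 : ℚ) ^ (n + 1) * (v : Lane U → ℚ) i = ((val y i.1 : ℤ) : ℚ))
    {l : ℕ} (hl : XL.testBit l = true) (b : Bool) (a : ℕ) :
    F (sv KRows.Xv l b) v = (a : ℚ) / 32 ↔ qv y l b = ((2 ^ n * a : ℕ) : ℤ) := by
  have h2 := F_sv XHyp_Xv hl hy b
  have h3 : ((2 : ℚ) ^ n) ≠ 0 := pow_ne_zero n two_ne_zero
  rw [pow_succ] at h2
  constructor
  · intro h
    rw [h] at h2
    have h4 : ((qv y l b : ℤ) : ℚ) = (2 : ℚ) ^ n * a := by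
      field_simp at h2
      linarith
    have h5 : ((qv y l b : ℤ) : ℚ) = (((2 ^ n * a : ℕ) : ℤ) : ℚ) := by
      rw [h4]; push_cast; ring
    exact_mod_cast h5
  · intro h
    rw [h] at h2
    push_cast at h2
    have h6 : (2 : ℚ) ^ n * (F (sv KRows.Xv l b) v * 32) = (2 : ℚ) ^ n * a := by linarith
    have h7 := mul_left_cancel₀ h3 h6
    rw [eq_div_iff (by norm_num)]
    exact h7

theorem AA_eq {n : ℕ} {y : Pl} {v : V} (hy : ∀ i : Lane U, (2 : ℚ) ^ (n + 1) * (v : Lane U → ℚ) i = ((val y i.1 : ℤ) : ℚ))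
    {l : List (ℕ × ℕ × ℕ)} (h : cntP (2 ^ n) l y = true) (a b : ℕ) : AA v a b = lk l a b := by
  obtain ⟨h1, h2⟩ := cntP_sound h
  have h3 : AA v a b = ((Finset.range (2 ^ 17)).filter (fun i => XL.testBit i = true ∧
      qv y i true = ((2 ^ n * a : ℕ) : ℤ) ∧ qv y i false = ((2 ^ n * b : ℕ) : ℤ))).card := by
    unfold AA
    refine congrArg Finset.card (Finset.filter_congr fun i _ => ?_)
    constructor
    · rintro ⟨h4, h5, h6⟩
      exact ⟨h4, (qv_iff hy h4 true a).1 h5, (qv_iff hy h4 false b).1 h6⟩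
    · rintro ⟨h4, h5, h6⟩
      exact ⟨h4, (qv_iff hy h4 true a).2 h5, (qv_iff hy h4 false b).2 h6⟩
  rw [h3]
  unfold lk
  have hpos : 0 < 2 ^ n := by positivity
  cases hf : l.find? (fun e => e.1 == a && e.2.1 == b) with
  | some e =>
    have h4 := List.find?_some hf
    rw [Bool.and_eq_true] at h4
    have h5 := eq_of_beq h4.1
    have h6 := eq_of_beq h4.2
    subst h5 h6
    exact h1 e (List.mem_of_find?_eq_some hf)
  | none =>
    show _ = 0
    rw [Finset.card_eq_zero, Finset.filter_eq_empty_iff]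
    rintro i _ ⟨h4, h5, h6⟩
    obtain ⟨e, he, h7, h8⟩ := h2 i h4
    rw [h5] at h7
    rw [h6] at h8
    have h9 : a = e.1 := Nat.eq_of_mul_eq_mul_left hpos (by exact_mod_cast h7)
    have h10 : b = e.2.1 := Nat.eq_of_mul_eq_mul_left hpos (by exact_mod_cast h8)
    have h11 := List.find?_eq_none.1 hf e he
    apply h11
    rw [h9, h10]
    simp

/-! ### The base orbit -/

theorem σ_sv (l : ℕ) (b : Bool) : InstData.σ (sv KRows.Xv l b) = sv KRows.Xv l (!b) := by
  unfold sv
  rw [map_add, map_smul]
  have h1 : InstData.σ (u (lv l)) = u (lv l) := KLinkInst.σ_u _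
  have h2 : InstData.σ (KRows.Xv (lab l)) = - KRows.Xv (lab l) := KLinkInst.σ_X _
  rw [h1, h2]
  congr 1
  cases b
  · rw [e2_false]
    show ((-2 : ℤ) : ℚ) • (-KRows.Xv (lab l)) = (e2 true : ℚ) • KRows.Xv (lab l)
    rw [e2_true, smul_neg, ← neg_smul]
    congr 1
  · rw [e2_true]
    show ((2 : ℤ) : ℚ) • (-KRows.Xv (lab l)) = (e2 false : ℚ) • KRows.Xv (lab l)
    rw [e2_false, smul_neg, ← neg_smul]
    congr 1

/-- The joint counts over the base orbit. -/
theorem ncard_pair (v : V) (a b : ℕ) :
    {s | s ∈ M.S ∧ F s v = (a : ℚ) / 32 ∧ F (InstData.σ s) v = (b : ℚ) / 32}.ncard = AA v a b + AA v b a := by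
  classical
  set A : ℕ → ℕ → Finset ℕ := fun a b => (Finset.range (2 ^ 17)).filter (fun i => XL.testBit i = true ∧
    F (sv KRows.Xv i true) v = (a : ℚ) / 32 ∧ F (sv KRows.Xv i false) v = (b : ℚ) / 32) with hA
  have hmem : ∀ a b i, i ∈ A a b ↔ XL.testBit i = true ∧ F (sv KRows.Xv i true) v = (a : ℚ) / 32 ∧
      F (sv KRows.Xv i false) v = (b : ℚ) / 32 := by
    intro a b i
    rw [hA]
    simp only [Finset.mem_filter, Finset.mem_range]
    constructor
    · rintro ⟨-, h2⟩; exact h2
    · rintro ⟨h2, h3⟩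
      exact ⟨lt_of_lt_of_le (lt_of_XL h2) (by norm_num), h2, h3⟩
  have hset : {s | s ∈ M.S ∧ F s v = (a : ℚ) / 32 ∧ F (InstData.σ s) v = (b : ℚ) / 32} =
      (fun l => sv KRows.Xv l true) '' (A a b : Set ℕ) ∪ (fun l => sv KRows.Xv l false) '' (A b a : Set ℕ) := by
    rw [S_sv XHyp_Xv SHyp_S]
    ext s
    constructor
    · rintro ⟨⟨l, hl, c, rfl⟩, h1, h2⟩
      rw [σ_sv] at h2
      cases c
      · right; exact ⟨l, (hmem b a l).mpr ⟨hl, h2, h1⟩, rfl⟩
      · left; exact ⟨l, (hmem a b l).mpr ⟨hl, h1, h2⟩, rfl⟩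
    · rintro (⟨l, hl, rfl⟩ | ⟨l, hl, rfl⟩)
      · obtain ⟨h2, h3, h4⟩ := (hmem a b l).mp hl
        exact ⟨⟨l, h2, true, rfl⟩, h3, by rw [σ_sv]; exact h4⟩
      · obtain ⟨h2, h3, h4⟩ := (hmem b a l).mp hl
        exact ⟨⟨l, h2, false, rfl⟩, h4, by rw [σ_sv]; exact h3⟩
  have hinj : ∀ c a b, Set.InjOn (fun l => sv KRows.Xv l c) (A a b : Set ℕ) := by
    intro c a b l hl l' hl' he
    exact (sv_inj XHyp_Xv ((hmem a b l).mp hl).1 ((hmem a b l').mp hl').1 he).1
  rw [hset, Set.ncard_union_eq]
  · rw [(hinj true a b).ncard_image, (hinj false b a).ncard_image, Set.ncard_coe_finset, Set.ncard_coe_finset]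
    rfl
  · rw [Set.disjoint_left]
    rintro _ ⟨l, hl, rfl⟩ ⟨l', hl', he⟩
    have h2 := (sv_inj XHyp_Xv ((hmem b a l').mp hl').1 ((hmem a b l).mp hl).1 he).2
    exact absurd h2 (by simp)

/-- The kernel check for `W w a₀`. -/
noncomputable def chkP (n : ℕ) (w : List ℕ) (l : List (ℕ × ℕ × ℕ)) : Bool :=
  Monster.VecFast.runLF (w.map prog) (up (Nat.succ n) a0B) (cntP (Nat.pow 2 n) l)

theorem NN_of {n : ℕ} {w : List ℕ} {l : List (ℕ × ℕ × ℕ)} (h : chkP n w l = true) (a b : ℕ) :
    {s | s ∈ M.S ∧ F s (W w (vecV a0B)) = (a : ℚ) / 32 ∧ F (InstData.σ s) (W w (vecV a0B)) = (b : ℚ) / 32}.ncard =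
      lk l a b + lk l b a := by
  obtain ⟨y, hy, hk⟩ := run_coe sym_a0B (Monster.VecFast.runL_of h)
  rw [ncard_pair, AA_eq hy hk, AA_eq hy hk]

end Cfsg.Agent.H816.MLane
end

-- part: H816/MCnt
section
set_option linter.all false
open scoped Cfsg.Agent.FastGrp

-- part: H816/MK
section
/-!
# The pairs of colour `3C` among the pairs `(s, d j)` (helper816)

The lanes of colour `3C` of class `j` are the lanes with the codes of a set `K`, which is invariant
under generators of a subgroup of the stabiliser of `d j` in `C` and is given as a search tree.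
-/

set_option autoImplicit false
set_option maxRecDepth 100000

namespace Cfsg.Agent.H816.MK

open Cfsg Cfsg.Agent.MonsterX Cfsg.Agent.MonsterX.Space Cfsg.Agent.MonsterX.Conc Cfsg.Agent.MonsterX.InstData
open Cfsg.Agent.MonsterX.Model Cfsg.Agent.MonsterX.MainBasic
open Cfsg.Agent.MonsterX.FrameGam Cfsg.Agent.MonsterX.FrameAct Cfsg.Agent.MonsterX.FrameConc
open Cfsg.Agent.MonsterX.FrameCover Cfsg.Agent.MonsterX.Lin24 Cfsg.Agent.MonsterX.CertLin
open Cfsg.Agent.MonsterX.CertSPl
open Cfsg.Agent.MonsterX.CertCov Cfsg.Agent.MonsterX.CertCovB Cfsg.Agent.MonsterX.CertUTab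
open Cfsg.Agent.MonsterX.CertCovD
open Cfsg.Agent.H816.MTab Cfsg.Agent.H816.MCol Cfsg.Agent.H816.MEnt

/-! ### Search trees -/

/-- Search trees of lanes and codes. -/
inductive T : Type
  | leaf : T
  | node (l : T) (i c : ℕ) (r : T) : T

/-- Membership. -/
noncomputable def mem (t : T) : ℕ → Bool :=
  T.rec (motive := fun _ => ℕ → Bool) (fun _ => false)
    (fun _ _ c _ il ir x => Bool.rec (Bool.rec (ir x) (il x) (Nat.blt x c)) true (Nat.beq x c)) t

/-- The set of the codes. -/
noncomputable def S (t : T) : Finset ℕ :=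
  T.rec (motive := fun _ => Finset ℕ) ∅ (fun _ _ c _ sl sr => insert c (sl ∪ sr)) t

/-- The number of the codes. -/
noncomputable def size (t : T) : ℕ :=
  T.rec (motive := fun _ => ℕ) 0 (fun _ _ _ _ sl sr => Nat.succ (Nat.add sl sr)) t

/-- The tree is a search tree with codes in `[lo, hi)`. -/
noncomputable def bst (t : T) : ℕ → ℕ → Bool :=
  T.rec (motive := fun _ => ℕ → ℕ → Bool) (fun _ _ => true)
    (fun _ _ c _ bl br lo hi => and (and (Nat.ble lo c) (Nat.blt c hi)) (and (bl lo c) (br (Nat.succ c) hi))) t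

/-- All nodes satisfy `f`. -/
noncomputable def allT (f : ℕ → ℕ → Bool) (t : T) : Bool :=
  T.rec (motive := fun _ => Bool) true (fun _ i c _ al ar => and (f i c) (and al ar)) t

theorem bst_node {l r : T} {i c lo hi : ℕ} (h : bst (.node l i c r) lo hi = true) :
    lo ≤ c ∧ c < hi ∧ bst l lo c = true ∧ bst r (c + 1) hi = true := by
  have h' : and (and (Nat.ble lo c) (Nat.blt c hi)) (and (bst l lo c) (bst r (Nat.succ c) hi)) = true := h
  rw [Bool.and_eq_true, Bool.and_eq_true, Bool.and_eq_true, Nat.blt_eq] at h'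
  exact ⟨Nat.le_of_ble_eq_true h'.1.1, h'.1.2, h'.2.1, h'.2.2⟩

theorem S_node (l r : T) (i c : ℕ) : S (.node l i c r) = insert c (S l ∪ S r) := rfl

theorem mem_S_node {l r : T} {i c x : ℕ} : x ∈ S (.node l i c r) ↔ x = c ∨ x ∈ S l ∨ x ∈ S r := by
  rw [S_node, Finset.mem_insert, Finset.mem_union]

theorem S_range {t : T} {lo hi : ℕ} (h : bst t lo hi = true) {x : ℕ} (hx : x ∈ S t) : lo ≤ x ∧ x < hi := by
  induction t generalizing lo hi with
  | leaf => exact absurd hx (Finset.notMem_empty x)
  | node l i c r il ir =>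
    obtain ⟨h1, h2, h3, h4⟩ := bst_node h
    rcases mem_S_node.1 hx with rfl | hx | hx
    · exact ⟨h1, h2⟩
    · have := il h3 hx; omega
    · have := ir h4 hx; omega

theorem mem_iff {t : T} {lo hi : ℕ} (h : bst t lo hi = true) (x : ℕ) : mem t x = true ↔ x ∈ S t := by
  induction t generalizing lo hi with
  | leaf =>
    show false = true ↔ x ∈ (∅ : Finset ℕ)
    simp
  | node l i c r il ir =>
    obtain ⟨h1, h2, h3, h4⟩ := bst_node h
    rw [mem_S_node, ← il h3, ← ir h4]
    show (Bool.rec (Bool.rec (mem r x) (mem l x) (Nat.blt x c)) true (Nat.beq x c) : Bool) = true ↔ _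
    by_cases e1 : x = c
    · have : Nat.beq x c = true := by rw [e1]; exact Nat.beq_refl c
      rw [this]
      simp [e1]
    · have : Nat.beq x c = false := by
        by_contra hc
        exact e1 (Nat.eq_of_beq_eq_true (by simpa using hc))
      rw [this]
      by_cases e2 : x < c
      · have e3 : Nat.blt x c = true := by rw [Nat.blt_eq]; exact e2
        have e4 : ¬ mem r x = true := by
          rw [ir h4]
          intro hx
          have := S_range h4 hx
          omega
        rw [e3]
        simp [e1, e4]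
      · have e3 : Nat.blt x c = false := by
          by_contra hc
          have hc' : Nat.blt x c = true := by simpa using hc
          rw [Nat.blt_eq] at hc'
          exact e2 hc'
        have e4 : ¬ mem l x = true := by
          rw [il h3]
          intro hx
          have := S_range h3 hx
          omega
        rw [e3]
        simp [e1, e4]

theorem card_S {t : T} {lo hi : ℕ} (h : bst t lo hi = true) : (S t).card = size t := by
  induction t generalizing lo hi with
  | leaf => rfl
  | node l i c r il ir =>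
    obtain ⟨h1, h2, h3, h4⟩ := bst_node h
    rw [S_node, Finset.card_insert_of_notMem, Finset.card_union_of_disjoint, il h3, ir h4]
    · rfl
    · rw [Finset.disjoint_left]
      intro x hx hx'
      have := S_range h3 hx
      have := S_range h4 hx'
      omega
    · rw [Finset.mem_union]
      rintro (hx | hx)
      · have := S_range h3 hx; omega
      · have := S_range h4 hx; omega

theorem allT_sound {f : ℕ → ℕ → Bool} {t : T} (h : allT f t = true) {x : ℕ} (hx : x ∈ S t) :
    ∃ i, f i x = true := by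
  induction t with
  | leaf => exact absurd hx (Finset.notMem_empty x)
  | node l i c r il ir =>
    have h' : and (f i c) (and (allT f l) (allT f r)) = true := h
    rw [Bool.and_eq_true, Bool.and_eq_true] at h'
    rcases mem_S_node.1 hx with rfl | hx | hx
    · exact ⟨i, h'.1⟩
    · exact il h'.2.1 hx
    · exact ir h'.2.2 hx

/-- The set is invariant under the linear map. -/
noncomputable def invC (t : T) (e : ℕ) : Bool := allT (fun _ c => mem t (lin e c)) t

/-- The codes are codes of lanes. -/
noncomputable def laneC (t : T) : Bool := allT (fun i c => and (CertLin.tb UX i) (Nat.beq (num P i) c)) t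

/-! ### The stabiliser of the class of the base axis -/

theorem lineFix {P W₀ : Type} [Group P] [AddCommGroup W₀] [Module ℚ W₀]
    {u : leechLattice → V} (U : ULink u) {M : KSide.KS ↥InstData.M.G V P W₀} {x₀ : P}
    (H : KModel.Link InstData.M M x₀) (hu : M.u = u) (hl : codeL (M.lam x₀) = 6) (h : C)
    (hh : (h : V ≃ₗ[ℚ] V) (vecV a0B) = vecV a0B ∨ (h : V ≃ₗ[ℚ] V) (vecV a0B) = vecV a1B) :
    h • y₁ U = y₁ U := by
  obtain ⟨A, α, T, hA, -⟩ := H.conj (g := (h : V ≃ₗ[ℚ] V)) h.2
  have hR : R u h A := by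
    intro v
    rw [← hu]
    exact hA.act_u v
  have e1 : y₁ U = cl U.ind (M.lam x₀) := (coded U.ind).inj _ _ (by
    show 6 = codeL (M.lam x₀)
    rw [hl])
  have h4 := KModel.Link.smul_a hA x₀ H.x₀_mem
  rw [← M_a₀, ← M_a₁, H.a₀_eq, H.a₁_eq] at hh
  have h3 : α x₀ = x₀ ∨ α x₀ = M.zc * x₀ := by
    rcases hh with e | e
    · left
      exact M.a_inj _ _ (hA.act_sh _ H.x₀_mem) H.x₀_mem (h4.symm.trans e)
    · right
      exact M.a_inj _ _ (hA.act_sh _ H.x₀_mem) (M.Sh_z _ H.x₀_mem) (h4.symm.trans e)
  have h5 : M.lam (α x₀) = M.lam x₀ := by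
    rcases h3 with e | e
    · rw [e]
    · rw [e, M.lam_z]
  rw [e1, smul_cl U.ind hR, cl_eq_iff, codeL_eq_iff]
  rcases hA.act_lam x₀ H.x₀_mem with e | e
  · rw [h5] at e
    exact ⟨0, by rw [← e, sub_self, smul_zero]⟩
  · rw [h5] at e
    refine ⟨- M.lam x₀, ?_⟩
    have e' : A • M.lam x₀ = - M.lam x₀ := neg_eq_iff_eq_neg.1 e.symm
    rw [e', two_smul]
    abel

/-- The frames. -/
theorem U : ULink USide.u := Instance.ulink

theorem fix₁ (h : C) (hh : (h : V ≃ₗ[ℚ] V) M.a₀ = M.a₀ ∨ (h : V ≃ₗ[ℚ] V) M.a₀ = M.a₁) : h • y₁ U = y₁ U := by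
  rw [M_a₀, M_a₁] at hh
  exact lineFix U KDone.lnk rfl Instance.code_x₀ h hh

theorem stab₁ (h : C) (hh : h • y₁ U = y₁ U) : (h : V ≃ₗ[ℚ] V) M.a₀ = M.a₀ ∨ (h : V ≃ₗ[ℚ] V) M.a₀ = M.a₁ := by
  rw [M_a₀, M_a₁]
  exact Instance.lineStab h hh

/-! ### The subgroup preserving a set of codes -/

/-- The elements fixing `b` and preserving the set of codes. -/
noncomputable def LK (b : V) (K : Finset ℕ) : Subgroup C where
  carrier := {k | (k : V ≃ₗ[ℚ] V) b = b ∧ ∀ y : Fr U.ind, (coded U.ind).code (k • y) ∈ K ↔ (coded U.ind).code y ∈ K}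
  one_mem' := ⟨rfl, fun y => by rw [one_smul]⟩
  mul_mem' := by
    rintro k l ⟨h1, h2⟩ ⟨h3, h4⟩
    refine ⟨?_, fun y => ?_⟩
    · show (k : V ≃ₗ[ℚ] V) ((l : V ≃ₗ[ℚ] V) b) = b
      rw [h3, h1]
    · rw [mul_smul, h2, h4]
  inv_mem' := by
    rintro k ⟨h1, h2⟩
    refine ⟨?_, fun y => ?_⟩
    · show (k : V ≃ₗ[ℚ] V)⁻¹ b = b
      conv_lhs => rw [← h1]
      exact (k : V ≃ₗ[ℚ] V).symm_apply_apply b
    · have := h2 (k⁻¹ • y)
      rw [smul_inv_smul] at this
      exact this.symm

theorem mem_LK {b : V} {K : Finset ℕ} {k : C} : k ∈ LK b K ↔ (k : V ≃ₗ[ℚ] V) b = b ∧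
    ∀ y : Fr U.ind, (coded U.ind).code (k • y) ∈ K ↔ (coded U.ind).code y ∈ K := Iff.rfl

theorem inLK {b : V} {K : Finset ℕ} {w : List ℕ} {e : ℕ} (hw : w.all okC = true) (hf : W w b = b)
    (he : Nat.beq (evalF ltc w) e = true) (hK : ∀ c ∈ K, lin e c ∈ K) : InL (coded U.ind) (LK b K) e := by
  have hrep : Rep (coded U.ind) (prodF EC w) e := by
    rw [← Nat.eq_of_beq_eq_true he]
    exact rep_word U hw
  refine ⟨prodF EC w, ?_, hrep⟩
  rw [mem_LK]
  refine ⟨by rw [prodF_coe U hw]; exact hf, fun y => ?_⟩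
  set k : C := prodF EC w with hk
  constructor
  · intro hy
    set Y : Set (Fr U.ind) := {y | (coded U.ind).code y ∈ K} with hY
    have hfin : Y.Finite := by
      have h1 : Y = (coded U.ind).code ⁻¹' (K : Set ℕ) := rfl
      rw [h1]
      exact K.finite_toSet.preimage fun a _ b _ h => (coded U.ind).inj a b h
    have hsub : (fun y => k • y) '' Y ⊆ Y := by
      rintro _ ⟨y', hy', rfl⟩
      show (coded U.ind).code (k • y') ∈ K
      rw [hrep y']
      exact hK _ hy'
    have hinj : Function.Injective (fun y : Fr U.ind => k • y) := MulAction.injective k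
    have heq : (fun y => k • y) '' Y = Y :=
      Set.eq_of_subset_of_ncard_le hsub (by rw [Set.ncard_image_of_injective _ hinj]) hfin
    have h2 : k • y ∈ (fun y => k • y) '' Y := by rw [heq]; exact hy
    obtain ⟨y', hy', h3⟩ := h2
    have h4 : y' = y := hinj h3
    rw [← h4]; exact hy'
  · intro hy
    rw [hrep y]
    exact hK _ hy

/-! ### The number of the elements of the base orbit -/

/-- What is needed of a class. -/
structure Cls (j m0 : ℕ) (t : T) (n : ℕ) : Prop where
  lt : j < 12
  bst : bst t 0 16777216 = true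
  size : Nat.beq (size t) n = true
  lane : laneC t = true
  cov : ∀ y : Fr U.ind, OnLane U y → ∃ c ∈ cs j, ∃ l ∈ LK (W (bj j) (vecV a0B)) (S t), (coded U.ind).code (l • y) = c
  len : (cs j).length = nr j
  tab : ∀ m < nr j, linW (uw j m) ((cs j).getD m 0) = 6 ∧ mem t ((cs j).getD m 0) = decide (m = m0)
  kol : ∀ m < nr j, ∀ b : Bool, (k0 (j, m, b) = 4 ∨ k1 (j, m, b) = 4) ↔ m = m0

variable {j m0 : ℕ} {t : T} {n : ℕ}

theorem code_lt (h : Cls j m0 t n) {c : ℕ} (hc : c ∈ S t) : c < 2 ^ 24 := by
  have := (S_range h.bst hc).2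
  norm_num
  omega

/-- The cover. -/
theorem Cls.cover (h : Cls j m0 t n) {y : Fr U.ind} (hy : OnLane U y) :
    ∃ m < nr j, ∃ l ∈ LK (W (bj j) (vecV a0B)) (S t), (prodF EC (uw j m) * l) • y = y₁ U ∧
      ((coded U.ind).code y ∈ S t ↔ m = m0) := by
  obtain ⟨c, hc, l, hl, h1⟩ := h.cov y hy
  obtain ⟨m, hm, rfl⟩ := List.getElem_of_mem hc
  have hm' : m < nr j := by rw [← h.len]; exact hm
  obtain ⟨h2, h3⟩ := h.tab m hm'
  rw [List.getD_eq_getElem _ _ hm] at h2 h3
  refine ⟨m, hm', l, hl, ?_, ?_⟩
  · apply (coded U.ind).inj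
    rw [mul_smul, code_word U (uw_ok j m), h1, h2]
    rfl
  · rw [← (mem_LK.1 hl).2 y, h1, ← mem_iff h.bst, h3, decide_eq_true_eq]

theorem σ_a₁' : M.σ M.a₁ = M.a₀ := σ_a₁ hR

/-- The colours. -/
theorem Cls.col_iff (h : Cls j m0 t n) {g : V ≃ₗ[ℚ] V} (hg : g ∈ C) :
    (col M (g M.a₀) (W (bj j) (vecV a0B)) = 4 ∨ col M (M.σ (g M.a₀)) (W (bj j) (vecV a0B)) = 4) ↔
      (coded U.ind).code ((⟨g, hg⟩ : C) • y₁ U) ∈ S t := by
  obtain ⟨m, hm, l, hl, h1, h2⟩ := h.cover (onLane_smul U ⟨g, hg⟩ (onLane_y₁ U))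
  rw [h2]
  rw [← mul_smul] at h1
  have h3 := stab₁ _ h1
  have e1 : (((prodF EC (uw j m) * l * ⟨g, hg⟩ : C)) : V ≃ₗ[ℚ] V) M.a₀ =
      W (uw j m) ((l : V ≃ₗ[ℚ] V) (g M.a₀)) := by
    rw [← prodF_coe U (uw_ok j m)]
    rfl
  rw [e1] at h3
  have key : ∀ b : Bool, W (PairZero.wd j m b) ((l : V ≃ₗ[ℚ] V) (g M.a₀)) = M.a₀ →
      ((col M (g M.a₀) (W (bj j) (vecV a0B)) = 4 ∨ col M (M.σ (g M.a₀)) (W (bj j) (vecV a0B)) = 4) ↔ m = m0) := by
    intro b hb
    rw [← h.kol m hm b]
    have hval : Val (j, m, b) := ⟨h.lt, hm⟩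
    have hw : W (PairZero.wd j m b) ∈ C := by
      have hw1 := word_ok (b := b) (uw_ok j m)
      have : PairZero.wd j m b = CertCovD.word j m b := rfl
      rw [this, ← prodF_coe U hw1]
      exact (prodF EC _ : C).2
    set k : V ≃ₗ[ℚ] V := W (PairZero.wd j m b) * (l : V ≃ₗ[ℚ] V) with hkdef
    have hkC : k ∈ M.C := C.mul_mem hw l.2
    have hk0 : k (g M.a₀) = M.a₀ := hb
    have hk1 : k (M.σ (g M.a₀)) = M.a₁ := by
      rw [← hR.σ_comm k hkC, hk0, σ_a₀ hR]
    have hkd : k (W (bj j) (vecV a0B)) = yE (j, m, b) := by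
      rw [hkdef, LinearEquiv.mul_apply, (mem_LK.1 hl).1]
      show _ = W (PairZero.wd j m b) (W (bj j) M.a₀)
      rw [M_a₀]
    have hgX : g M.a₀ ∈ M.X := G_X hO (C_le hg) a₀_X
    have hσX : M.σ (g M.a₀) ∈ M.X := S_sub_X hO (σ_S hG hR ⟨g, hg, rfl⟩)
    have c0 : col M (g M.a₀) (W (bj j) (vecV a0B)) = col M M.a₀ (yE (j, m, b)) := by
      rw [← hkd]
      nth_rewrite 2 [← hk0]
      exact (col_smul hG hR hL hO MEnt.hT (C_le hkC) hgX _).symm
    have c1 : col M (M.σ (g M.a₀)) (W (bj j) (vecV a0B)) = col M M.a₁ (yE (j, m, b)) := by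
      rw [← hkd]
      nth_rewrite 1 [← hk1]
      exact (col_smul hG hR hL hO MEnt.hT (C_le hkC) hσX _).symm
    rw [c0, c1, ← col_k0 hval, ← col_k1 hval]
    constructor
    · rintro (e | e)
      · left; rw [e]; rfl
      · right; rw [e]; rfl
    · rintro (e | e)
      · left; exact Fin.ext e
      · right; exact Fin.ext e
  rcases h3 with h3 | h3
  · refine key false ?_
    have : PairZero.wd j m false = uw j m := by
      show uw j m ++ [] = _
      rw [List.append_nil]
    rw [this]; exact h3
  · refine key true ?_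
    have : PairZero.wd j m true = uw j m ++ [1] := rfl
    rw [this, W_append, LinearEquiv.mul_apply, h3, M_a₀, M_a₁]
    exact FieldsP.x1_a1

theorem a₀_ne_a₁ : M.a₀ ≠ M.a₁ := by
  intro h
  have h1 := hL.F_a₁
  rw [← h, hL.F_a₀] at h1
  norm_num at h1

/-- **The number of the pairs.** -/
theorem Cls.ncard (h : Cls j m0 t n) :
    {s | s ∈ M.S ∧ (col M s (W (bj j) (vecV a0B)) = 4 ∨ col M (M.σ s) (W (bj j) (vecV a0B)) = 4)}.ncard = 2 * n := by
  classical
  -- elements with given codes
  have hex : ∀ c : ℕ, ∃ g : C, c ∈ S t → (coded U.ind).code (g • y₁ U) = c := by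
    intro c
    by_cases hc : c ∈ S t
    · obtain ⟨i, hi⟩ := allT_sound h.lane hc
      rw [Bool.and_eq_true] at hi
      have hon : OnLane U (pt U c (code_lt h hc)) :=
        ⟨i, by rw [← CertLin.tb_eq]; exact hi.1, (Nat.eq_of_beq_eq_true hi.2).symm⟩
      obtain ⟨m, -, l, -, h1, -⟩ := h.cover hon
      refine ⟨(prodF EC (uw j m) * l)⁻¹, fun _ => ?_⟩
      rw [← h1, inv_smul_smul]
      rfl
    · exact ⟨1, fun h => absurd h hc⟩
  choose g hg using hex
  set B : ℕ → Finset V := fun c => {(g c : V ≃ₗ[ℚ] V) M.a₀, (g c : V ≃ₗ[ℚ] V) M.a₁} with hB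
  have hσg : ∀ c, M.σ ((g c : V ≃ₗ[ℚ] V) M.a₀) = (g c : V ≃ₗ[ℚ] V) M.a₁ := by
    intro c
    rw [hR.σ_comm _ (g c).2, σ_a₀ hR]
  have hset : {s | s ∈ M.S ∧ (col M s (W (bj j) (vecV a0B)) = 4 ∨ col M (M.σ s) (W (bj j) (vecV a0B)) = 4)} =
      (((S t).biUnion B : Finset V) : Set V) := by
    ext s
    rw [Finset.mem_coe, Finset.mem_biUnion]
    constructor
    · rintro ⟨⟨k, hk, rfl⟩, hcol⟩
      have h1 := (h.col_iff hk).1 hcol
      refine ⟨_, h1, ?_⟩
      set c := (coded U.ind).code ((⟨k, hk⟩ : C) • y₁ U) with hc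
      have h2 : g c • y₁ U = (⟨k, hk⟩ : C) • y₁ U := (coded U.ind).inj _ _ (hg c h1)
      have h3 : ((g c)⁻¹ * (⟨k, hk⟩ : C)) • y₁ U = y₁ U := by
        rw [mul_smul, ← h2, inv_smul_smul]
      have h4 := stab₁ _ h3
      have h5 : (((g c)⁻¹ * (⟨k, hk⟩ : C) : C) : V ≃ₗ[ℚ] V) M.a₀ = (g c : V ≃ₗ[ℚ] V)⁻¹ (k M.a₀) := rfl
      rw [h5] at h4
      rw [hB]
      simp only [Finset.mem_insert, Finset.mem_singleton]
      rcases h4 with h4 | h4
      · left
        have h6 := congrArg (fun x => (g c : V ≃ₗ[ℚ] V) x) h4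
        rwa [apply_inv'] at h6
      · right
        have h6 := congrArg (fun x => (g c : V ≃ₗ[ℚ] V) x) h4
        rwa [apply_inv'] at h6
    · rintro ⟨c, hc, hs⟩
      rw [hB] at hs
      simp only [Finset.mem_insert, Finset.mem_singleton] at hs
      have h1 : (coded U.ind).code (((⟨(g c : V ≃ₗ[ℚ] V), (g c).2⟩ : C)) • y₁ U) ∈ S t := by
        have : (⟨(g c : V ≃ₗ[ℚ] V), (g c).2⟩ : C) = g c := rfl
        rw [this, hg c hc]
        exact hc
      have h2 := (h.col_iff (g c).2).2 h1
      rcases hs with rfl | rfl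
      · exact ⟨⟨_, (g c).2, rfl⟩, h2⟩
      · refine ⟨?_, ?_⟩
        · rw [← hσg]
          exact σ_S hG hR ⟨_, (g c).2, rfl⟩
        · rw [← hσg, σ_σ hR ⟨_, (g c).2, rfl⟩]
          exact h2.symm
  rw [hset, Set.ncard_coe_finset, Finset.card_biUnion]
  · have h1 : ∀ c ∈ S t, (B c).card = 2 := by
      intro c _
      rw [hB]
      exact Finset.card_pair fun e => a₀_ne_a₁ ((g c : V ≃ₗ[ℚ] V).injective e)
    rw [Finset.sum_congr rfl h1, Finset.sum_const, smul_eq_mul, card_S h.bst, Nat.eq_of_beq_eq_true h.size,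
      Nat.mul_comm]
  · intro c hc c' hc' hcc
    rw [Function.onFun, Finset.disjoint_left]
    intro s hs hs'
    apply hcc
    rw [hB] at hs hs'
    simp only [Finset.mem_insert, Finset.mem_singleton] at hs hs'
    have key : ∀ b : Bool, ∀ b' : Bool, s = (g c : V ≃ₗ[ℚ] V) (if b then M.a₀ else M.a₁) →
        s = (g c' : V ≃ₗ[ℚ] V) (if b' then M.a₀ else M.a₁) → c = c' := by
      intro b b' e e'
      have h1 : ((g c')⁻¹ * g c) • y₁ U = y₁ U := by
        apply fix₁
        have e2 : (g c : V ≃ₗ[ℚ] V) (if b then M.a₀ else M.a₁) = (g c' : V ≃ₗ[ℚ] V) (if b' then M.a₀ else M.a₁) := by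
          rw [← e, ← e']
        have e3 : (((g c')⁻¹ * g c : C) : V ≃ₗ[ℚ] V) (if b then M.a₀ else M.a₁) = (if b' then M.a₀ else M.a₁) := by
          show (g c' : V ≃ₗ[ℚ] V)⁻¹ ((g c : V ≃ₗ[ℚ] V) (if b then M.a₀ else M.a₁)) = _
          rw [e2, inv_apply']
        cases b
        · have e4 : (((g c')⁻¹ * g c : C) : V ≃ₗ[ℚ] V) M.a₁ = (if b' then M.a₀ else M.a₁) := e3
          have e5 : (((g c')⁻¹ * g c : C) : V ≃ₗ[ℚ] V) M.a₀ = M.σ (if b' then M.a₀ else M.a₁) := by
            rw [← e4, hR.σ_comm _ ((g c')⁻¹ * g c).2, σ_a₁']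
          rw [e5]
          cases b'
          · left; exact σ_a₁'
          · right; exact σ_a₀ hR
        · have e4 : (((g c')⁻¹ * g c : C) : V ≃ₗ[ℚ] V) M.a₀ = (if b' then M.a₀ else M.a₁) := e3
          rw [e4]
          cases b'
          · right; rfl
          · left; rfl
      have h2 : g c • y₁ U = g c' • y₁ U := by
        rw [← h1, mul_smul, smul_inv_smul] 
        rw [mul_smul] at h1
        rw [h1]
      rw [← hg c hc, h2, hg c' hc']
    rcases hs with hs | hs <;> rcases hs' with hs' | hs'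
    · exact key true true hs hs'
    · exact key true false hs hs'
    · exact key false true hs hs'
    · exact key false false hs hs'

end Cfsg.Agent.H816.MK
end

-- part: H816/MKT
section
/-!
# The pairs of colour `3C`: the classes 4, 10, 11 (helper816)
-/

set_option autoImplicit false
set_option maxRecDepth 100000
set_option Elab.async false

namespace Cfsg.Agent.H816.MKT

open Cfsg Cfsg.Agent.MonsterX Cfsg.Agent.MonsterX.Space Cfsg.Agent.MonsterX.Conc Cfsg.Agent.MonsterX.InstData
open Cfsg.Agent.MonsterX.FrameGam Cfsg.Agent.MonsterX.FrameAct Cfsg.Agent.MonsterX.FrameConc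
open Cfsg.Agent.MonsterX.CertCov Cfsg.Agent.MonsterX.CertCovB Cfsg.Agent.MonsterX.CertUTab
open Cfsg.Agent.MonsterX.CertLj
open Cfsg.Agent.H816.MK Cfsg.Agent.H816.MEnt

/-- Leaf. -/
abbrev l : T := T.leaf

/-- Node. -/
abbrev n (a : T) (i c : ℕ) (b : T) : T := T.node a i c b

/-- The codes of the lanes of colour `3C` of class `4`. -/
def t4 : T := 
  (n (n (n (n (n (n (n (n (n (n (n l 1600 262160 l) 1622 262186 l) 1610 262294 (n l 1653 262430 l)) 1635 262436 (n (n l
  1663 262552 l) 1637 262658 (n l 1651 262712 l))) 1647 262788 (n (n (n l 1612 263088 l) 1633 263176 (n l 1655 263218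
  l)) 1661 263348 (n (n l 1630 263552 l) 1604 263706 (n l 1618 263712 l)))) 1624 263846 (n (n (n (n l 1649 263956 l)
  1639 263982 (n l 1645 264104 l)) 1629 264198 (n (n l 1611 264252 l) 1623 264320 (n l 1640 264456 l))) 1662 264498 (n
  (n (n l 1634 264590 l) 1656 264724 (n l 1646 264750 l)) 1650 264850 (n (n l 1617 265126 l) 1654 265368 (n l 1609
  265488 l))))) 1631 265514 (n (n (n (n (n l 1621 265644 l) 1619 265866 (n l 1638 266116 l)) 1628 266412 (n (n l 1641
  266658 l) 1657 266942 (n l 1616 267020 l))) 1606 267062 (n (n (n l 1626 267146 l) 1643 267406 (n l 1620 267526 l))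
  1602 267580 (n (n l 1608 267706 l) 1614 267932 (n l 1659 268178 l)))) 1601 268474 (n (n (n (n l 1652 268724 l) 1636
  268968 (n l 1613 269082 l)) 1627 269088 (n (n l 1607 269212 l) 1660 269342 (n l 1642 269348 l))) 1632 269474 (n (n (n
  l 1603 269718 l) 1625 269836 (n l 1615 269878 l)) 1605 270000 (n (n l 1644 270082 l) 1658 270136 (n l 1648 270270
  l)))))) 4160 786442 (n (n (n (n (n (n l 4182 786480 l) 4183 786672 (n l 4211 786716 l)) 4197 786726 (n (n l 4210
  786908 l) 4195 786944 (n l 4213 787002 l))) 4194 787136 (n (n (n l 4177 787414 l) 4189 787480 (n l 4171 787490 l))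
  4170 787682 (n (n l 4206 787726 l) 4216 787764 (n l 4207 787918 l)))) 4222 787986 (n (n (n (n l 4200 788008 l) 4223
  788178 (n l 4172 788420 l)) 4193 788502 (n (n l 4215 788524 l) 4214 788716 (n l 4178 788736 l))) 4164 788794 (n (n (n
  l 4179 788928 l) 4181 789222 (n l 4209 789258 l)) 4199 789296 (n (n l 4198 789488 l) 4221 789700 (n l 4184 789992
  l))))) 4191 790030 (n (n (n (n (n l 4169 790068 l) 4190 790222 (n l 4205 790488 l)) 4161 790730 (n (n l 4196 791014 l)
  4212 791290 (n l 4176 791318 l))) 4166 791340 (n (n (n l 4167 791532 l) 4188 791768 (n l 4217 792052 l)) 4201 792296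
  (n (n l 4173 792324 l) 4187 792382 (n l 4186 792574 l)))) 4192 792790 (n (n (n (n l 4165 793082 l) 4162 793116 (n l
  4180 793126 l)) 4163 793308 (n (n l 4208 793546 l) 4220 793604 (n l 4202 793662 l))) 4203 793854 (n (n (n l 4175
  793874 l) 4185 793896 (n l 4174 794066 l)) 4168 794356 (n (n l 4204 794392 l) 4218 794402 (n l 4219 794594 l)))))))
  9959 2359312 (n (n (n (n (n (n (n l 9955 2359340 l) 9969 2359432 (n l 9973 2359476 l)) 9937 2359558 (n (n l 9941
  2359610 l) 9958 2359888 (n l 9954 2359916 l))) 9944 2360342 (n (n (n l 9930 2360498 l) 9966 2360576 (n l 9976 2360728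
  l)) 9949 2360938 (n (n l 9931 2361074 l) 9967 2361152 (n l 9981 2361316 l)))) 9974 2361374 (n (n (n (n l 9970 2361378
  l) 9920 2361608 (n l 9924 2361652 l)) 9942 2361744 (n (n l 9938 2361772 l) 9975 2361950 (n l 9971 2361954 l))) 9953
  2362054 (n (n (n l 9957 2362106 l) 9943 2362320 (n l 9939 2362348 l)) 9929 2362392 (n (n l 9951 2362496 l) 9983
  2362638 (n l 9965 2362794 l))))) 9932 2362980 (n (n (n (n (n l 9950 2363072 l) 9982 2363214 (n l 9960 2363350 l)) 9927
  2363806 (n (n l 9923 2363810 l) 9968 2364104 (n l 9972 2364148 l))) 9936 2364230 (n (n (n l 9940 2364282 l) 9926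
  2364382 (n l 9922 2364386 l)) 9948 2364458 (n (n l 9934 2364558 l) 9962 2364732 (n l 9980 2364836 l)))) 9945 2365014
  (n (n (n (n l 9935 2365134 l) 9963 2365308 (n l 9977 2365400 l)) 9952 2365574 (n (n l 9956 2365626 l) 9921 2366280 (n
  l 9925 2366324 l))) 9933 2366500 (n (n (n l 9947 2366652 l) 9979 2366770 (n l 9961 2366870 l)) 9928 2367064 (n (n l
  9946 2367228 l) 9978 2367346 (n l 9964 2367466 l)))))) 11749 2883594 (n (n (n (n (n (n l 11736 2883644 l) 11773
  2883856 (n l 11712 2883878 l)) 11750 2884170 (n (n l 11751 2884234 l) 11774 2884432 (n l 11775 2884496 l))) 11745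
  2884614 (n (n (n l 11741 2884848 l) 11716 2884906 (n l 11768 2885084 l)) 11746 2885190 (n (n l 11743 2885232 l) 11747
  2885254 (n l 11742 2885296 l)))) 11766 2885636 (n (n (n (n l 11723 2885682 l) 11767 2885828 (n l 11722 2885874 l))
  11758 2885918 (n (n l 11731 2885928 l) 11759 2886110 (n l 11730 2886120 l))) 11765 2886212 (n (n (n l 11721 2886322 l)
  11757 2886494 (n l 11729 2886568 l)) 11762 2886664 (n (n l 11763 2886856 l) 11735 2886948 (n l 11734 2887140 l)))))
  11761 2887240 (n (n (n (n (n l 11724 2887294 l) 11752 2887570 (n l 11733 2887588 l)) 11748 2887882 (n (n l 11737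
  2887932 l) 11772 2888144 (n l 11713 2888166 l))) 11739 2888316 (n (n (n l 11738 2888380 l) 11715 2888550 (n l 11714
  2888614 l)) 11740 2888752 (n (n l 11744 2888902 l) 11769 2888988 (n l 11717 2889194 l)))) 11770 2889564 (n (n (n (n l
  11719 2889578 l) 11771 2889628 (n l 11718 2889642 l)) 11720 2890354 (n (n l 11764 2890372 l) 11728 2890600 (n l 11756
  2890654 l))) 11727 2890814 (n (n (n l 11726 2891006 l) 11754 2891026 (n l 11755 2891218 l)) 11760 2891400 (n (n l
  11725 2891454 l) 11753 2891602 (n l 11732 2891620 l)))))))) 16223 4456466 (n (n (n (n (n (n (n (n l 16254 4456508 l)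
  16226 4456576 (n l 16242 4456718 l)) 16211 4456736 (n (n l 16238 4456882 l) 16213 4456966 (n l 16232 4457108 l)))
  16201 4457146 (n (n (n l 16248 4457242 l) 16222 4457554 (n l 16255 4457596 l)) 16227 4457664 (n (n l 16243 4457806 l)
  16210 4457824 (n l 16239 4457970 l)))) 16245 4458088 (n (n (n (n l 16216 4458356 l) 16196 4458440 (n l 16229 4458470
  l)) 16192 4458500 (n (n l 16225 4458538 l) 16253 4458646 (n l 16237 4458776 l))) 16204 4458806 (n (n (n l 16241
  4458916 l) 16202 4459024 (n l 16247 4459138 l)) 16214 4459180 (n (n l 16231 4459276 l) 16221 4459768 (n l 16209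
  4459978 l))))) 16203 4460112 (n (n (n (n (n l 16246 4460226 l) 16215 4460268 (n l 16230 4460364 l)) 16195 4460718 (n
  (n l 16207 4460956 l) 16244 4461096 (n l 16217 4461364 l))) 16197 4461448 (n (n (n l 16228 4461478 l) 16194 4461806 (n
  l 16206 4462044 l)) 16212 4462150 (n (n l 16233 4462292 l) 16200 4462330 (n l 16249 4462426 l)))) 16220 4462776 (n (n
  (n (n l 16208 4462986 l) 16235 4463166 (n l 16198 4463394 l)) 16218 4463518 (n (n l 16251 4463536 l) 16193 4463684 (n
  l 16224 4463722 l))) 16252 4463830 (n (n (n l 16236 4463960 l) 16205 4463990 (n l 16240 4464100 l)) 16234 4464254 (n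
  (n l 16199 4464482 l) 16219 4464606 (n l 16250 4464624 l)))))) 17757 4980744 (n (n (n (n (n (n l 17740 4980798 l)
  17774 4981012 (n l 17791 4981026 l)) 17775 4981204 (n (n l 17790 4981218 l) 17765 4981252 (n l 17781 4981490 l)))
  17750 4981528 (n (n (n l 17751 4981720 l) 17758 4981832 (n l 17759 4981896 l)) 17773 4982100 (n (n l 17789 4982178 l)
  17766 4982340 (n l 17783 4982386 l)))) 17767 4982404 (n (n (n (n l 17782 4982450 l) 17749 4982616 (n l 17732 4982638
  l)) 17762 4982802 (n (n l 17779 4982820 l) 17763 4982994 (n l 17778 4983012 l))) 17745 4983054 (n (n (n l 17728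
  4983096 l) 17739 4983336 (n l 17738 4983528 l)) 17784 4983604 (n (n l 17768 4983746 l) 17761 4983890 (n l 17777
  4983972 l))))) 17746 4984142 (n (n (n (n (n l 17747 4984206 l) 17752 4984478 (n l 17737 4984488 l)) 17756 4985032 (n
  (n l 17741 4985086 l) 17780 4985394 (n l 17764 4985540 l))) 17735 4985646 (n (n (n l 17734 4985838 l) 17743 4985982 (n
  l 17742 4986046 l)) 17788 4986210 (n (n l 17772 4986260 l) 17748 4986776 (n l 17733 4986798 l)))) 17744 4987342 (n (n
  (n (n l 17729 4987384 l) 17754 4987422 (n l 17755 4987614 l)) 17769 4987650 (n (n l 17785 4987892 l) 17776 4988004 (n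
  l 17760 4988050 l))) 17731 4988280 (n (n (n l 17730 4988344 l) 17753 4988510 (n l 17736 4988520 l)) 17770 4988738 (n
  (n l 17787 4988788 l) 17771 4988802 (n l 17786 4988852 l))))))) 21736 6553630 (n (n (n (n (n (n (n l 21729 6553634 l)
  21726 6553872 (n l 21719 6553900 l)) 21745 6554322 (n (n l 21752 6554350 l) 21727 6554448 (n l 21718 6554476 l)))
  21730 6554722 (n (n (n l 21747 6554834 l) 21725 6554960 (n l 21708 6555104 l)) 21731 6555170 (n (n l 21746 6555282 l)
  21717 6555436 (n l 21700 6555548 l)))) 21759 6555652 (n (n (n (n l 21750 6555704 l) 21735 6555784 (n l 21742 6555828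
  l)) 21705 6555914 (n (n l 21696 6555958 l) 21713 6556038 (n l 21720 6556090 l))) 21758 6556228 (n (n (n l 21751
  6556280 l) 21734 6556360 (n l 21743 6556404 l)) 21749 6556792 (n (n l 21741 6556916 l) 21706 6557002 (n l 21714
  6557126 l))))) 21757 6557188 (n (n (n (n (n l 21733 6557320 l) 21707 6557450 (n l 21715 6557574 l)) 21744 6557842 (n
  (n l 21753 6557870 l) 21702 6558108 (n l 21711 6558112 l))) 21737 6558302 (n (n (n l 21728 6558306 l) 21703 6558684 (n
  l 21710 6558688 l)) 21739 6558814 (n (n l 21754 6558958 l) 21716 6559084 (n l 21701 6559196 l)))) 21738 6559262 (n (n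
  (n (n l 21755 6559406 l) 21724 6559504 (n l 21709 6559648 l)) 21704 6560586 (n (n l 21697 6560630 l) 21712 6560710 (n
  l 21721 6560762 l))) 21756 6560836 (n (n (n l 21732 6560968 l) 21699 6561142 (n l 21723 6561274 l)) 21748 6561336 (n
  (n l 21740 6561460 l) 21698 6561590 (n l 21722 6561722 l)))))) 23014 7077904 (n (n (n (n (n (n l 22976 7077950 l)
  23015 7078096 (n l 23038 7078154 l)) 23000 7078180 (n (n l 23039 7078346 l) 23013 7078480 (n l 23037 7078730 l)))
  23009 7079056 (n (n (n l 23032 7079242 l) 23006 7079268 (n l 23007 7079332 l)) 23011 7079440 (n (n l 23010 7079632 l)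
  22980 7079678 (n l 23005 7079716 l)))) 23031 7079948 (n (n (n (n l 22993 7079970 l) 23030 7080140 (n l 23023 7080214
  l)) 22985 7080248 (n (n l 23022 7080406 l) 22994 7080546 (n l 23029 7080588 l))) 22995 7080610 (n (n (n l 22986
  7080824 l) 23021 7080854 (n l 22987 7080888 l)) 23025 7081036 (n (n l 22999 7081058 l) 22998 7081122 (n l 23016
  7081366 l))))) 23026 7081484 (n (n (n (n (n l 23027 7081676 l) 22997 7081698 (n l 22988 7081784 l)) 22977 7082238 (n
  (n l 23001 7082468 l) 22979 7082622 (n l 23012 7082640 l))) 22978 7082686 (n (n (n l 23003 7082852 l) 23036 7082890 (n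
  l 23002 7082916 l)) 23008 7083088 (n (n l 22982 7083134 l) 22983 7083198 (n l 23033 7083402 l)))) 22981 7083582 (n (n
  (n (n l 23035 7083786 l) 23034 7083978 (n l 23004 7084004 l)) 22992 7084258 (n (n l 22984 7084536 l) 23028 7084620 (n
  l 23020 7084886 l))) 23024 7085196 (n (n (n l 23017 7085398 l) 22991 7085432 (n l 22990 7085496 l)) 22996 7085602 (n
  (n l 23018 7085846 l) 23019 7086038 (n l 22989 7086072 l))))))))) 31012 9953406 (n (n (n (n (n (n (n (n (n l 31004
  9953476 l) 30990 9953534 (n l 31036 9953610 l)) 30991 9953918 (n (n l 30981 9954160 l) 30989 9954430 (n l 30983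
  9954672 l))) 31028 9954884 (n (n (n l 31020 9955184 l) 30996 9955274 (n l 30982 9955312 l)) 31003 9955410 (n (n l
  30979 9955686 l) 31035 9955804 (n l 31017 9955814 l)))) 31024 9955922 (n (n (n (n l 31002 9956050 l) 30984 9956072 (n
  l 31034 9956188 l)) 30992 9956316 (n (n l 30978 9956326 l) 31008 9956456 (n l 31018 9956710 l))) 31001 9956946 (n (n
  (n l 30977 9957222 l) 31033 9957340 (n l 31019 9957350 l)) 31030 9957444 (n (n l 31022 9957744 l) 30998 9957834 (n l
  30980 9957872 l))))) 31005 9957956 (n (n (n (n (n l 31031 9958084 l) 31013 9958142 (n l 30999 9958218 l)) 31037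
  9958346 (n (n l 31023 9958384 l) 31007 9958468 (n l 31029 9958596 l))) 31015 9958654 (n (n (n l 30997 9958730 l) 31039
  9958858 (n l 31021 9958896 l)) 31014 9959038 (n (n l 31006 9959108 l) 30988 9959166 (n l 31038 9959242 l)))) 30985
  9959528 (n (n (n (n l 31025 9959634 l) 31011 9959656 (n l 30993 9959772 l)) 31010 9960040 (n (n l 31016 9960294 l)
  31026 9960530 (n l 31000 9960658 l))) 30986 9960680 (n (n (n l 31032 9960796 l) 30994 9960924 (n l 30976 9960934 l))
  30987 9961064 (n (n l 31027 9961170 l) 31009 9961192 (n l 30995 9961308 l)))))) 32172 10477626 (n (n (n (n (n (n l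
  32130 10477846 l) 32134 10478138 (n l 32185 10478380 l)) 32141 10478554 (n (n l 32156 10478560 l) 32135 10478650 (n l
  32169 10478870 l))) 32188 10479104 (n (n (n l 32153 10479308 l) 32136 10479350 (n l 32131 10479382 l)) 32160 10479644
  (n (n l 32133 10479824 l) 32148 10479850 (n l 32142 10479920 l)))) 32186 10480070 (n (n (n (n l 32171 10480124 l)
  32155 10480166 (n l 32164 10480432 l)) 32144 10480582 (n (n l 32129 10480636 l) 32154 10480678 (n l 32180 10480906
  l))) 32176 10481190 (n (n (n l 32143 10481456 l) 32187 10481606 (n l 32170 10481660 l)) 32189 10481664 (n (n l 32152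
  10481868 l) 32137 10481910 (n l 32147 10481964 l))))) 32167 10482138 (n (n (n (n (n l 32182 10482144 l) 32151 10482176
  (n l 32178 10482380 l)) 32163 10482422 (n (n l 32168 10482454 l) 32150 10482688 (n l 32179 10482892 l))) 32162
  10482934 (n (n (n l 32184 10482988 l) 32140 10483162 (n l 32157 10483168 l)) 32173 10483258 (n (n l 32146 10483500 l)
  32166 10483674 (n l 32183 10483680 l)))) 32177 10483750 (n (n (n (n l 32159 10483978 l) 32138 10484252 (n l 32175
  10484432 l)) 32190 10484458 (n (n l 32181 10484490 l) 32139 10484764 (n l 32174 10484944 l))) 32191 10484970 (n (n (n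
  l 32165 10485040 l) 32145 10485190 (n l 32128 10485244 l)) 32161 10485276 (n (n l 32132 10485456 l) 32149 10485482 (n
  l 32158 10485514 l))))))) 35841 12050558 (n (n (n (n (n (n (n l 35883 12050686 l) 35845 12050772 (n l 35868 12050920
  l)) 35884 12050994 (n (n l 35846 12051122 l) 35867 12051236 (n l 35842 12051352 l))) 35865 12051522 (n (n (n l 35882
  12051582 l) 35892 12051982 (n l 35847 12052018 l)) 35843 12052248 (n (n l 35888 12052260 l) 35881 12052376 (n l 35866
  12052388 l)))) 35872 12052556 (n (n (n (n l 35897 12052720 l) 35876 12052838 (n l 35854 12052966 l)) 35853 12052992 (n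
  (n l 35860 12053180 l) 35898 12053270 (n l 35856 12053398 l))) 35900 12053850 (n (n (n l 35855 12053862 l) 35899
  12054422 (n l 35848 12054442 l)) 35890 12054594 (n (n l 35864 12054722 l) 35894 12054888 (n l 35887 12054996 l)))))
  35871 12055054 (n (n (n (n (n l 35893 12055182 l) 35880 12055320 (n l 35889 12055460 l)) 35891 12055746 (n (n l 35840
  12055806 l) 35886 12055892 (n l 35869 12055912 l))) 35844 12056020 (n (n (n l 35895 12056040 l) 35870 12056206 (n l
  35885 12056242 l)) 35859 12056688 (n (n l 35850 12056780 l) 35863 12056922 (n l 35901 12057050 l)))) 35902 12057148 (n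
  (n (n (n l 35879 12057216 l) 35849 12057386 (n l 35875 12057514 l)) 35851 12057676 (n (n l 35896 12057712 l) 35873
  12057804 (n l 35858 12057840 l))) 35862 12058074 (n (n (n l 35877 12058086 l) 35878 12058112 (n l 35861 12058172 l))
  35852 12058240 (n (n l 35903 12058300 l) 35857 12058390 (n l 35874 12058410 l)))))) 37249 12574778 (n (n (n (n (n (n l
  37300 12574942 l) 37292 12574998 (n l 37273 12575218 l)) 37251 12575302 (n (n l 37256 12575344 l) 37275 12575630 (n l
  37264 12575672 l))) 37280 12575756 (n (n (n l 37291 12575802 l) 37254 12576022 (n l 37261 12576032 l)) 37289 12576326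
  (n (n l 37276 12576418 l) 37263 12576604 (n l 37306 12576696 l)))) 37268 12576770 (n (n (n (n l 37290 12576976 l)
  37305 12577070 (n l 37255 12577276 l)) 37307 12577618 (n (n l 37296 12577636 l) 37253 12577664 (n l 37262 12577718
  l))) 37308 12578430 (n (n (n l 37250 12578476 l) 37274 12578660 (n l 37284 12578742 l)) 37258 12578828 (n (n l 37311
  12579048 l) 37287 12579104 (n l 37266 12579268 l))))) 37309 12579476 (n (n (n (n (n l 37302 12579490 l) 37285 12579676
  (n l 37294 12579690 l)) 37278 12580062 (n (n l 37269 12580072 l) 37304 12580292 (n l 37299 12580338 l))) 37282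
  12580464 (n (n (n l 37271 12580500 l) 37252 12580714 (n l 37297 12580750 l)) 37279 12580916 (n (n l 37281 12581094 l)
  37298 12581144 (n l 37260 12581322 l)))) 37277 12581448 (n (n (n (n l 37270 12581502 l) 37283 12581530 (n l 37288
  12581548 l)) 37310 12581890 (n (n l 37301 12581940 l) 37248 12582096 (n l 37259 12582118 l))) 37272 12582168 (n (n (n
  l 37267 12582190 l) 37286 12582346 (n l 37293 12582396 l)) 37303 12582472 (n (n l 37257 12582554 l) 37265 12582738 (n
  l 37295 12582784 l)))))))) 40985 14147596 (n (n (n (n (n (n (n (n l 40975 14147902 l) 40965 14148258 (n l 41017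
  14148368 l)) 40996 14148414 (n (n l 40974 14148542 l) 41020 14148672 (n l 41002 14148978 l))) 40992 14149358 (n (n (n
  l 40988 14149468 l) 40961 14149490 (n l 41003 14149618 l)) 41004 14149684 (n (n l 40987 14149786 l) 40966 14149812 (n
  l 41018 14149894 l)))) 40976 14150022 (n (n (n (n l 40973 14150056 l) 40986 14150170 (n l 40967 14150196 l)) 41008
  14150298 (n (n l 41019 14150534 l) 40980 14150742 (n l 40962 14151012 l))) 40968 14151416 (n (n (n l 41012 14151498 l)
  41001 14151524 (n l 40963 14151652 l)) 40964 14151714 (n (n l 41011 14151820 l) 41006 14151842 (n l 40978 14151952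
  l))))) 41016 14152080 (n (n (n (n (n l 40997 14152126 l) 41010 14152204 (n l 41007 14152226 l)) 40984 14152332 (n (n l
  40979 14152592 l) 40993 14152814 (n l 40982 14152896 l))) 40971 14152942 (n (n (n l 41015 14153052 l) 40989 14153180
  (n l 40960 14153202 l)) 40983 14153280 (n (n l 40970 14153326 l) 41021 14153408 (n l 41014 14153692 l)))) 41009
  14153754 (n (n (n (n l 40999 14154024 l) 41005 14154420 (n l 40977 14154502 l)) 40972 14154536 (n (n l 40998 14154664
  l) 40969 14154872 (n l 41022 14154966 l))) 40995 14155000 (n (n (n l 40991 14155082 l) 41013 14155210 (n l 41000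
  14155236 l)) 41023 14155350 (n (n l 40994 14155384 l) 40981 14155478 (n l 40990 14155722 l)))))) 42427 14671952 (n (n
  (n (n (n (n l 42376 14672032 l) 42382 14672250 (n l 42370 14672316 l)) 42395 14672716 (n (n l 42404 14672762 l) 42374
  14673172 (n l 42425 14673186 l))) 42393 14673470 (n (n (n l 42410 14673614 l) 42412 14673684 (n l 42400 14673874 l))
  42396 14674044 (n (n l 42384 14674106 l) 42409 14674262 (n l 42394 14674342 l)))) 42373 14674572 (n (n (n (n l 42426
  14674618 l) 42371 14674774 (n l 42428 14674784 l)) 42383 14674832 (n (n l 42416 14674854 l) 42388 14674962 (n l 42411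
  14674980 l))) 42369 14675492 (n (n (n l 42381 14675682 l) 42420 14675726 (n l 42375 14675966 l)) 42372 14676070 (n (n
  l 42423 14676118 l) 42417 14676300 (n l 42429 14676362 l))))) 42385 14676560 (n (n (n (n (n l 42414 14676582 l) 42397
  14676630 (n l 42402 14676640 l)) 42391 14676874 (n (n l 42408 14676924 l) 42380 14677000 (n l 42419 14677054 l)))
  42368 14677198 (n (n (n l 42431 14677240 l) 42378 14677458 (n l 42421 14677476 l)) 42406 14677512 (n (n l 42389
  14677752 l) 42387 14677794 (n l 42399 14677988 l)))) 42403 14678090 (n (n (n (n l 42415 14678156 l) 42390 14678368 (n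
  l 42405 14678416 l)) 42377 14678602 (n (n l 42422 14678652 l) 42392 14679252 (n l 42407 14679266 l))) 42398 14679310
  (n (n (n l 42401 14679352 l) 42386 14679496 (n l 42413 14679550 l)) 42430 14679570 (n (n l 42418 14679764 l) 42379
  14679864 (n l 42424 14680008 l))))))) 46349 16244754 (n (n (n (n (n (n (n l 46344 16244910 l) 46364 16245024 (n l
  46361 16245148 l)) 46362 16245370 (n (n l 46384 16245498 l) 46372 16245620 (n l 46350 16245748 l))) 46378 16245824 (n
  (n (n l 46341 16245884 l) 46356 16246094 (n l 46395 16246130 l)) 46380 16246554 (n (n l 46339 16246566 l) 46342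
  16246682 (n l 46377 16246694 l)))) 46394 16246836 (n (n (n (n l 46352 16246964 l) 46379 16247046 (n l 46337 16247174
  l)) 46338 16247392 (n (n l 46343 16247516 l) 46396 16247662 (n l 46393 16247762 l))) 46368 16248462 (n (n (n l 46351
  16248498 l) 46388 16248576 (n l 46363 16248636 l)) 46370 16248878 (n (n l 46375 16248978 l) 46387 16249116 (n l 46390
  16249248 l))))) 46389 16249414 (n (n (n (n (n l 46367 16249542 l) 46347 16249672 (n l 46369 16249800 l)) 46336
  16250048 (n (n l 46383 16250108 l) 46398 16250318 (n l 46353 16250354 l))) 46354 16250388 (n (n (n l 46397 16250408 l)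
  46392 16250516 (n l 46359 16250536 l)) 46357 16250888 (n (n l 46399 16251016 l) 46340 16251194 (n l 46382 16251322
  l)))) 46381 16251484 (n (n (n (n l 46376 16251616 l) 46355 16251730 (n l 46358 16251886 l)) 46386 16251994 (n (n l
  46365 16252006 l) 46360 16252122 (n l 46391 16252134 l))) 46348 16252244 (n (n (n l 46371 16252264 l) 46374 16252372
  (n l 46345 16252392 l)) 46346 16252430 (n (n l 46373 16252466 l) 46366 16252800 (n l 46385 16252860 l)))))) 48548
  16769104 (n (n (n (n (n (n l 48539 16769380 l) 48519 16769426 (n l 48528 16769468 l)) 48569 16769754 (n (n l 48538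
  16769816 l) 48525 16769846 (n l 48518 16770030 l))) 48514 16770104 (n (n (n l 48554 16770338 l) 48515 16770628 (n l
  48532 16770666 l)) 48520 16770716 (n (n l 48555 16770910 l) 48572 16770928 (n l 48544 16770950 l)))) 48517 16771170 (n
  (n (n (n l 48537 16771220 l) 48526 16771258 (n l 48570 16771414 l)) 48527 16771782 (n (n l 48556 16771844 l) 48571
  16771882 (n l 48560 16772082 l))) 48564 16772132 (n (n (n l 48540 16772414 l) 48553 16772782 (n l 48513 16773044 l))
  48563 16773246 (n (n l 48559 16773256 l) 48568 16773286 (n l 48524 16773450 l))))) 48562 16773634 (n (n (n (n (n l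
  48549 16773676 l) 48558 16773876 (n l 48529 16774080 l)) 48533 16774166 (n (n l 48542 16774350 l) 48521 16774368 (n l
  48573 16774412 l))) 48566 16774612 (n (n (n l 48545 16774650 l) 48543 16774834 (n l 48567 16775080 l)) 48530 16775244
  (n (n l 48557 16775544 l) 48561 16775566 (n l 48550 16775584 l)))) 48516 16775710 (n (n (n (n l 48531 16775728 l)
  48536 16775912 (n l 48551 16776156 l)) 48547 16776202 (n (n l 48552 16776402 l) 48575 16776444 (n l 48523 16776464
  l))) 48512 16776648 (n (n (n l 48535 16776678 l) 48565 16776792 (n l 48546 16776822 l)) 48574 16776832 (n (n l 48541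
  16777026 l) 48522 16777068 (n l 48534 16777114 l))))))))))

/-- The codes of the lanes of colour `3C` of class `10`. -/
def t10 : T := 
  (n (n (n (n (n (n (n (n l 5942 1188966 l) 5925 1189000 l) 5934 1189410 (n (n l 5949 1189580 l) 5919 1190162 l)) 5900
  1190396 (n (n (n l 5938 1191034 l) 5921 1191060 l) 5915 1192206 (n l 5896 1192416 l))) 5891 1192778 (n (n (n (n l 5904
  1192868 l) 5895 1194838 l) 5908 1194936 (n l 5930 1195582 l)) 5945 1195728 (n (n (n l 6423 1327204 l) 6438 1327230 l)
  6437 1327482 (n l 6447 1327686 l)))) 6430 1327708 (n (n (n (n (n l 6429 1327960 l) 6409 1328136 l) 6456 1328146 (n l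
  6410 1328396 l)) 6449 1328682 (n (n (n l 6400 1328688 l) 6450 1328942 l) 6420 1331552 (n l 6444 1332034 l))) 6459
  1332502 (n (n (n (n l 6403 1333044 l) 8861 2122266 l) 8855 2122338 (n l 8854 2122340 l)) 8836 2122620 (n (n (n l 8881
  2123396 l) 8866 2123674 l) 8867 2123676 (n l 8872 2123746 l))))) 8860 2126364 (n (n (n (n (n (n l 8847 2126594 l) 8846
  2126596 l) 8837 2126714 (n l 8880 2127490 l)) 8890 2127610 (n (n (n l 8891 2127612 l) 8873 2127844 l) 20354 6005038 (n
  l 20384 6005184 l))) 20394 6005610 (n (n (n (n l 20360 6005636 l) 20396 6007662 l) 20366 6007680 (n l 20409 6008326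
  l)) 20379 6008552 (n (n (n l 20375 6009926 l) 20405 6010024 l) 20415 6010370 (n l 20381 6010604 l)))) 20356 6011178 (n
  (n (n (n (n l 20390 6011332 l) 20369 6011970 l) 20403 6012076 (n l 20628 6144320 l)) 20668 6144866 (n (n (n l 20610
  6145334 l) 20650 6145812 l) 20637 6148188 (n l 20663 6148190 l))) 20670 6148418 (n (n (n (n l 20639 6148732 l) 20661
  6148734 l) 20630 6148960 (n l 20641 6149160 l)) 20619 6149162 (n (n (n l 20648 6149428 l) 20643 6149640 l) 20617
  6149642 (n l 20608 6149910 l)))))) 22669 6938760 (n (n (n (n (n (n (n l 22662 6938774 l) 22663 6938870 l) 22692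
  6939016 (n l 22681 6939760 l)) 22714 6939918 (n (n (n l 22715 6940014 l) 22704 6940016 l) 22668 6942952 (n l 22703
  6943126 l))) 22693 6943208 (n (n (n (n l 22702 6943222 l) 22675 6943758 l) 22680 6943760 (n l 22674 6943854 l)) 22705
  6944016 (n (n (n l 30258 9576834 l) 30218 9577414 l) 30247 9577612 (n l 30239 9578184 l)))) 30262 9578656 (n (n (n (n
  (n l 30269 9578824 l) 30248 9579590 l) 30243 9579950 (n l 30265 9580650 l)) 30209 9581102 (n (n (n l 30252 9581924 l)
  30228 9582368 l) 30222 9583332 (n l 30213 9583372 l))) 30224 9584130 (n (n (n (n l 30235 9584618 l) 35379 11807874 l)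
  35332 11807934 (n l 35378 11807936 l)) 35346 11808020 (n (n (n l 35365 11808040 l) 35347 11808086 l) 35351 11808276 (n
  l 35350 11808342 l))))) 35361 11808362 (n (n (n (n (n (n l 35382 11808642 l) 35383 11808704 l) 35328 11808764 (n l
  35333 11812092 l)) 35364 11812202 (n (n (n l 35360 11812392 l) 35329 11812798 l) 41449 14393642 (n l 41409 14394222
  l))) 41428 14394404 (n (n (n (n l 41468 14394976 l) 41415 14395988 l) 41421 14396348 (n l 41456 14397106 l)) 41466
  14397274 (n (n (n l 41443 14397634 l) 41419 14398086 l) 41438 14398924 (n l 41462 14399368 l)))) 41455 14399504 (n (n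
  (n (n (n l 41445 14399992 l) 41432 14400758 l) 41426 14400798 (n l 47700 16624682 l)) 47724 16625084 (n (n (n l 47681
  16625406 l) 47737 16625512 l) 47701 16628750 (n l 47730 16628820 l))) 47731 16628848 (n (n (n (n l 47725 16629144 l)
  47690 16629186 l) 47691 16629222 (n l 47719 16629376 l)) 47718 16629412 (n (n (n l 47680 16629466 l) 47711 16629526 l)
  47710 16629554 (n l 47736 16629580 l)))))))

/-- The codes of the lanes of colour `3C` of class `11`. -/
def t11 : T := 
  (n (n (n (n (n (n (n (n l 1173 180660 l) 1181 180764 (n l 1161 181580 l)) 1152 181992 (n (n l 1201 182520 l) 1208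
  183132 (n l 1197 183296 l))) 1189 184232 (n (n (n l 1172 184760 l) 1180 184848 (n l 1160 185664 l)) 1153 186084 (n (n
  l 1200 186612 l) 1209 187216 (n l 1196 187404 l)))) 1188 188324 (n (n (n (n l 2017 312138 l) 1988 312240 (n l 1993
  312636 l)) 2029 312778 (n (n l 1984 313706 l) 2021 313744 (n l 2024 315164 l))) 1996 315370 (n (n (n l 2016 316230 l)
  1989 316348 (n l 1992 316720 l)) 2028 316870 (n (n l 1985 317798 l) 2020 317852 l)))) 2025 319248 (n (n (n (n (n l
  1997 319462 l) 6133 1229180 (n l 6120 1229590 l)) 6097 1229954 (n (n l 6092 1230568 l) 6113 1230988 (n l 6141 1231594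
  l))) 6084 1232254 (n (n (n l 6104 1232664 l) 6132 1233264 (n l 6121 1233690 l)) 6096 1234062 (n (n l 6093 1234660 l)
  6112 1235072 l))) 6140 1235686 (n (n (n (n l 6085 1236338 l) 6105 1236756 (n l 10237 2409832 l)) 10185 2409940 (n (n l
  10225 2410050 l) 10180 2410226 (n l 10200 2410858 l))) 10221 2410970 (n (n (n l 10197 2411084 l) 10209 2411248 (n l
  10236 2413924 l)) 10184 2414040 (n (n l 10224 2414158 l) 10181 2414334 l))))) 10201 2414950 (n (n (n (n (n (n l 10220
  2415062 l) 10196 2415168 (n l 10208 2415356 l)) 12897 3328100 (n (n l 12881 3328146 l) 12909 3328584 (n l 12893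
  3328702 l))) 12864 3329406 (n (n (n l 12913 3329412 l) 12876 3329874 (n l 12925 3329960 l)) 12896 3332200 (n (n l
  12880 3332254 l) 12908 3332676 l))) 12892 3332786 (n (n (n (n l 12865 3333490 l) 12912 3333512 (n l 12877 3333982 l))
  12924 3334052 (n (n l 13281 3457542 l) 13285 3457866 (n l 13248 3458802 l))) 13252 3459006 (n (n (n l 13309 3459640 l)
  13304 3459960 (n l 13277 3460800 l)) 13272 3460992 (n (n l 13280 3461642 l) 13284 3461958 l)))) 13249 3462910 (n (n (n
  (n (n l 13253 3463090 l) 13308 3463732 (n l 13305 3464052 l)) 13276 3464908 (n (n l 13273 3465100 l) 22928 7021764 (n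
  l 22932 7021960 l))) 22956 7022110 (n (n (n l 22953 7022430 l) 22964 7023812 (n l 22960 7024008 l)) 22920 7024158 (n
  (n l 22925 7024478 l) 22929 7025864 l))) 22933 7026052 (n (n (n (n l 22957 7026194 l) 22952 7026514 (n l 22965 7027912
  l)) 22961 7028100 (n (n l 22921 7028242 l) 22924 7028562 (n l 26424 8438640 l))) 26413 8438720 (n (n (n l 26397
  8439328 l) 26377 8439452 (n l 26417 8440100 l)) 26405 8440216 (n (n l 26389 8440952 l) 26368 8441032 l)))))) 26425
  8442748 (n (n (n (n (n (n (n l 26412 8442828 l) 26396 8443436 (n l 26376 8443536 l)) 26416 8444200 (n (n l 26404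
  8444308 l) 26388 8445044 (n l 26369 8445124 l))) 28001 8831374 (n (n (n l 27997 8831656 l) 28017 8832036 (n l 27980
  8832782 l)) 28013 8833442 (n (n l 27985 8833668 l) 28029 8834056 l))) 27968 8834850 (n (n (n (n l 28000 8835458 l)
  27996 8835748 (n l 28016 8836136 l)) 27981 8836866 (n (n l 28012 8837550 l) 27984 8837768 (n l 28028 8838148 l)))
  27969 8838958 (n (n (n l 29921 9486338 l) 29909 9487020 (n l 29949 9487770 l)) 29897 9488180 (n (n l 29937 9488720 l)
  29892 9489394 l)))) 29933 9489608 (n (n (n (n (n l 29912 9490026 l) 29920 9490446 (n l 29908 9491104 l)) 29948 9491862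
  (n (n l 29896 9492280 l) 29936 9492828 (n l 29893 9493502 l))) 29932 9493700 (n (n (n l 29913 9494118 l) 32488
  10535070 (n l 32509 10535738 l)) 32472 10536288 (n (n l 32460 10536648 l) 32504 10537274 l))) 32493 10537630 (n (n (n
  (n l 32457 10538184 l) 32477 10538848 (n l 32489 10539154 l)) 32508 10539830 (n (n l 32473 10540396 l) 32461 10540740
  (n l 32505 10541366 l))) 32492 10541714 (n (n (n l 32456 10542276 l) 32476 10542956 (n l 42181 14623150 l)) 42220
  14623662 (n (n l 42212 14623998 l) 42189 14624510 l))))) 42201 14624862 (n (n (n (n (n (n l 42224 14625374 l) 42233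
  14626050 (n l 42192 14626562 l)) 42180 14627234 (n (n l 42221 14627746 l) 42213 14628082 (n l 42188 14628594 l)))
  42200 14628946 (n (n (n l 42225 14629458 l) 42232 14630158 (n l 42193 14630670 l)) 44708 15671636 (n (n l 44713
  15672114 l) 44720 15672574 l))) 44732 15672980 (n (n (n (n l 44704 15673702 l) 44716 15674124 (n l 44724 15674572 l))
  44729 15675050 (n (n l 44709 15675736 l) 44712 15676222 (n l 44721 15676658 l))) 44733 15677080 (n (n (n l 44705
  15677802 l) 44717 15678208 (n l 44725 15678656 l)) 44728 15679142 (n (n l 46593 16327450 l) 46633 16327478 l)))) 46612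
  16328000 (n (n (n (n (n l 46652 16328044 l) 46624 16329284 (n l 46600 16329320 l)) 46644 16329746 (n (n l 46620
  16329790 l) 46592 16331542 (n l 46632 16331578 l))) 46613 16332108 (n (n (n l 46653 16332128 l) 46625 16333384 (n l
  46601 16333412 l)) 46645 16333854 (n (n l 46621 16333874 l) 48136 16720356 l))) 48176 16720710 (n (n (n (n l 48129
  16721150 l) 48185 16721500 (n l 48180 16721984 l)) 48141 16722670 (n (n l 48188 16723286 l) 48133 16723960 (n l 48137
  16724456 l))) 48177 16724810 (n (n (n l 48128 16725234 l) 48184 16725584 (n l 48181 16726092 l)) 48140 16726754 (n (n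
  l 48189 16727386 l) 48132 16728052 l)))))))

private noncomputable def _root_.Cfsg.Agent.LsF.f665905_0 : {f // @Cfsg.Agent.H816.MK.allT = f} := ⟨_, by first | (delta Cfsg.Agent.H816.MK.allT; rewrite [Cfsg.Agent.LsF.and_eq]; exact rfl) | exact rfl⟩
private noncomputable def _root_.Cfsg.Agent.LsF.f665905_1 : {f // @Cfsg.Agent.MonsterX.Lin24.col = f} := ⟨_, by first | (delta Cfsg.Agent.MonsterX.Lin24.col; rewrite [Cfsg.Agent.LsF.nmul_pat, Cfsg.Agent.LsF.nmod_pat, Cfsg.Agent.LsF.nshr_pat]; exact rfl) | exact rfl⟩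
private noncomputable def _root_.Cfsg.Agent.LsF.f665905_2 : {f // @Cfsg.Agent.MonsterX.Lin24.linN = f} := ⟨_, by first | (delta Cfsg.Agent.MonsterX.Lin24.linN; rewrite [Cfsg.Agent.LsF.f665905_1.2, Cfsg.Agent.LsF.cond_eq, Cfsg.Agent.LsF.testBit_eq]; exact rfl) | exact rfl⟩
private noncomputable def _root_.Cfsg.Agent.LsF.f665905_3 : {f // @Cfsg.Agent.MonsterX.Lin24.lin = f} := ⟨_, by first | (delta Cfsg.Agent.MonsterX.Lin24.lin; rewrite [Cfsg.Agent.LsF.f665905_2.2]; exact rfl) | exact rfl⟩
private noncomputable def _root_.Cfsg.Agent.LsF.f665905_4 : {f // @Cfsg.Agent.H816.MK.invC = f} := ⟨_, by first | (delta Cfsg.Agent.H816.MK.invC; rewrite [Cfsg.Agent.LsF.f665905_0.2, Cfsg.Agent.LsF.f665905_3.2]; exact rfl) | exact rfl⟩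
theorem inv4 : invC t4 CertS4.e0 = true ∧ invC t4 CertS4.e1 = true ∧ invC t4 CertS4.e2 = true ∧ invC t4 CertS4.e3 = true := by (refine of_decide_eq_true ?_; (try (rewrite [Cfsg.Agent.LsF.f665905_4.2, Cfsg.Agent.LsF.dAnd_eq, Cfsg.Agent.LsF.dBoolEq_eq, Cfsg.Agent.LsF.decide_eq])); decide +kernel)

theorem inv10 : invC t10 CertS10.e0 = true ∧ invC t10 CertS10.e1 = true := by (refine of_decide_eq_true ?_; (try (rewrite [Cfsg.Agent.LsF.f665905_4.2, Cfsg.Agent.LsF.dAnd_eq, Cfsg.Agent.LsF.dBoolEq_eq, Cfsg.Agent.LsF.decide_eq])); decide +kernel)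

theorem inv11 : invC t11 CertS11.e0 = true ∧ invC t11 CertS11.e1 = true := by (refine of_decide_eq_true ?_; (try (rewrite [Cfsg.Agent.LsF.f665905_4.2, Cfsg.Agent.LsF.dAnd_eq, Cfsg.Agent.LsF.dBoolEq_eq, Cfsg.Agent.LsF.decide_eq])); decide +kernel)

theorem inv_mem {t : T} {e : ℕ} (hb : bst t 0 16777216 = true) (h : invC t e = true) :
    ∀ c ∈ S t, Lin24.lin e c ∈ S t := by
  intro c hc
  obtain ⟨i, hi⟩ := allT_sound h hc
  exact (mem_iff hb _).1 hi

theorem bst4 : bst t4 0 16777216 = true := by decide +kernel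

theorem cov4 (y : Fr U.ind) (hy : OnLane U y) :
    ∃ c ∈ cs 4, ∃ l ∈ LK (W (bj 4) (vecV a0B)) (S t4), (coded U.ind).code (l • y) = c := by
  obtain ⟨i, hi, hy⟩ := hy
  have h0 := inLK (w := l4_0) (e := CertS4.e0) (by decide) fix4_0 (by rewrite [Cfsg.Agent.MonsterX.CmpFast.evF_of (f := Cfsg.Agent.MonsterX.FrameGam.evalF) rfl]; decide +kernel)
    (inv_mem bst4 inv4.1)
  have h1 := inLK (w := l4_1) (e := CertS4.e1) (by decide) fix4_1 (by rewrite [Cfsg.Agent.MonsterX.CmpFast.evF_of (f := Cfsg.Agent.MonsterX.FrameGam.evalF) rfl]; decide +kernel)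
    (inv_mem bst4 inv4.2.1)
  have h2 := inLK (w := l4_2) (e := CertS4.e2) (by decide) fix4_2 (by rewrite [Cfsg.Agent.MonsterX.CmpFast.evF_of (f := Cfsg.Agent.MonsterX.FrameGam.evalF) rfl]; decide +kernel)
    (inv_mem bst4 inv4.2.2.1)
  have h3 := inLK (w := l4_3) (e := CertS4.e3) (by decide) fix4_3 (by rewrite [Cfsg.Agent.MonsterX.CmpFast.evF_of (f := Cfsg.Agent.MonsterX.FrameGam.evalF) rfl]; decide +kernel)
    (inv_mem bst4 inv4.2.2.2)
  have h := CertS4.cover h0 h1 h2 h3 hi hy
  rw [CertS4.codes_eq] at h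
  exact h

private noncomputable def _root_.Cfsg.Agent.LsF.f665905_9 : {f // @Cfsg.Agent.MonsterX.CertLin.num = f} := ⟨_, by first | (delta Cfsg.Agent.MonsterX.CertLin.num List.brecOn List.brecOn.go Cfsg.Agent.MonsterX.CertLin.num._f; rewrite [Cfsg.Agent.LsF.nadd_pat, Cfsg.Agent.LsF.nmul_pat, Cfsg.Agent.LsF.testBit_eq, Cfsg.Agent.LsF.btoNat_eq]; (try delta Cfsg.Agent.MonsterX.CertLin.num.match_1); (try delta List.casesOn); first | dsimp -zeta only | exact rfl) | exact rfl⟩
private noncomputable def _root_.Cfsg.Agent.LsF.f665905_10 : {f // @Cfsg.Agent.H816.MK.laneC = f} := ⟨_, by first | (delta Cfsg.Agent.H816.MK.laneC; rewrite [Cfsg.Agent.LsF.f665905_0.2, Cfsg.Agent.LsF.f665905_9.2, Cfsg.Agent.LsF.and_eq]; exact rfl) | exact rfl⟩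
theorem cls4 : Cls 4 6 t4 1024 where
  lt := by norm_num
  bst := bst4
  size := by decide +kernel
  lane := by ((try (rewrite [Cfsg.Agent.LsF.f665905_10.2])); decide +kernel)
  cov := cov4
  len := by decide
  tab := by decide +kernel
  kol := by decide +kernel

theorem bst10 : bst t10 0 16777216 = true := by decide +kernel

theorem cov10 (y : Fr U.ind) (hy : OnLane U y) :
    ∃ c ∈ cs 10, ∃ l ∈ LK (W (bj 10) (vecV a0B)) (S t10), (coded U.ind).code (l • y) = c := by
  obtain ⟨i, hi, hy⟩ := hy
  have h0 := inLK (w := l10_0) (e := CertS10.e0) (by decide) fix10_0 (by rewrite [Cfsg.Agent.MonsterX.CmpFast.evF_of (f := Cfsg.Agent.MonsterX.FrameGam.evalF) rfl]; decide +kernel)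
    (inv_mem bst10 inv10.1)
  have h1 := inLK (w := l10_1) (e := CertS10.e1) (by decide) fix10_1 (by rewrite [Cfsg.Agent.MonsterX.CmpFast.evF_of (f := Cfsg.Agent.MonsterX.FrameGam.evalF) rfl]; decide +kernel)
    (inv_mem bst10 inv10.2)
  have h := CertS10.cover h0 h1 hi hy
  rw [CertS10.codes_eq] at h
  exact h

theorem cls10 : Cls 10 11 t10 160 where
  lt := by norm_num
  bst := bst10
  size := by decide +kernel
  lane := by ((try (rewrite [Cfsg.Agent.LsF.f665905_10.2])); decide +kernel)
  cov := cov10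
  len := by decide
  tab := by decide +kernel
  kol := by decide +kernel

theorem bst11 : bst t11 0 16777216 = true := by decide +kernel

theorem cov11 (y : Fr U.ind) (hy : OnLane U y) :
    ∃ c ∈ cs 11, ∃ l ∈ LK (W (bj 11) (vecV a0B)) (S t11), (coded U.ind).code (l • y) = c := by
  obtain ⟨i, hi, hy⟩ := hy
  have h0 := inLK (w := l11_0) (e := CertS11.e0) (by decide) fix11_0 (by rewrite [Cfsg.Agent.MonsterX.CmpFast.evF_of (f := Cfsg.Agent.MonsterX.FrameGam.evalF) rfl]; decide +kernel)
    (inv_mem bst11 inv11.1)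
  have h1 := inLK (w := l11_1) (e := CertS11.e1) (by decide) fix11_1 (by rewrite [Cfsg.Agent.MonsterX.CmpFast.evF_of (f := Cfsg.Agent.MonsterX.FrameGam.evalF) rfl]; decide +kernel)
    (inv_mem bst11 inv11.2)
  have h := CertS11.cover h0 h1 hi hy
  rw [CertS11.codes_eq] at h
  exact h

theorem cls11 : Cls 11 16 t11 240 where
  lt := by norm_num
  bst := bst11
  size := by decide +kernel
  lane := by ((try (rewrite [Cfsg.Agent.LsF.f665905_10.2])); decide +kernel)
  cov := cov11
  len := by decide
  tab := by decide +kernel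
  kol := by decide +kernel

end Cfsg.Agent.H816.MKT
end

-- part: H816/MLaneChk
section
/-!
# Joint lane counts: kernel checks (helper816)

`tl j` : the list of `(32 F (s⁺, d j), 32 F (s⁻, d j), number of lanes)`.
-/

set_option autoImplicit false
set_option maxRecDepth 100000
set_option Elab.async false

namespace Cfsg.Agent.H816.MLaneChk

open Cfsg.Agent.H816.MLane Cfsg.Agent.MonsterX.InstData

/-- The tables. -/
def tl : List (List (ℕ × ℕ × ℕ)) := [
  [(0, 0, 46575), (8, 8, 47104), (32, 32, 4600), (256, 0, 1)],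
  [(0, 0, 2160), (0, 32, 64), (4, 4, 61440), (8, 8, 34560), (32, 0, 56)],
  [(0, 8, 242), (4, 4, 32384), (5, 5, 47104), (8, 0, 264), (8, 8, 16192), (8, 32, 24), (13, 13, 2048), (32, 8, 22)],
  [(0, 4, 31), (4, 0, 32), (4, 4, 12096), (4, 8, 1104), (5, 5, 50688), (5, 13, 256), (6, 6, 28672), (8, 4, 1112), (8, 8, 4032), (13, 5, 256), (32, 4, 1)],
  [(0, 8, 8), (4, 4, 2144), (4, 8, 1968), (5, 5, 61440), (6, 6, 30720), (8, 0, 8), (8, 4, 1872), (8, 8, 120)],
  [(4, 5, 12552), (5, 4, 12396), (5, 5, 44288), (5, 8, 891), (5, 32, 1), (6, 6, 20736), (8, 5, 891), (8, 8, 5632), (8, 13, 452), (13, 0, 1), (13, 8, 439), (32, 5, 1)],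
  [(0, 5, 3), (4, 4, 1536), (4, 5, 2348), (4, 13, 16), (5, 4, 2404), (5, 5, 48384), (5, 6, 9280), (5, 8, 2216), (6, 5, 9152), (6, 6, 20736), (8, 5, 2185), (13, 4, 20)],
  [(4, 4, 120), (4, 8, 72), (5, 5, 34560), (5, 6, 30720), (6, 5, 30720), (6, 6, 2016), (8, 4, 72)],
  [(4, 4, 110), (4, 5, 2176), (4, 8, 62), (5, 4, 2048), (5, 5, 43912), (5, 6, 18016), (5, 8, 704), (5, 13, 14), (6, 5, 17824), (6, 6, 10560), (6, 8, 1056), (8, 4, 70), (8, 5, 704), (8, 6, 992), (8, 8, 22), (13, 5, 10)],
  [(4, 5, 1100), (4, 6, 1932), (5, 4, 1100), (5, 5, 52800), (5, 6, 11574), (5, 8, 100), (6, 0, 1), (6, 4, 1918), (6, 5, 11526), (6, 6, 11200), (6, 8, 2065), (6, 13, 42), (8, 5, 100), (8, 6, 2060), (8, 8, 704), (13, 6, 58)],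
  [(4, 5, 976), (4, 6, 316), (5, 4, 944), (5, 5, 41920), (5, 6, 20872), (5, 8, 952), (6, 4, 304), (6, 5, 21368), (6, 6, 9600), (6, 8, 32), (8, 5, 968), (8, 6, 28)],
  [(4, 5, 606), (4, 6, 614), (4, 8, 32), (5, 4, 580), (5, 5, 43182), (5, 6, 20632), (5, 8, 676), (5, 13, 1), (6, 4, 646), (6, 5, 20840), (6, 6, 9016), (6, 8, 386), (8, 4, 24), (8, 5, 674), (8, 6, 370), (13, 5, 1)]]

theorem c0 : chkP 3 (bj 0) (tl.getD 0 []) = true := by decide +kernel

theorem c1 : chkP 3 (bj 1) (tl.getD 1 []) = true := by decide +kernel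

theorem c2 : chkP 3 (bj 2) (tl.getD 2 []) = true := by decide +kernel

theorem c3 : chkP 5 (bj 3) (tl.getD 3 []) = true := by decide +kernel

theorem c4 : chkP 5 (bj 4) (tl.getD 4 []) = true := by decide +kernel

theorem c5 : chkP 6 (bj 5) (tl.getD 5 []) = true := by decide +kernel

theorem c6 : chkP 6 (bj 6) (tl.getD 6 []) = true := by decide +kernel

theorem c7 : chkP 6 (bj 7) (tl.getD 7 []) = true := by decide +kernel

theorem c8 : chkP 6 (bj 8) (tl.getD 8 []) = true := by decide +kernel

theorem c9 : chkP 6 (bj 9) (tl.getD 9 []) = true := by decide +kernel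

theorem c10 : chkP 6 (bj 10) (tl.getD 10 []) = true := by decide +kernel

theorem c11 : chkP 6 (bj 11) (tl.getD 11 []) = true := by decide +kernel

end Cfsg.Agent.H816.MLaneChk
end

-- part: H816/MCnt
section
/-!
# The numbers of the pairs of colours over the base orbit (helper816)

`Q_eq` : `#{s ∈ S : col s (d j) = u, col (σ s) (d j) = w} = mt j u w`.
-/

set_option autoImplicit false
set_option maxRecDepth 100000

namespace Cfsg.Agent.H816.MCnt

open Cfsg Cfsg.Agent.MonsterX Cfsg.Agent.MonsterX.Space Cfsg.Agent.MonsterX.Conc Cfsg.Agent.MonsterX.InstData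
open Cfsg.Agent.MonsterX.Model Cfsg.Agent.MonsterX.MainBasic Cfsg.Agent.MonsterX.CertUTab
open Cfsg.Agent.H816.MTab Cfsg.Agent.H816.MCol Cfsg.Agent.H816.MEnt Cfsg.Agent.H816.MLane

/-- `32` times the value of a colour. -/
def vv (u : Fin 9) : ℕ := [256, 32, 0, 13, 4, 8, 4, 6, 5].getD u.1 0

private noncomputable def _root_.Cfsg.Agent.LsF.f665905_22 : {f // @Cfsg.Agent.MonsterX.CertUTab.us = f} := ⟨_, by first | (delta Cfsg.Agent.MonsterX.CertUTab.us; rewrite [Cfsg.Agent.LsF.getD_eq]; exact rfl) | exact rfl⟩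
private noncomputable def _root_.Cfsg.Agent.LsF.f665905_23 : {f // @Cfsg.Agent.MonsterX.CertUTab.nr = f} := ⟨_, by first | (delta Cfsg.Agent.MonsterX.CertUTab.nr; rewrite [Cfsg.Agent.LsF.f665905_22.2, Cfsg.Agent.LsF.length_eq]; exact rfl) | exact rfl⟩
private noncomputable def _root_.Cfsg.Agent.LsF.f665905_24 : {f // @Cfsg.Agent.H816.MEnt.kc = f} := ⟨_, by first | (delta Cfsg.Agent.H816.MEnt.kc; rewrite [Cfsg.Agent.LsF.getD_eq]; exact rfl) | exact rfl⟩
private noncomputable def _root_.Cfsg.Agent.LsF.f665905_25 : {f // @Cfsg.Agent.H816.MEnt.k0 = f} := ⟨_, by first | (delta Cfsg.Agent.H816.MEnt.k0; rewrite [Cfsg.Agent.LsF.f665905_24.2]; (try delta Cfsg.Agent.H816.MEnt.k0.match_1); (try delta Bool.casesOn); exact rfl) | exact rfl⟩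
private noncomputable def _root_.Cfsg.Agent.LsF.f665905_26 : {f // @Cfsg.Agent.MonsterX.PairValTab.vs = f} := ⟨_, by first | (delta Cfsg.Agent.MonsterX.PairValTab.vs; rewrite [Cfsg.Agent.LsF.getD_eq]; exact rfl) | exact rfl⟩
private noncomputable def _root_.Cfsg.Agent.LsF.f665905_27 : {f // @Cfsg.Agent.MonsterX.FieldsP.vb = f} := ⟨_, by first | (delta Cfsg.Agent.MonsterX.FieldsP.vb; rewrite [Cfsg.Agent.LsF.f665905_26.2, Cfsg.Agent.LsF.dBoolEq_eq, Cfsg.Agent.LsF.ite_eq]; exact rfl) | exact rfl⟩
private noncomputable def _root_.Cfsg.Agent.LsF.f665905_28 : {f // @Cfsg.Agent.H816.MCnt.vv = f} := ⟨_, by first | (delta Cfsg.Agent.H816.MCnt.vv; rewrite [Cfsg.Agent.LsF.getD_eq]; exact rfl) | exact rfl⟩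
theorem vb_eq : ∀ j < 12, ∀ m < nr j, ∀ b : Bool, ∀ u : Fin 9, k0 (j, m, b) = u.1 →
    FieldsP.vb j m b = 8 * (vv u : ℤ) := by (refine of_decide_eq_true ?_; (try (rewrite [Cfsg.Agent.LsF.f665905_23.2, Cfsg.Agent.LsF.f665905_25.2, Cfsg.Agent.LsF.f665905_27.2, Cfsg.Agent.LsF.f665905_28.2, Cfsg.Agent.LsF.imul_pat, Cfsg.Agent.LsF.icast_pat, Cfsg.Agent.LsF.instDecEq_eq, Cfsg.Agent.LsF.instIDecEq_eq, Cfsg.Agent.LsF.dBallLT_eq, Cfsg.Agent.LsF.dForallFin_eq, Cfsg.Agent.LsF.dAllP_eq, Cfsg.Agent.LsF.decide_eq])); decide +kernel)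

/-- The value of a pair of axes. -/
theorem F_eq {x y : V} (hx : x ∈ M.X) (hy : y ∈ M.X) : M.F x y = (vv (col M x y) : ℚ) / 32 := by
  obtain ⟨g, hg, g0, e, he, g1⟩ := cov_all hx hy
  have h0 : col M M.a₀ (yE e) = col M x y := by
    rw [← g0, ← g1, col_smul hG hR hL hO MEnt.hT hg hx]
  have h1 : M.F x y = M.F M.a₀ (yE e) := by
    rw [← g0, ← g1, G_isom hO hR hg]
  have h2 := vb_eq e.1 he.1 e.2.1 he.2 e.2.2 (col M x y) (by rw [← h0]; exact (col_k0 he).symm)
  rw [h1, F_yE he, h2]
  push_cast
  ring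

theorem vv_inj : ∀ u w : Fin 9, u ≠ 4 → u ≠ 6 → vv w = vv u → w = u := by decide

theorem vv_four : ∀ w : Fin 9, vv w = 4 ↔ w = 4 ∨ w = 6 := by decide

theorem vv_of {x y : V} (hx : x ∈ M.X) (hy : y ∈ M.X) {a : ℕ} : M.F x y = (a : ℚ) / 32 ↔ vv (col M x y) = a := by
  rw [F_eq hx hy]
  constructor
  · intro h
    have := (div_left_inj' (by norm_num : (32 : ℚ) ≠ 0)).1 h
    exact_mod_cast this
  · intro h; rw [h]

theorem F_iff {x y : V} (hx : x ∈ M.X) (hy : y ∈ M.X) {u : Fin 9} (h4 : u ≠ 4) (h6 : u ≠ 6) :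
    col M x y = u ↔ M.F x y = (vv u : ℚ) / 32 := by
  rw [vv_of hx hy]
  constructor
  · intro h; rw [h]
  · exact vv_inj u _ h4 h6

theorem F_iff_four {x y : V} (hx : x ∈ M.X) (hy : y ∈ M.X) :
    (col M x y = 4 ∨ col M x y = 6) ↔ M.F x y = ((4 : ℕ) : ℚ) / 32 := by
  rw [vv_of hx hy, vv_four]

theorem S_X {s : V} (hs : s ∈ M.S) : s ∈ M.X := S_sub_X hO hs

theorem σS {s : V} (hs : s ∈ M.S) : M.σ s ∈ M.S := σ_S hG hR hs

theorem d_X (j : Fin 12) : M.d j ∈ M.X := ⟨j, 1, M.C.one_mem, rfl⟩

/-- The set of `s` with given colours. -/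
def QS (j : Fin 12) (u w : Fin 9) : Set V :=
  {s | s ∈ M.S ∧ col M s (M.d j) = u ∧ col M (M.σ s) (M.d j) = w}

/-- The number of `s` with given colours. -/
noncomputable def Q (j : Fin 12) (u w : Fin 9) : ℕ := (QS j u w).ncard

/-- The number of `s` with given values. -/
def N (j : ℕ) (a b : ℕ) : ℕ := lk (MLaneChk.tl.getD j []) a b + lk (MLaneChk.tl.getD j []) b a

theorem S_fin : M.S.Finite := Set.finite_of_ncard_ne_zero (by rw [hR.S_card]; norm_num)

theorem NN (j : Fin 12) (a b : ℕ) :
    {s | s ∈ M.S ∧ M.F s (M.d j) = (a : ℚ) / 32 ∧ M.F (M.σ s) (M.d j) = (b : ℚ) / 32}.ncard = N j.1 a b := by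
  rw [M_d]
  fin_cases j
  · exact NN_of MLaneChk.c0 a b
  · exact NN_of MLaneChk.c1 a b
  · exact NN_of MLaneChk.c2 a b
  · exact NN_of MLaneChk.c3 a b
  · exact NN_of MLaneChk.c4 a b
  · exact NN_of MLaneChk.c5 a b
  · exact NN_of MLaneChk.c6 a b
  · exact NN_of MLaneChk.c7 a b
  · exact NN_of MLaneChk.c8 a b
  · exact NN_of MLaneChk.c9 a b
  · exact NN_of MLaneChk.c10 a b
  · exact NN_of MLaneChk.c11 a b

/-- (a) -/
theorem Q_comm (j : Fin 12) (u w : Fin 9) : Q j u w = Q j w u := by
  have h : QS j u w = (fun s => M.σ s) '' QS j w u := by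
    ext s
    constructor
    · rintro ⟨h1, h2, h3⟩
      refine ⟨M.σ s, ⟨σS h1, h3, ?_⟩, σ_σ hR h1⟩
      rw [σ_σ hR h1]; exact h2
    · rintro ⟨s, ⟨h1, h2, h3⟩, rfl⟩
      refine ⟨σS h1, h3, ?_⟩
      show col M (M.σ (M.σ s)) (M.d j) = w
      rw [σ_σ hR h1]; exact h2
  unfold Q
  rw [h]
  exact Set.ncard_image_of_injective _ M.σ.injective

/-- The colours of a pair are the colours of an entry. -/
theorem exists_ent {j : Fin 12} {s : V} (hs : s ∈ M.S) : ∃ m < nr j.1, ∃ b : Bool,
    k0 (j.1, m, b) = (col M s (M.d j)).1 ∧ k1 (j.1, m, b) = (col M (M.σ s) (M.d j)).1 := by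
  obtain ⟨g, hg, ⟨j', m, b⟩, he, hj, h0, h1⟩ := cov_S (j := j) hs
  dsimp only at hj
  subst hj
  refine ⟨m, he.2, b, ?_, ?_⟩
  · rw [← col_k0 he, ← h0, ← h1, col_smul hG hR hL hO MEnt.hT (C_le hg) (S_X hs)]
  · have h2 : g (M.σ s) = M.a₁ := by rw [← hR.σ_comm g hg, h0, σ_a₀ hR]
    rw [← col_k1 he, ← h2, ← h1, col_smul hG hR hL hO MEnt.hT (C_le hg) (S_X (σS hs))]

/-- No entry has these colours. -/
def noE (j : ℕ) (u w : Fin 9) : Prop := ∀ m < nr j, ∀ b : Bool, ¬ (k0 (j, m, b) = u.1 ∧ k1 (j, m, b) = w.1)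

instance (j : ℕ) (u w : Fin 9) : Decidable (noE j u w) := by unfold noE; infer_instance

/-- (b) -/
theorem Q_zero {j : Fin 12} {u w : Fin 9} (h : noE j.1 u w) : Q j u w = 0 := by
  have h1 : QS j u w = ∅ := by
    rw [Set.eq_empty_iff_forall_notMem]
    rintro s ⟨h1, h2, h3⟩
    obtain ⟨m, hm, b, h4, h5⟩ := exists_ent (j := j) h1
    exact h m hm b ⟨by rw [h4, h2], by rw [h5, h3]⟩
  unfold Q
  rw [h1, Set.ncard_empty]

/-- (c) -/
theorem Q_val {j : Fin 12} {u w : Fin 9} (hu4 : u ≠ 4) (hu6 : u ≠ 6) (hw4 : w ≠ 4) (hw6 : w ≠ 6) :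
    Q j u w = N j.1 (vv u) (vv w) := by
  rw [← NN j (vv u) (vv w)]
  unfold Q
  congr 1
  ext s
  constructor
  · rintro ⟨h1, h2, h3⟩
    exact ⟨h1, (F_iff (S_X h1) (d_X j) hu4 hu6).1 h2, (F_iff (S_X (σS h1)) (d_X j) hw4 hw6).1 h3⟩
  · rintro ⟨h1, h2, h3⟩
    exact ⟨h1, (F_iff (S_X h1) (d_X j) hu4 hu6).2 h2, (F_iff (S_X (σS h1)) (d_X j) hw4 hw6).2 h3⟩

theorem QS_fin (j : Fin 12) (u w : Fin 9) : (QS j u w).Finite := S_fin.subset fun _ h => h.1

theorem QS_disj (j : Fin 12) {u w u' w' : Fin 9} (h : (u, w) ≠ (u', w')) : Disjoint (QS j u w) (QS j u' w') := by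
  rw [Set.disjoint_left]
  rintro s ⟨_, h2, h3⟩ ⟨_, h4, h5⟩
  exact h (Prod.ext (h2.symm.trans h4) (h3.symm.trans h5))

/-- (d) -/
theorem Q_four {j : Fin 12} {w : Fin 9} (hw4 : w ≠ 4) (hw6 : w ≠ 6) : Q j 4 w + Q j 6 w = N j.1 4 (vv w) := by
  rw [← NN j 4 (vv w)]
  unfold Q
  rw [← Set.ncard_union_eq (QS_disj j (by simp)) (QS_fin _ _ _) (QS_fin _ _ _)]
  congr 1
  ext s
  constructor
  · rintro (⟨h1, h2, h3⟩ | ⟨h1, h2, h3⟩)
    · exact ⟨h1, (F_iff_four (S_X h1) (d_X j)).1 (Or.inl h2), (F_iff (S_X (σS h1)) (d_X j) hw4 hw6).1 h3⟩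
    · exact ⟨h1, (F_iff_four (S_X h1) (d_X j)).1 (Or.inr h2), (F_iff (S_X (σS h1)) (d_X j) hw4 hw6).1 h3⟩
  · rintro ⟨h1, h2, h3⟩
    have h4 := (F_iff (S_X (σS h1)) (d_X j) hw4 hw6).2 h3
    rcases (F_iff_four (S_X h1) (d_X j)).2 h2 with h5 | h5
    · exact Or.inl ⟨h1, h5, h4⟩
    · exact Or.inr ⟨h1, h5, h4⟩

/-- (e) -/
theorem Q_four_four (j : Fin 12) : Q j 4 4 + Q j 4 6 + (Q j 6 4 + Q j 6 6) = N j.1 4 4 := by
  rw [← NN j 4 4]
  unfold Q
  rw [← Set.ncard_union_eq (QS_disj j (by simp)) (QS_fin _ _ _) (QS_fin _ _ _),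
    ← Set.ncard_union_eq (QS_disj j (by simp)) (QS_fin _ _ _) (QS_fin _ _ _),
    ← Set.ncard_union_eq _ ((QS_fin _ _ _).union (QS_fin _ _ _)) ((QS_fin _ _ _).union (QS_fin _ _ _))]
  · congr 1
    ext s
    constructor
    · rintro ((⟨h1, h2, h3⟩ | ⟨h1, h2, h3⟩) | (⟨h1, h2, h3⟩ | ⟨h1, h2, h3⟩))
      · exact ⟨h1, (F_iff_four (S_X h1) (d_X j)).1 (Or.inl h2), (F_iff_four (S_X (σS h1)) (d_X j)).1 (Or.inl h3)⟩
      · exact ⟨h1, (F_iff_four (S_X h1) (d_X j)).1 (Or.inl h2), (F_iff_four (S_X (σS h1)) (d_X j)).1 (Or.inr h3)⟩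
      · exact ⟨h1, (F_iff_four (S_X h1) (d_X j)).1 (Or.inr h2), (F_iff_four (S_X (σS h1)) (d_X j)).1 (Or.inl h3)⟩
      · exact ⟨h1, (F_iff_four (S_X h1) (d_X j)).1 (Or.inr h2), (F_iff_four (S_X (σS h1)) (d_X j)).1 (Or.inr h3)⟩
    · rintro ⟨h1, h2, h3⟩
      rcases (F_iff_four (S_X h1) (d_X j)).2 h2 with h4 | h4 <;>
        rcases (F_iff_four (S_X (σS h1)) (d_X j)).2 h3 with h5 | h5
      · exact Or.inl (Or.inl ⟨h1, h4, h5⟩)
      · exact Or.inl (Or.inr ⟨h1, h4, h5⟩)
      · exact Or.inr (Or.inl ⟨h1, h4, h5⟩)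
      · exact Or.inr (Or.inr ⟨h1, h4, h5⟩)
  · rw [Set.disjoint_left]
    rintro s (⟨_, h2, _⟩ | ⟨_, h2, _⟩) (⟨_, h4, _⟩ | ⟨_, h4, _⟩) <;>
      · rw [h2] at h4
        exact absurd h4 (by decide)

/-- (f) -/
theorem Q_cls {j : Fin 12} {m0 : ℕ} {t : MK.T} {n : ℕ} (h : MK.Cls j.1 m0 t n) :
    {s | s ∈ M.S ∧ (col M s (M.d j) = 4 ∨ col M (M.σ s) (M.d j) = 4)}.ncard = 2 * n := h.ncard

/-- The row of `3C`. -/
def qT (j : ℕ) (w : Fin 9) : ℕ :=
  if j = 4 then (if w = 4 then 2048 else 0) else
  if j = 7 then (if w = 5 then 144 else if w = 6 then 120 else 0) else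
  if j = 10 then (if w = 7 then 160 else 0) else
  if j = 11 then (if w = 8 then 240 else 0) else 0

theorem qT_zero : ∀ j < 12, ∀ w : Fin 9, noE j 4 w → qT j w = 0 := by decide +kernel

theorem qT_ne : ∀ j < 12, ∀ w : Fin 9, ¬ noE j 4 w → (j = 4 ∧ w = 4) ∨ (j = 7 ∧ w = 5) ∨ (j = 7 ∧ w = 6) ∨
    (j = 10 ∧ w = 7) ∨ (j = 11 ∧ w = 8) := by decide +kernel

theorem no10 : ∀ w : Fin 9, w ≠ 7 → noE 10 4 w := by decide +kernel

theorem no11 : ∀ w : Fin 9, w ≠ 8 → noE 11 4 w := by decide +kernel

theorem no4 : ∀ w : Fin 9, w ≠ 4 → noE 4 4 w := by decide +kernel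

theorem QS_empty {j : Fin 12} {u w : Fin 9} (h : noE j.1 u w) {s : V} (hs : s ∈ QS j u w) : False := by
  have h1 := Q_zero h
  unfold Q at h1
  rw [Set.ncard_eq_zero (QS_fin _ _ _)] at h1
  rw [h1] at hs
  exact hs

theorem two_of {j : Fin 12} {w : Fin 9} {m0 n : ℕ} {t : MK.T} (hw : w ≠ 4) (hno : ∀ w' : Fin 9, w' ≠ w → noE j.1 4 w')
    (h : MK.Cls j.1 m0 t n) : Q j 4 w = n := by
  have h1 := Q_cls h
  have h2 : {s | s ∈ M.S ∧ (col M s (M.d j) = 4 ∨ col M (M.σ s) (M.d j) = 4)} = QS j 4 w ∪ QS j w 4 := by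
    ext s
    constructor
    · rintro ⟨hs, h3 | h3⟩
      · left
        by_contra hcon
        have h4 : col M (M.σ s) (M.d j) ≠ w := fun h4 => hcon ⟨hs, h3, h4⟩
        exact QS_empty (hno _ h4) (⟨hs, h3, rfl⟩ : s ∈ QS j 4 (col M (M.σ s) (M.d j)))
      · right
        by_contra hcon
        have h4 : col M s (M.d j) ≠ w := fun h4 => hcon ⟨hs, h4, h3⟩
        refine QS_empty (hno _ h4) (⟨σS hs, h3, ?_⟩ : M.σ s ∈ QS j 4 (col M s (M.d j)))
        rw [σ_σ hR hs]
    · rintro (⟨hs, h3, h4⟩ | ⟨hs, h3, h4⟩)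
      · exact ⟨hs, Or.inl h3⟩
      · exact ⟨hs, Or.inr h4⟩
  rw [h2, Set.ncard_union_eq (QS_disj j (fun e => hw (congrArg Prod.fst e).symm)) (QS_fin _ _ _) (QS_fin _ _ _)] at h1
  have h3 : Q j 4 w + Q j w 4 = 2 * n := h1
  rw [Q_comm j w 4] at h3
  omega

theorem Q4_44 : Q 4 4 4 = 2048 := by
  have h1 := Q_cls (j := 4) MKT.cls4
  have h2 : {s | s ∈ M.S ∧ (col M s (M.d (4 : Fin 12)) = 4 ∨ col M (M.σ s) (M.d (4 : Fin 12)) = 4)} = QS 4 4 4 := by
    ext s
    constructor
    · rintro ⟨hs, h3 | h3⟩
      · refine ⟨hs, h3, ?_⟩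
        by_contra hcon
        exact QS_empty (j := 4) (no4 _ hcon) (⟨hs, h3, rfl⟩ : s ∈ QS 4 4 _)
      · refine ⟨hs, ?_, h3⟩
        by_contra hcon
        refine QS_empty (j := 4) (no4 _ hcon) (⟨σS hs, h3, ?_⟩ : M.σ s ∈ QS 4 4 _)
        rw [σ_σ hR hs]
    · rintro ⟨hs, h3, h4⟩
      exact ⟨hs, Or.inl h3⟩
  rw [h2] at h1
  exact h1

theorem no7 : noE 7 6 5 ∧ noE 7 4 4 ∧ noE 7 6 6 := by decide +kernel

/-- The row of `3C`. -/
theorem Q4 (j : Fin 12) (w : Fin 9) : Q j 4 w = qT j.1 w := by
  by_cases hz : noE j.1 4 w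
  · rw [Q_zero hz, qT_zero j.1 j.2 w hz]
  · rcases qT_ne j.1 j.2 w hz with ⟨h1, rfl⟩ | ⟨h1, rfl⟩ | ⟨h1, rfl⟩ | ⟨h1, rfl⟩ | ⟨h1, rfl⟩
    · have : j = 4 := Fin.ext h1
      rw [this]
      exact Q4_44
    · have : j = 7 := Fin.ext h1
      rw [this]
      have h2 := Q_four (j := 7) (w := 5) (by decide) (by decide)
      rw [Q_zero (j := 7) no7.1, Nat.add_zero] at h2
      rw [h2]
      decide +kernel
    · have : j = 7 := Fin.ext h1
      rw [this]
      have h2 := Q_four_four 7
      rw [Q_zero (j := 7) no7.2.1, Q_zero (j := 7) no7.2.2, Q_comm 7 6 4] at h2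
      have h3 : N (7 : Fin 12).1 4 4 = 240 := by decide +kernel
      have h4 : qT (7 : Fin 12).1 6 = 120 := by decide
      rw [h4]
      omega
    · have : j = 10 := Fin.ext h1
      rw [this]
      exact two_of (j := 10) (by decide) no10 MKT.cls10
    · have : j = 11 := Fin.ext h1
      rw [this]
      exact two_of (j := 11) (by decide) no11 MKT.cls11

/-- The numbers of the pairs of colours. -/
def mt (j : ℕ) (u w : Fin 9) : ℕ :=
  if u = 4 then qT j w else if w = 4 then qT j u else
  if u = 6 then (if w = 6 then N j 4 4 - 2 * qT j 6 - qT j 4 else N j 4 (vv w) - qT j w) else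
  if w = 6 then N j 4 (vv u) - qT j u else N j (vv u) (vv w)

/-- **The numbers of the pairs of colours.** -/
theorem Q_eq (j : Fin 12) (u w : Fin 9) : Q j u w = mt j.1 u w := by
  unfold mt
  by_cases hu4 : u = 4
  · rw [if_pos hu4, hu4, Q4]
  rw [if_neg hu4]
  by_cases hw4 : w = 4
  · rw [if_pos hw4, hw4, Q_comm, Q4]
  rw [if_neg hw4]
  by_cases hu6 : u = 6
  · rw [if_pos hu6, hu6]
    by_cases hw6 : w = 6
    · rw [if_pos hw6, hw6]
      have h2 := Q_four_four j
      rw [Q_comm j 6 4, Q4, Q4] at h2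
      omega
    · rw [if_neg hw6]
      have h2 := Q_four (j := j) hw4 hw6
      rw [Q4] at h2
      omega
  · rw [if_neg hu6]
    by_cases hw6 : w = 6
    · rw [if_pos hw6, hw6, Q_comm]
      have h2 := Q_four (j := j) hu4 hu6
      rw [Q4] at h2
      omega
    · rw [if_neg hw6]
      exact Q_val hu4 hu6 hw4 hw6

end Cfsg.Agent.H816.MCnt
end
end

-- part: H816/MSch
section
prune_inst 0x400000
set_option linter.all false
open scoped Cfsg.Agent.FastGrp

-- part: H816/SchemeAbs
section
/-!
# Double counting for intersection numbers (helper816)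

`C` acts on `X` with the orbits of `d j`, `j : J`, of length `n j`; `S` is one orbit of `C`, with
the base point `a₀`, and `σ` commutes with `C` on `S`.
`count_tt` : `#S * #{y : c a₀ y = u, c (σ a₀) y = w} = ∑ j, n j * #{s ∈ S : c s (d j) = u, c (σ s) (d j) = w}`.
-/

set_option autoImplicit false
set_option linter.unusedSectionVars false

namespace Cfsg.Agent.H816.SchemeAbs

open scoped BigOperators

universe u v

variable {G : Type u} [Group G] {X : Type v} [MulAction G X] {ι : Type*} [DecidableEq ι]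

/-- **Double counting.** -/
theorem count_tt [Finite X] {J : Type*} [Fintype J] (C : Subgroup G) (c : X → X → ι)
    (hc : ∀ g ∈ C, ∀ x y, c (g • x) (g • y) = c x y) (a₀ : X) (σ : X → X) (S : Set X)
    (hS : ∀ s ∈ S, ∃ g ∈ C, g • a₀ = s)
    (hσ : ∀ g ∈ C, σ (g • a₀) = g • σ a₀) (hσS : ∀ g ∈ C, ∀ s ∈ S, g • s ∈ S ∧ σ (g • s) = g • σ s)
    (d : J → X) (n : J → ℕ) (hn : ∀ j, {x | ∃ g ∈ C, x = g • d j}.ncard = n j)
    (hcov : ∀ x, ∃ j, ∃ g ∈ C, x = g • d j) (hdis : ∀ j k, ∀ g ∈ C, g • d j = d k → j = k)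
    (m : J → ι → ι → ℕ) (hm : ∀ j u w, {s | s ∈ S ∧ c s (d j) = u ∧ c (σ s) (d j) = w}.ncard = m j u w)
    (u w : ι) :
    S.ncard * Nat.card {y // c a₀ y = u ∧ c (σ a₀) y = w} = ∑ j, n j * m j u w := by
  classical
  have hX := Fintype.ofFinite X
  have hSf : S.Finite := Set.toFinite S
  set P : X → X → Prop := fun s y => c s y = u ∧ c (σ s) y = w with hP
  -- first count
  have h1 : ∑ s ∈ hSf.toFinset, ∑ y : X, (if P s y then 1 else 0) =
      S.ncard * Nat.card {y // c a₀ y = u ∧ c (σ a₀) y = w} := by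
    rw [Set.ncard_eq_toFinset_card S hSf, ← smul_eq_mul, ← Finset.sum_const]
    refine Finset.sum_congr rfl fun s hs => ?_
    obtain ⟨g, hg, rfl⟩ := hS s (hSf.mem_toFinset.1 hs)
    rw [← Finset.sum_filter, Finset.sum_const, smul_eq_mul, mul_one, Nat.card_eq_fintype_card,
      Fintype.card_subtype]
    refine (Finset.card_bij (fun y _ => g • y) ?_ ?_ ?_).symm
    · intro y hy
      rw [Finset.mem_filter] at hy ⊢
      refine ⟨Finset.mem_univ _, ?_⟩
      show c (g • a₀) (g • y) = u ∧ c (σ (g • a₀)) (g • y) = w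
      rw [hσ g hg, hc g hg, hc g hg]
      exact hy.2
    · intro y _ y' _ h
      exact smul_left_cancel g h
    · intro y hy
      rw [Finset.mem_filter] at hy
      have h2 : c (g • a₀) y = u ∧ c (σ (g • a₀)) y = w := hy.2
      rw [hσ g hg] at h2
      refine ⟨g⁻¹ • y, ?_, smul_inv_smul g y⟩
      rw [Finset.mem_filter]
      refine ⟨Finset.mem_univ _, ?_⟩
      rw [← hc g hg a₀, ← hc g hg (σ a₀), smul_inv_smul]
      exact h2
  -- second count
  have h2 : ∀ y : X, ∑ s ∈ hSf.toFinset, (if P s y then 1 else 0) = {s | s ∈ S ∧ P s y}.ncard := by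
    intro y
    rw [← Finset.sum_filter, Finset.sum_const, smul_eq_mul, mul_one,
      Set.ncard_eq_toFinset_card' {s | s ∈ S ∧ P s y}]
    congr 1
    ext s
    simp only [Finset.mem_filter, Set.Finite.mem_toFinset, Set.mem_toFinset, Set.mem_setOf_eq]
  have h3 : ∀ j, ∀ g ∈ C, {s | s ∈ S ∧ P s (g • d j)}.ncard = m j u w := by
    intro j g hg
    rw [← hm j u w]
    refine Set.ncard_congr' ⟨fun s => ⟨g⁻¹ • s.1, ?_⟩, fun s => ⟨g • s.1, ?_⟩, fun s => ?_, fun s => ?_⟩
    · obtain ⟨s, hs, hp1, hp2⟩ := s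
      obtain ⟨h4, h5⟩ := hσS g⁻¹ (C.inv_mem hg) s hs
      refine ⟨h4, ?_, ?_⟩
      · rw [← hc g hg, smul_inv_smul]; exact hp1
      · show c (σ (g⁻¹ • s)) (d j) = w
        rw [h5, ← hc g hg, smul_inv_smul]
        exact hp2
    · obtain ⟨s, hs, hp1, hp2⟩ := s
      obtain ⟨h4, h5⟩ := hσS g hg s hs
      refine ⟨h4, ?_, ?_⟩
      · show c (g • s) (g • d j) = u
        rw [hc g hg]; exact hp1
      · show c (σ (g • s)) (g • d j) = w
        rw [h5, hc g hg]
        exact hp2
    · exact Subtype.ext (smul_inv_smul g s.1)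
    · exact Subtype.ext (inv_smul_smul g s.1)
  rw [← h1, Finset.sum_comm, Finset.sum_congr rfl fun y _ => h2 y]
  -- fibres
  choose jj gg hgg hjj using hcov
  have h4 : ∀ y : X, {s | s ∈ S ∧ P s y}.ncard = m (jj y) u w := by
    intro y
    have h5 := h3 (jj y) (gg y) (hgg y)
    rwa [← hjj y] at h5
  rw [Finset.sum_congr rfl fun y _ => h4 y,
    ← Finset.sum_fiberwise (s := Finset.univ) (g := jj) (f := fun y => m (jj y) u w)]
  refine Finset.sum_congr rfl fun j _ => ?_
  have h5 : ∀ y ∈ Finset.univ.filter (fun y => jj y = j), m (jj y) u w = m j u w := by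
    intro y hy
    rw [(Finset.mem_filter.1 hy).2]
  rw [Finset.sum_congr rfl h5, Finset.sum_const, smul_eq_mul]
  congr 1
  rw [← hn j, Set.ncard_eq_toFinset_card' {x | ∃ g ∈ C, x = g • d j}]
  congr 1
  ext y
  simp only [Finset.mem_filter, Finset.mem_univ, true_and, Set.mem_toFinset, Set.mem_setOf_eq]
  constructor
  · rintro rfl
    exact ⟨gg y, hgg y, hjj y⟩
  · rintro ⟨g, hg, rfl⟩
    have h6 := hjj (g • d j)
    refine (hdis j _ ((gg (g • d j))⁻¹ * g) (C.mul_mem (C.inv_mem (hgg _)) hg) ?_).symm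
    rw [mul_smul, inv_smul_eq_iff]
    exact h6

end Cfsg.Agent.H816.SchemeAbs
end

-- part: H816/SchemeSymm
section
/-!
# The symmetry of a colouring from the numbers of the points of a colour (helper816)
-/

set_option autoImplicit false

namespace Cfsg.Agent.H816.SchemeSymm

open Cfsg.Agent.H816.IMEig
open scoped BigOperators

universe u v

variable {G : Type u} [Group G] {X : Type v} [MulAction G X] {ι : Type} [DecidableEq ι]

theorem kk_eq {c : X → X → ι} (inv : ∀ (g : G) (x y : X), c (g • x) (g • y) = c x y)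
    (ht : ∀ x y : X, ∃ g : G, g • x = y) (x x' : X) (u : ι) : Col.kk c x u = Col.kk c x' u := by
  obtain ⟨g, rfl⟩ := ht x x'
  refine Nat.card_congr ⟨fun y => ⟨g • y.1, by rw [inv]; exact y.2⟩,
    fun y => ⟨g⁻¹ • y.1, ?_⟩, fun y => ?_, fun y => ?_⟩
  · have h1 := inv g x (g⁻¹ • y.1)
    rw [smul_inv_smul] at h1
    rw [← h1]
    exact y.2
  · apply Subtype.ext
    show g⁻¹ • g • y.1 = y.1
    rw [inv_smul_smul]
  · apply Subtype.ext
    show g • g⁻¹ • y.1 = y.1
    rw [smul_inv_smul]

theorem card_pairs [Finite X] {c : X → X → ι} (inv : ∀ (g : G) (x y : X), c (g • x) (g • y) = c x y)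
    (ht : ∀ x y : X, ∃ g : G, g • x = y) (x : X) (u : ι) :
    Nat.card {p : X × X // c p.1 p.2 = u} = Nat.card X * Col.kk c x u := by
  have e : {p : X × X // c p.1 p.2 = u} ≃ Σ x : X, {y // c x y = u} :=
    ⟨fun p => ⟨p.1.1, p.1.2, p.2⟩, fun p => ⟨(p.1, p.2.1), p.2.2⟩, fun _ => rfl, fun _ => rfl⟩
  have := Fintype.ofFinite X
  rw [Nat.card_congr e, Nat.card_sigma]
  have h1 : ∀ x' : X, Nat.card {y // c x' y = u} = Col.kk c x u := fun x' => kk_eq inv ht x' x u
  simp only [h1, Finset.sum_const, Finset.card_univ, smul_eq_mul, Nat.card_eq_fintype_card]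

/-- A pair of paired colours with different numbers of points. -/
theorem no_swap [Finite X] {c : X → X → ι} (inv : ∀ (g : G) (x y : X), c (g • x) (g • y) = c x y)
    (tr : ∀ x y x' y' : X, c x y = c x' y' → ∃ g : G, g • x = x' ∧ g • y = y')
    (ht : ∀ x y : X, ∃ g : G, g • x = y) (x₀ : X) {a b : ι} (hk : Col.kk c x₀ a < Col.kk c x₀ b)
    {x y : X} (h1 : c x y = b) (h2 : c y x = a) : False := by
  have h3 : Nat.card {p : X × X // c p.1 p.2 = b} ≤ Nat.card {p : X × X // c p.1 p.2 = a} := by
    refine Nat.card_le_card_of_injective (fun p => ⟨(p.1.2, p.1.1), ?_⟩) ?_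
    · obtain ⟨g, hg1, hg2⟩ := tr x y p.1.1 p.1.2 (by rw [h1, p.2])
      show c p.1.2 p.1.1 = a
      rw [← hg1, ← hg2, inv, h2]
    · intro p q hpq
      have h := congrArg Subtype.val hpq
      have e1 : p.1.2 = q.1.2 := congrArg Prod.fst h
      have e2 : p.1.1 = q.1.1 := congrArg Prod.snd h
      exact Subtype.ext (Prod.ext e2 e1)
  rw [card_pairs inv ht x₀, card_pairs inv ht x₀] at h3
  have hX : 0 < Nat.card X := by
    have : Nonempty X := ⟨x₀⟩
    exact Nat.card_pos
  exact absurd (Nat.le_of_mul_le_mul_left h3 hX) (not_le.2 hk)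

/-- **The symmetry.** -/
theorem symm_of [Finite X] {c : X → X → ι} (inv : ∀ (g : G) (x y : X), c (g • x) (g • y) = c x y)
    (tr : ∀ x y x' y' : X, c x y = c x' y' → ∃ g : G, g • x = x' ∧ g • y = y')
    (ht : ∀ x y : X, ∃ g : G, g • x = y) (x₀ : X) {a b : ι} (hk : Col.kk c x₀ a < Col.kk c x₀ b)
    (hab : ∀ x y, c x y = c y x ∨ (c x y = a ∧ c y x = b) ∨ (c x y = b ∧ c y x = a)) (x y : X) :
    c x y = c y x := by
  rcases hab x y with h | ⟨h1, h2⟩ | ⟨h1, h2⟩
  · exact h
  · exact (no_swap inv tr ht x₀ hk h2 h1).elim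
  · exact (no_swap inv tr ht x₀ hk h1 h2).elim

end Cfsg.Agent.H816.SchemeSymm
end

-- part: H816/MEigL
section
/-!
# Integral data of the eigenvectors of a rank nine scheme (helper816)
-/

set_option autoImplicit false

namespace Cfsg.Agent.H816.MEigL

open Cfsg.Agent.H816.IMEig Cfsg.Agent.H816.IMEig.Col
open scoped BigOperators

/-- The sum of nine terms. -/
def s9 {α : Type*} [Add α] (f : Fin 9 → α) : α := f 0 + f 1 + f 2 + f 3 + f 4 + f 5 + f 6 + f 7 + f 8

theorem sum9 {α : Type*} [AddCommMonoid α] (f : Fin 9 → α) : ∑ u, f u = s9 f := by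
  unfold s9
  simp only [Fin.sum_univ_succ, _root_.Fin.isValue, _root_.Fin.succ_zero_eq_one, _root_.Fin.succ_one_eq_two, _root_.Fin.reduceSucc, _root_.Finset.univ_unique, _root_.Fin.default_eq_zero, _root_.Finset.sum_singleton]
  have : ∀ a b c d e f g h i : α, a + (b + (c + (d + (e + (f + (g + (h + i))))))) =
      a + b + c + d + e + f + g + h + i := by
    intros; simp only [add_assoc]
  exact this _ _ _ _ _ _ _ _ _

/-- Integral data of an eigenvector: `t` the numbers of points, `k` the row sums, `P` the intersection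
matrix of the relation `a`, `θ` the eigenvalue, `ω / D` the eigenvector, `R`, `r` the certificate for
the dimension of the eigenspace. -/
structure Dat (t : Fin 9 → Fin 9 → ℕ) (k : Fin 9 → ℕ) (P : Fin 9 → Fin 9 → ℤ) (a : Fin 9) (θ D : ℤ) (ω : Fin 9 → ℤ)
    (R : Fin 9 → Fin 9 → ℤ) (r : Fin 9 → ℤ) (n f : ℕ) : Prop where
  hk : ∀ u, s9 (t u) = k u
  k_pos : ∀ u, 0 < k u
  hP : ∀ u w, (k a : ℤ) * (t u w : ℤ) = P u w * (k u : ℤ)
  hD : D ≠ 0
  h0 : ω 0 = D
  eig : ∀ u, s9 (fun w => P u w * ω w) = θ * ω u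
  hr : ∀ u, r u ≠ 0
  hR : ∀ u w, s9 (fun v => R u v * (P v w - if v = w then θ else 0)) =
    r u * ((if u = w then D else 0) - (if w = 0 then ω u else 0))
  deg : (f : ℤ) * s9 (fun u => (k u : ℤ) * (ω u) ^ 2) = (n : ℤ) * D ^ 2

variable {t : Fin 9 → Fin 9 → ℕ} {k : Fin 9 → ℕ} {P : Fin 9 → Fin 9 → ℤ} {a : Fin 9} {θ D : ℤ} {ω : Fin 9 → ℤ}
  {R : Fin 9 → Fin 9 → ℤ} {r : Fin 9 → ℤ} {n f : ℕ}

theorem Dat.row (h : Dat t k P a θ D ω R r n f) (φ : Fin 9 → ℂ) (u : Fin 9) :
    ∑ w, ((∑ w', t a w' : ℕ) : ℂ) * (t u w : ℂ) * φ w = (k u : ℂ) * ∑ w, (P u w : ℂ) * φ w := by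
  rw [Finset.mul_sum]
  refine Finset.sum_congr rfl fun w _ => ?_
  rw [sum9, h.hk]
  have h1 : ((k a : ℤ) : ℂ) * ((t u w : ℤ) : ℂ) = (P u w : ℂ) * ((k u : ℤ) : ℂ) := by
    exact_mod_cast congrArg (fun x : ℤ => (x : ℂ)) (h.hP u w)
  push_cast at h1
  calc (k a : ℂ) * (t u w : ℂ) * φ w = ((k a : ℂ) * (t u w : ℂ)) * φ w := by ring
    _ = (P u w : ℂ) * (k u : ℂ) * φ w := by rw [h1]
    _ = _ := by ring

theorem Dat.hkC (h : Dat t k P a θ D ω R r n f) (u : Fin 9) : ((∑ w, t u w : ℕ) : ℂ) = (k u : ℂ) := by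
  rw [sum9, h.hk]

/-- The eigenvector. -/
theorem Dat.toEig (h : Dat t k P a θ D ω R r n f) : Eig a 0 t (θ : ℂ) (fun u => (ω u : ℂ) / (D : ℂ)) where
  one := by
    have hD : (D : ℂ) ≠ 0 := by exact_mod_cast h.hD
    show (ω 0 : ℂ) / (D : ℂ) = 1
    rw [h.h0, div_self hD]
  eig u := by
    rw [h.row, h.hkC]
    have h1 : ∑ w, (P u w : ℂ) * ((ω w : ℂ) / (D : ℂ)) = (θ : ℂ) * ((ω u : ℂ) / (D : ℂ)) := by
      have h2 : ∑ w, (P u w : ℂ) * (ω w : ℂ) = (θ : ℂ) * (ω u : ℂ) := by
        have h3 := h.eig u
        rw [← sum9] at h3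
        exact_mod_cast congrArg (fun x : ℤ => (x : ℂ)) h3
      calc ∑ w, (P u w : ℂ) * ((ω w : ℂ) / (D : ℂ)) = (∑ w, (P u w : ℂ) * (ω w : ℂ)) / (D : ℂ) := by
            rw [Finset.sum_div]
            exact Finset.sum_congr rfl fun w _ => by ring
        _ = _ := by rw [h2]; ring
    rw [h1]
    ring
  uniq φ hφ u := by
    have hD : (D : ℂ) ≠ 0 := by exact_mod_cast h.hD
    have hr : (r u : ℂ) ≠ 0 := by exact_mod_cast h.hr u
    have h1 : ∀ v, ∑ w, (P v w : ℂ) * φ w = (θ : ℂ) * φ v := by
      intro v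
      have h2 := hφ v
      rw [h.row, h.hkC] at h2
      have hk : (k v : ℂ) ≠ 0 := by exact_mod_cast (h.k_pos v).ne'
      apply mul_left_cancel₀ hk
      rw [h2]; ring
    have h2 : ∑ v, (R u v : ℂ) * ((∑ w, (P v w : ℂ) * φ w) - (θ : ℂ) * φ v) = 0 := by
      refine Finset.sum_eq_zero fun v _ => ?_
      rw [h1 v]; ring
    have h3 : ∑ v, (R u v : ℂ) * ((∑ w, (P v w : ℂ) * φ w) - (θ : ℂ) * φ v) =
        ∑ w, (∑ v, (R u v : ℂ) * ((P v w : ℂ) - if v = w then (θ : ℂ) else 0)) * φ w := by
      have e1 : ∀ v, (θ : ℂ) * φ v = ∑ w, (if v = w then (θ : ℂ) else 0) * φ w := by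
        intro v
        rw [Finset.sum_eq_single v]
        · rw [if_pos rfl]
        · intro w _ hw
          rw [if_neg (Ne.symm hw), zero_mul]
        · intro hv; exact absurd (Finset.mem_univ _) hv
      calc ∑ v, (R u v : ℂ) * ((∑ w, (P v w : ℂ) * φ w) - (θ : ℂ) * φ v)
          = ∑ v, ∑ w, (R u v : ℂ) * ((P v w : ℂ) - if v = w then (θ : ℂ) else 0) * φ w := by
            refine Finset.sum_congr rfl fun v _ => ?_
            rw [e1 v, ← Finset.sum_sub_distrib, Finset.mul_sum]
            refine Finset.sum_congr rfl fun w _ => ?_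
            ring
        _ = ∑ w, ∑ v, (R u v : ℂ) * ((P v w : ℂ) - if v = w then (θ : ℂ) else 0) * φ w := Finset.sum_comm
        _ = _ := by
            refine Finset.sum_congr rfl fun w _ => ?_
            rw [Finset.sum_mul]
    have h4 : ∀ w, ∑ v, (R u v : ℂ) * ((P v w : ℂ) - if v = w then (θ : ℂ) else 0) =
        (r u : ℂ) * ((if u = w then (D : ℂ) else 0) - (if w = 0 then (ω u : ℂ) else 0)) := by
      intro w
      have h5 := h.hR u w
      rw [← sum9] at h5
      have h6 := congrArg (fun x : ℤ => (x : ℂ)) h5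
      push_cast at h6
      exact h6
    rw [h3] at h2
    simp only [h4] at h2
    have h7 : ∑ w, (r u : ℂ) * ((if u = w then (D : ℂ) else 0) - (if w = 0 then (ω u : ℂ) else 0)) * φ w =
        (r u : ℂ) * ((D : ℂ) * φ u - (ω u : ℂ) * φ 0) := by
      have e1 : ∀ w, (r u : ℂ) * ((if u = w then (D : ℂ) else 0) - (if w = 0 then (ω u : ℂ) else 0)) * φ w =
          (if u = w then (r u : ℂ) * (D : ℂ) * φ w else 0) - (if w = 0 then (r u : ℂ) * (ω u : ℂ) * φ w else 0) := by
        intro w
        split_ifs <;> ring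
      simp only [e1, Finset.sum_sub_distrib, Finset.sum_ite_eq, Finset.sum_ite_eq', Finset.mem_univ, if_true]
      ring
    rw [h7] at h2
    have h8 := (mul_eq_zero.1 h2).resolve_left hr
    show φ u = φ 0 * ((ω u : ℂ) / (D : ℂ))
    field_simp
    linear_combination h8

theorem Dat.toDeg (h : Dat t k P a θ D ω R r n f) :
    (f : ℂ) * ∑ u, ((∑ w, t u w : ℕ) : ℂ) * ((ω u : ℂ) / (D : ℂ)) ^ 2 = (n : ℂ) := by
  have hD : (D : ℂ) ≠ 0 := by exact_mod_cast h.hD
  have h1 := h.deg
  rw [← sum9] at h1
  have h2 := congrArg (fun x : ℤ => (x : ℂ)) h1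
  push_cast at h2
  have h3 : ∑ u, ((∑ w, t u w : ℕ) : ℂ) * ((ω u : ℂ) / (D : ℂ)) ^ 2 = (∑ u, (k u : ℂ) * (ω u : ℂ) ^ 2) / (D : ℂ) ^ 2 := by
    rw [Finset.sum_div]
    refine Finset.sum_congr rfl fun u _ => ?_
    rw [h.hkC]
    ring
  rw [h3, ← mul_div_assoc, h2, mul_div_assoc, div_self (pow_ne_zero 2 hD), mul_one]

end Cfsg.Agent.H816.MEigL
end

-- part: H816/MSch
section
/-!
# The association scheme of the Monster on the axes (helper816)

`tt_eq` : the numbers `#{y : c a₀ y = u, c a₁ y = w}`; `isCol` : the structure `Col`.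
-/

set_option autoImplicit false
set_option maxRecDepth 100000

namespace Cfsg.Agent.H816.MSch

open Cfsg Cfsg.Agent.MonsterX Cfsg.Agent.MonsterX.Space Cfsg.Agent.MonsterX.Conc Cfsg.Agent.MonsterX.InstData
open Cfsg.Agent.MonsterX.Model Cfsg.Agent.MonsterX.MainBasic
open Cfsg.Agent.H816.MCol Cfsg.Agent.H816.MEnt Cfsg.Agent.H816.MCnt Cfsg.Agent.H816.MEigL
open Cfsg.Agent.H816.IMEig

/-- The axes. -/
abbrev XT : Type := {x : V // x ∈ M.X}

noncomputable instance : MulAction ↥M.G XT where
  smul g x := ⟨(g : V ≃ₗ[ℚ] V) x.1, G_X hO g.2 x.2⟩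
  one_smul _ := rfl
  mul_smul _ _ _ := rfl

theorem smul_val (g : ↥M.G) (x : XT) : (g • x).1 = (g : V ≃ₗ[ℚ] V) x.1 := rfl

instance : Finite XT := (X_finite hO).to_subtype

/-- The colour of a pair of axes. -/
noncomputable def c (x y : XT) : Fin 9 := col M x.1 y.1

theorem c_inv (g : ↥M.G) (x y : XT) : c (g • x) (g • y) = c x y := col_smul hG hR hL hO MEnt.hT g.2 x.2 _

theorem c_tr (x y x' y' : XT) (h : c x y = c x' y') : ∃ g : ↥M.G, g • x = x' ∧ g • y = y' := by
  obtain ⟨g, hg, h1, h2⟩ := MEnt.tr x.2 y.2 x'.2 y'.2 h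
  exact ⟨⟨g, hg⟩, Subtype.ext h1, Subtype.ext h2⟩

theorem c_diag (x y : XT) : c x y = 0 ↔ x = y := (MEnt.diag x.2 y.2).trans Subtype.ext_iff.symm

theorem c_trans (x y : XT) : ∃ g : ↥M.G, g • x = y := by
  obtain ⟨g, hg, -⟩ := c_tr x x y y (by rw [(c_diag x x).2 rfl, (c_diag y y).2 rfl])
  exact ⟨g, hg⟩

/-- `C` as a subgroup of `G`. -/
noncomputable def CG : Subgroup ↥M.G := M.C.subgroupOf M.G

/-- The base axis. -/
noncomputable def b0 : XT := ⟨M.a₀, a₀_X⟩

/-- The partner of the base axis. -/
noncomputable def b1 : XT := ⟨M.a₁, a₁_X⟩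

/-- The representatives. -/
noncomputable def dX (j : Fin 12) : XT := ⟨M.d j, d_X j⟩

/-- The base orbit. -/
def SX : Set XT := {x | x.1 ∈ M.S}

open Classical in
/-- The partner map. -/
noncomputable def σX (x : XT) : XT := if h : x.1 ∈ M.S then ⟨M.σ x.1, S_X (σS h)⟩ else x

theorem σX_val {x : XT} (h : x.1 ∈ M.S) : (σX x).1 = M.σ x.1 := by
  unfold σX
  rw [dif_pos h]

theorem b0_S : b0.1 ∈ M.S := a₀_mem_S

theorem σX_b0 : σX b0 = b1 := Subtype.ext (by rw [σX_val b0_S]; exact σ_a₀ hR)

/-- The numbers of the points with given colours. -/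
def tL : List (List ℕ) := [
  [0, 0, 1, 0, 0, 0, 0, 0, 0],
  [0, 9200, 7286400, 0, 0, 381542400, 7461273600, 0, 19293798400],
  [1, 7286400, 262403550, 9646899200, 0, 541408665600, 470060236800, 4000762036224, 6685301145600],
  [0, 0, 9646899200, 33973862400, 0, 8595387187200, 80223613747200, 400076203622400, 1543002233241600],
  [0, 0, 0, 0, 68763097497600, 1100209559961600, 916841299968000, 30805867678924800, 58677843197952000],
  [0, 381542400, 541408665600, 8595387187200, 1100209559961600, 7735601038233600, 19613061926092800, 302507619463987200, 771969695455641600],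
  [0, 7461273600, 470060236800, 80223613747200, 916841299968000, 19613061926092800, 16728839464550400, 412028480205619200, 805425981161472000],
  [0, 0, 4000762036224, 400076203622400, 30805867678924800, 302507619463987200, 412028480205619200, 9245273472840499200, 20443493928901017600],
  [0, 19293798400, 6685301145600, 1543002233241600, 58677843197952000, 771969695455641600, 805425981161472000, 20443493928901017600, 42272488110109491200]]

/-- The numbers of the points with given colours. -/
def t (u w : Fin 9) : ℕ := (tL.getD u.1 []).getD w.1 0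

/-- The subdegrees. -/
def kL : List ℕ := [1, 27143910000, 11707448673375, 2031941058560000, 91569524834304000, 1102935324621312000, 1254793905192960000, 30434513446055706624, 64353605265653760000]

/-- The subdegrees. -/
def k (u : Fin 9) : ℕ := kL.getD u.1 0

/-- The lengths of the orbits of `C`. -/
noncomputable def n12 (j : Fin 12) : ℕ := CertLenT.clen j

theorem hn (j : Fin 12) : {x : XT | ∃ g ∈ CG, x = g • dX j}.ncard = n12 j := by
  have h1 := OrbDone.card_C j
  unfold n12
  rw [← h1, Nat.card_coe_set_eq]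
  rw [← Set.ncard_image_of_injective _ (Subtype.val_injective (p := fun x : V => x ∈ M.X))]
  congr 1
  ext x
  constructor
  · rintro ⟨y, ⟨g, hg, rfl⟩, rfl⟩
    exact ⟨⟨g.1, hg⟩, rfl⟩
  · rintro ⟨g, rfl⟩
    exact ⟨(⟨g.1, C_le g.2⟩ : ↥M.G) • dX j, ⟨⟨g.1, C_le g.2⟩, g.2, rfl⟩, rfl⟩

theorem hm (j : Fin 12) (u w : Fin 9) :
    {s | s ∈ SX ∧ c s (dX j) = u ∧ c (σX s) (dX j) = w}.ncard = _root_.Cfsg.Agent.H816.MCnt.mt j.1 u w := by
  rw [← Q_eq j u w]
  unfold MCnt.Q
  rw [← Set.ncard_image_of_injective _ (Subtype.val_injective (p := fun x : V => x ∈ M.X))]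
  congr 1
  ext x
  constructor
  · rintro ⟨y, ⟨h1, h2, h3⟩, rfl⟩
    refine ⟨h1, h2, ?_⟩
    have h4 : col M (σX y).1 (M.d j) = w := h3
    rwa [σX_val h1] at h4
  · rintro ⟨h1, h2, h3⟩
    refine ⟨⟨x, S_X h1⟩, ⟨h1, h2, ?_⟩, rfl⟩
    show col M (σX ⟨x, S_X h1⟩).1 (M.d j) = w
    rw [σX_val h1]
    exact h3

theorem S_card : SX.ncard = 196560 := by
  rw [← hR.S_card, ← Set.ncard_image_of_injective _ (Subtype.val_injective (p := fun x : V => x ∈ M.X))]
  congr 1
  ext x
  constructor
  · rintro ⟨y, h, rfl⟩; exact h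
  · intro h; exact ⟨⟨x, S_X h⟩, h, rfl⟩

/-- The sum of twelve terms. -/
def s12 (f : ℕ → ℕ) : ℕ := f 0 + f 1 + f 2 + f 3 + f 4 + f 5 + f 6 + f 7 + f 8 + f 9 + f 10 + f 11

theorem sum12 (f : Fin 12 → ℕ) (g : ℕ → ℕ) (h : ∀ j, f j = g j.1) : ∑ j, f j = s12 g := by
  unfold s12
  simp only [Fin.sum_univ_succ, h]
  simp only [_root_.Fin.isValue, _root_.Fin.coe_ofNat_eq_mod, _root_.Nat.zero_mod, _root_.Fin.succ_zero_eq_one, _root_.Nat.one_mod, _root_.Fin.succ_one_eq_two, _root_.Nat.reduceMod, _root_.Fin.reduceSucc, _root_.Nat.mod_succ, _root_.Finset.univ_eq_empty, _root_.Fin.val_succ, _root_.Fin.val_eq_zero, _root_.zero_add, _root_.Nat.reduceAdd, _root_.Finset.sum_const, _root_.Finset.card_empty, _root_.zero_nsmul, _root_.add_zero]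
  ring

theorem t_ok : ∀ u w : Fin 9, s12 (fun j => CertVec.nth 0 CertLenT.clsT j * _root_.Cfsg.Agent.H816.MCnt.mt j u w) = 196560 * t u w := by
  decide +kernel

/-- **The numbers of the points with given colours.** -/
theorem tt_eq (u w : Fin 9) : Nat.card {y // c b0 y = u ∧ c b1 y = w} = t u w := by
  have h := SchemeAbs.count_tt CG c (fun g _ x y => c_inv g x y) b0 σX SX ?_ ?_ ?_ dX n12 hn ?_ ?_
    (fun j u w => _root_.Cfsg.Agent.H816.MCnt.mt j.1 u w) hm u w
  · have h12 := sum12 (fun j => n12 j * _root_.Cfsg.Agent.H816.MCnt.mt j.1 u w) (fun j => CertVec.nth 0 CertLenT.clsT j * _root_.Cfsg.Agent.H816.MCnt.mt j u w) (fun j => rfl)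
    rw [σX_b0, S_card, h12, t_ok] at h
    exact Nat.eq_of_mul_eq_mul_left (by norm_num) h
  · rintro s ⟨g, hg, hs⟩
    exact ⟨⟨g, C_le hg⟩, hg, Subtype.ext hs.symm⟩
  · intro g hg
    apply Subtype.ext
    have h1 : (g • b0).1 ∈ M.S := C_S hg b0_S
    rw [σX_val h1, smul_val, smul_val, σX_val b0_S]
    exact hR.σ_comm _ hg _
  · intro g hg s hs
    have h1 : (g • s).1 ∈ M.S := C_S hg hs
    refine ⟨h1, Subtype.ext ?_⟩
    rw [σX_val h1, smul_val, smul_val, σX_val hs]
    exact hR.σ_comm _ hg _
  · rintro ⟨x, j, g, hg, hx⟩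
    exact ⟨j, ⟨g, C_le hg⟩, hg, Subtype.ext hx⟩
  · intro j k g hg h
    exact hO.disjoint j k g.1 hg (congrArg Subtype.val h)

theorem k_ok : ∀ u : Fin 9, s9 (t u) = k u := by decide +kernel

theorem kk_eq (u : Fin 9) : Col.kk c b0 u = k u := by
  rw [Col.kk_eq_sum b0 b1 u, ← k_ok u, ← sum9]
  exact Finset.sum_congr rfl fun w _ => tt_eq u w

theorem vv_sym : ∀ u w : Fin 9, vv u = vv w → u = w ∨ (u = 4 ∧ w = 6) ∨ (u = 6 ∧ w = 4) := by decide

/-- **The colouring.** -/
theorem isCol : Col ↥M.G XT (Fin 9) c 0 where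
  inv := c_inv
  tr := c_tr
  diag := c_diag
  symm := by
    refine SchemeSymm.symm_of c_inv c_tr c_trans b0 (a := 4) (b := 6) ?_ ?_
    · rw [kk_eq, kk_eq]
      decide +kernel
    · intro x y
      apply vv_sym
      have h1 := F_eq x.2 y.2
      have h2 := F_eq y.2 x.2
      rw [hR.F_symm y.1 x.1, h1] at h2
      have h3 := (div_left_inj' (by norm_num : (32 : ℚ) ≠ 0)).1 h2
      exact_mod_cast h3

theorem card_XT : Nat.card XT = 97239461142009186000 := by
  rw [← hO.card_X]
  exact Nat.card_coe_set_eq M.X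

theorem c_b1 : c b0 b1 = 2 := by
  have h1 := (F_iff (u := 2) a₀_X a₁_X (by decide) (by decide)).2 (by
    rw [hL.F_a₁]
    have : vv 2 = 0 := by decide
    rw [this]; norm_num)
  exact h1

theorem finite_G : Finite ↥M.G := G_finite hO

/-- **The degree of a constituent.** -/
theorem exists_degree {P : Fin 9 → Fin 9 → ℤ} {θ D : ℤ} {ω : Fin 9 → ℤ} {R : Fin 9 → Fin 9 → ℤ} {r : Fin 9 → ℤ} {f : ℕ}
    (h : Dat t k P 2 θ D ω R r 97239461142009186000 f) : ∃ χ : ↥M.G → ℂ, IsIrrCharacter ↥M.G χ ∧ χ 1 = f := by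
  have := finite_G
  have hE := h.toEig
  have hd := h.toDeg
  rw [← c_b1] at hE
  refine isCol.exists_degree tt_eq hE ?_
  rw [card_XT]
  exact hd

end Cfsg.Agent.H816.MSch
end
end

-- part: H816/MDeg
section
set_option linter.all false
open scoped Cfsg.Agent.FastGrp

/-!
# The degrees of the nine constituents of the permutation character of the Monster on the axes (helper816)
-/

set_option autoImplicit false
set_option maxRecDepth 100000

namespace Cfsg.Agent.H816.MDeg

open Cfsg Cfsg.Agent.MonsterX.InstData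
open Cfsg.Agent.H816.MEigL Cfsg.Agent.H816.MSch

/-- A vector from a list. -/
def vec (l : List ℤ) (u : Fin 9) : ℤ := l.getD u.1 0

/-- A matrix from a list. -/
def mat (l : List (List ℤ)) (u w : Fin 9) : ℤ := (l.getD u.1 []).getD w.1 0

/-- The intersection matrix of `2B`. -/
def P : List (List ℤ) := [
  [0, 0, 11707448673375, 0, 0, 0, 0, 0, 0],
  [0, 3968055, 3142699560, 0, 0, 164563176960, 3218124349440, 0, 8321614479360],
  [1, 7286400, 262403550, 9646899200, 0, 541408665600, 470060236800, 4000762036224, 6685301145600],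
  [0, 0, 55582605, 195747435, 0, 49524101055, 462224943180, 2305121794560, 8890326504540],
  [0, 0, 0, 0, 8791575975, 140665215600, 117221013000, 3938626036800, 7502144832000],
  [0, 4050, 5746950, 91238400, 11678515200, 82111933575, 208188921600, 3211060838400, 8194311475200],
  [0, 69615, 4385745, 748500480, 8554291200, 182993330520, 156083025735, 3844298465280, 7514766604800],
  [0, 0, 1539000, 153900000, 11850300000, 116367637500, 158497762500, 3556441434375, 7864136100000],
  [0, 3510, 1216215, 280708740, 10674892800, 140439615615, 146526108300, 3719156912640, 7690369215555]]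

theorem k_pos : ∀ u : Fin 9, 0 < k u := by decide +kernel

theorem hP : ∀ u w : Fin 9, (k 2 : ℤ) * (t u w : ℤ) = mat P u w * (k u : ℤ) := by decide +kernel

/-- The certificate for the degree `1`. -/
def R1 : List (List ℤ) := [
  [0, 0, 0, 0, 0, 0, 0, 0, 0],
  [65437377425234474133146823452741498849, -65437358977233849871291851395219610000, 65421277015026314253294123755579445375, 53293857536931710718126346731520000, 17198032905365831084355832774656000, 2140525581548699831101053820881408000, -15172986868156768707491864898355200000, 25821276863333451356980907266881355776, 0],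
  [1, 0, 0, 0, 0, 0, 0, 0, 0],
  [1790393497261356602484900368348034639299, 1114389889554798706266967832370000, 1790425229912608879512839686760829964125, -1788941577274620429075127091068928000000, 499793906077418044520913086447616000, 79988498005050743170696673707519488000, 8326703703424412718552558332067840000, 408558567173615010246799619970696216576, 0],
  [46409157512604812111770402901449929367633, 28893782770376481543738735355590000, 46410199490592013766349587011674449871375, 38371578854390950573340670191206400000, -46439608799841802246584504090023067648000, 1639725351410038242560005943109720576000, 1471603185915685273041132087345070080000, 1690453995086906353628710330006599892992, 0],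
  [2120727942428024537902757189737741087397, 1319526973287769484193903866430000, 2120774541359060128693780000592845954875, 1738582439170398719829400795217920000, -1722852815361821904634151983644672000, -2033463992113447862256305962098126336000, 53336033243204231363451728560865280000, 264678857457294920294805051101285449728, 0],
  [7841347014019586526767653029443811984257, 4835135767522561262414239302630000, 7841520113175634547675233911501675057375, 5980973685662859061551627470110720000, -4965117013281320995346143323881472000, 248763856471093301749316108248840704000, -7618688576833832230927071160714936320000, 352909781397675797671320215221979578368, 0],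
  [102066394413175964963266924533172921327493, 63543632497756605566953294673790000, 102068673220903417376068356367944910390875, 83093191068012747379020091862548480000, -88819918193695164997329398764929024000, 3862015987501940396842651111370187264000, 2941063292687142071267714084574412800000, -93612405645690015835505239138016446906368, 0],
  [102066394413175964965062034155518153224449539, 63556438434681904921389706163609778000, 102068694237057184064450784648512125972324125, 85185737442096942322733989365922398208000, 64371617147880725370361356758865149952000, 5380268653684267255553800321534731480576000, 5004163817745158094324155530889819111424000, 54633287938409941718682640504599958662414336, 0]]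

theorem dat_1 : Dat t k (mat P) 2 (11707448673375) 1
    (vec [1, 1, 1, 1, 1, 1, 1, 1, 1])
    (mat R1) (vec [1, 766104737526135096161410505031640503582778560000000, 11707448673375, 20960939974329905626184731437005734138462863360000000, 543332829553350212199096943657402876852070744064000000, 24828313536166148478150223005621166277814644736000000, 91802167696748784288958807751876581195281039360000000, 1194937073868604393956413932814535490618663221854208000, 1194937073868604393956413932814535490618663221854208000000]) 97239461142009186000 1 where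
  hk := k_ok
  k_pos := k_pos
  hP := hP
  hD := by decide
  h0 := by decide
  eig := by decide +kernel
  hr := by decide +kernel
  hR := by decide +kernel
  deg := by decide +kernel

/-- **The constituent of degree `1`.** -/
theorem exists_chi_1 : ∃ χ : ↥M.G → ℂ, IsIrrCharacter ↥M.G χ ∧ χ 1 = 1 := by
  obtain ⟨χ, h1, h2⟩ := exists_degree dat_1
  exact ⟨χ, h1, by rw [h2]; norm_num⟩

/-- The certificate for the degree `196883`. -/
def R196883 : List (List ℤ) := [
  [0, 0, 0, 0, 0, 0, 0, 0, 0],
  [-2124277764686484268557603760723, 19965082605411734581123357470000, 99491348413619686897786203847875, -2963182429264430445803601920000, 707852710504190996731920384000, -94476154206064130154413950464000, -352096910734642181868805816320000, 331867990013871851940537956302848, 0],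
  [16, 0, 0, 0, 0, 0, 0, 0, 0],
  [-10387185093165111122139745754729, -14002733732984936765104050000, 487637552095341774927478066013625, 322980513464514027474267668480000, 25740485841509280009695526912000, -597458679453457008808224344832000, -899818908279201903921035120640000, 678179153443962077419692940591104, 0],
  [157504968247524193727565715594429, 212782702657280069756396250000, -7395132686920868408385857364226125, 272575938631033237800351825920000, 29782480326708808977063458715648000, 7308081602169458094430185422592000, 12216035954900425609535004887040000, -41721583074081309139623932153954304, 0],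
  [-297684389987820271967531538203149, -403518005446414674249731437200, 13976687645076993893000835059476125, -483509302000866120672190083891200, 352154362064202141144207851520000, 10210691027868923939668623448473600, -19612318889682603418765031033241600, -3568853429840694992241287868973056, 0],
  [250154949569599684817710457728913, 326550338950202442316460034000, -11745817521734804096952421097846625, 303428590852984454850804711424000, 229385106526604616988322955264000, 4087368295588726877779233700608000, 60689965290374698561828006336512000, -52829826147772130548539479228940288, 0],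
  [-1905180095922063120701195905591751, -2589680942413236762879423150000, 89454133842094721201004827040000375, -3250066707889968932091941355520000, 2064479189549035021070158135296000, -160304510312937165817023787222272000, -87099286128733646913884846469120000, 175927239391367018069186467877093376, 0],
  [4762950239805155122110421253726861723, 6493010305906430284354158170070000, -223634667120602040778397899095853972875, 8197396657070359432308281760808960000, -11448036039023914286234776218107904000, 361042709531003451073284746091266304000, 152689855227142210380961918600458240000, -216897919632841835694917097113253838848, 0]]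

theorem dat_196883 : Dat t k (mat P) 2 (-249094652625) 752
    (vec [752, 80, -16, 23, -4, 8, -4, 2, -1])
    (mat R196883) (vec [1, 6614327897176249281190797896023788750000, 249094652625, 112495315741126263680155745241415680000000, 9808411336233390341482579351116994944000000, 9268948712740553872701037486805560222080000, 15578065063429502307060567204715227264000000, 237285087046158179141146559662222341685248000, 1186425435230790895705732798311111708426240000000]) 97239461142009186000 196883 where
  hk := k_ok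
  k_pos := k_pos
  hP := hP
  hD := by decide
  h0 := by decide
  eig := by decide +kernel
  hr := by decide +kernel
  hR := by decide +kernel
  deg := by decide +kernel

/-- **The constituent of degree `196883`.** -/
theorem exists_chi_196883 : ∃ χ : ↥M.G → ℂ, IsIrrCharacter ↥M.G χ ∧ χ 1 = 196883 := by
  obtain ⟨χ, h1, h2⟩ := exists_degree dat_196883
  exact ⟨χ, h1, by rw [h2]; norm_num⟩

/-- The certificate for the degree `18538750076`. -/
def R18538750076 : List (List ℤ) := [
  [0, 0, 0, 0, 0, 0, 0, 0, 0],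
  [-7281200884579175823741624256, 826030265154809499159071616000, 10545063301454898894467860324800, -7651551950912349285335957504000, -64131624178330923081751383244800, -113197428673893089986123638374400, -97327712149013636357961940992000, 270945047421974318328139172806656, 0],
  [188416, 0, 0, 0, 0, 0, 0, 0, 0],
  [-3306017132556246584557913197, -4209753158073846052366563000, 4900147521265306753514224150725, 2843900208001686189057974272000, -14409204158255293374789552537600, -55060104746270412461863443052800, -45126300247561464286682314944000, 106863113351454451876990500175872, 0],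
  [-26384463091333016176405691, -34375908182181495740649000, 39178902330449196890073264675, -20668420261133302636109824000, 161622623828883728994298675200, 49401173269799636781713817600, -310165792523356791950989632000, 80823997104696187697422319616, 0],
  [-20329444674922842923811758, -27307851360470864177562000, 30263477713078819386088425150, -28573483695013349285036032000, -106383844099865579662599782400, -87328068077235741345977587200, -149033867195997423992157696000, 341498350641481632325961515008, 0],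
  [45013178933376455490244931, 58119931278223512323904000, -67213954500461371352045061675, 50588189714676018430541824000, 395481085997157966361861324800, 630068553754484160315453854400, 584783307953159430149381952000, -1592715071117315244438890643456, 0],
  [38050127099456969152967287, 50040014423183041877440200, -56654237426085664784563177215, 45880647106956806027809587200, 248925010634321939352386519040, 219727349913927313920367825920, 395035823227163129297691609600, -847664315899779044536501911552, 0],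
  [-1568376883838464999093621, -2043017265710942741979000, 2337730845700772437703894925, -1859739018437491725492224000, -13793850284134490068237516800, -14357893291459988884123910400, -18397160465201841051317952000, 46600928219338334605300432896, 0]]

theorem dat_18538750076 : Dat t k (mat P) 2 (-7678186425) 12353495040
    (vec [12353495040, 107655168, -8101888, 6628347, 1621548, 416768, -332768, -57710, 24123])
    (mat R18538750076) (vec [1, 519310018118317535788363059375, 178562475, 3829644248839609152809656800000, 124932957371526695176946160000, 374532679733816889447364873125, 1038620036236635071576726118750, 5062483325426056131282141517056, 499203571738235631890968800000]) 97239461142009186000 18538750076 where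
  hk := k_ok
  k_pos := k_pos
  hP := hP
  hD := by decide
  h0 := by decide
  eig := by decide +kernel
  hr := by decide +kernel
  hR := by decide +kernel
  deg := by decide +kernel

/-- **The constituent of degree `18538750076`.** -/
theorem exists_chi_18538750076 : ∃ χ : ↥M.G → ℂ, IsIrrCharacter ↥M.G χ ∧ χ 1 = 18538750076 := by
  obtain ⟨χ, h1, h2⟩ := exists_degree dat_18538750076
  exact ⟨χ, h1, by rw [h2]; norm_num⟩

/-- The certificate for the degree `36173193327999`. -/
def R36173193327999 : List (List ℤ) := [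
  [0, 0, 0, 0, 0, 0, 0, 0, 0],
  [-1446894616688693637481912071328, 713834714367964613185949107008000, 19281233451267818075292820429802400, -203448059118357884750789976522752000, 481792935908044677262049812257177600, 1487088117351828668869041313942732800, 244519390856547661984817737826304000, -2029945946459301417722602350257897472, 0],
  [94208, 0, 0, 0, 0, 0, 0, 0, 0],
  [-367205254621756545767158604041, -52237589231248368481507228839000, 5129727989475925695317884841203425, -28383823860395197094368272809984000, 80859437241029547951702799127347200, 212245822558546255753401644969961600, 16084328423976039189508664266368000, -285882027961289634425957839561949184, 0],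
  [36310087321159554327893323451, 6516506539679216462009112789000, -567072590948976017983697968932675, 6061593395353211464617011544064000, -16644458616435929060107013153587200, -48005123661049298450392812192393600, -8378825087856751007276128664448000, 67528112667942148102608839118618624, 0],
  [147016620711239593662707641, 16424196258778446477895749000, -1860298224603223433108459713425, 2005859613349895820270731264000, -25043454989948928691879162675200, -21913491307230809857440800985600, 18234566398300701207677352192000, 28596188743935428051525300649984, 0],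
  [7510337382219599007265234361, 1405517362895239582293219699000, -122914603427131468947067239409425, 1377829737302197102439088799744000, -3178216053010959345724881376051200, -10102365471768777964484480757513600, -1758494383747381143098332927488000, 13784185404923389318596112860708864, 0],
  [77819970884245785188117935, 25711943600280217386781549800, -1792815675204963574583592800535, 40113629052379152031272946892800, -67172278537115927465138099159040, -295539987367952478018650626945920, -73427300621141904918876026649600, 398342570264828066290213155962880, 0],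
  [-35815437292856040891276383201, -7243573652050952908628318799000, 606627826019719626908832273106425, -7880459778603025780547737452544000, 17237568991778448714361467474739200, 59121503651810960321585157941097600, 11460722475066438847198979484288000, -80416003673386872898503455004033024, 0]]

theorem dat_36173193327999 : Dat t k (mat P) 2 (-749446425) 5985268346880
    (vec [5985268346880, 9253779456, -383143936, 163654614, -17859069, -1567104, -2001376, -54245, 111846])
    (mat R36173193327999) (vec [1, 117179226255771652217014940625, 184275, 1681562950553295701885011200000, 1523701938868700595177438720000, 70307535753462991330208964375, 2812301430138519653208358575000, 1075124088065755139957200760832, 239983055371820343740446598400000]) 97239461142009186000 36173193327999 where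
  hk := k_ok
  k_pos := k_pos
  hP := hP
  hD := by decide
  h0 := by decide
  eig := by decide +kernel
  hr := by decide +kernel
  hR := by decide +kernel
  deg := by decide +kernel

/-- **The constituent of degree `36173193327999`.** -/
theorem exists_chi_36173193327999 : ∃ χ : ↥M.G → ℂ, IsIrrCharacter ↥M.G χ ∧ χ 1 = 36173193327999 := by
  obtain ⟨χ, h1, h2⟩ := exists_degree dat_36173193327999
  exact ⟨χ, h1, by rw [h2]; norm_num⟩

/-- The certificate for the degree `251098487132187500`. -/
def R251098487132187500 : List (List ℤ) := [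
  [0, 0, 0, 0, 0, 0, 0, 0, 0],
  [-2111552895955055198484072985501504, 85227407962947579439341368295170688000, -485211399716802512318646570052260715200, -4946641951836666848873938155034640384000, 4827647106887551382621100833054392320000, 32667277978833856314721150720479215616000, 13089749302535656777479803701295972352000, -45238046271342715165574666711076081500160, 0],
  [942080, 0, 0, 0, 0, 0, 0, 0, 0],
  [257149021753586029642687044127, -29134381608292082879111036641479000, 198980691914238530157017389939203225, 1540949516905167683019854756421632000, -1278676229240548592090452698255360000, -10147814974678049704077346247999328000, -4448426307155177382314757840563136000, 14164138299827311716640365840521134080, 0],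
  [-796820392807581291164250793025, -23341073740148413575501638857875000, 174214686727023628851085798571045625, 1730536069428889491807429743206400000, -2195401306687676541117799021246464000, -12290426701015445710115718039353280000, -4870985606921175049155051062539200000, 17475619499649584439361147342301184000, 0],
  [266867098115395585230824150, 62849486620287022459868907570000, -441902053039386180065831158083750, -3670749529153756467449450332160000, 2744190449895996201946166231040000, 24128528772361514101071749643456000, 10790711839111737129027550778880000, -33611864173768858761682586468352000, 0],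
  [-135871856003332214067051227699, -3746546352632312930875318861392000, 27284703052529521482004220005035675, 267374803614922454475328187826176000, -251064388326444039599125034004480000, -1772704960038171413446288388403384000, -722424649982821018063710433339968000, 2455475330382412319644306096313303040, 0],
  [-1369245362413419938560043593625, -90638970441553256697443156848875000, 646642093183968801529679828437940625, 5753802022691281794767140883456000000, -4656845977265536370903030595840000000, -38363996644820697938467874503464000000, -16332945268100477940932838956568000000, 53066125012759559223917340884281344000, 0],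
  [710584880887824089242006867241, 30221127768514313679051613570623000, -218068389145733593202425622961489825, -2031190903192161600750831911542784000, 1819684068908896042754085399121920000, 13653721101501858650025702941068896000, 5653408429502971357085904923531712000, -18891961218237856822864096099193487360, 0]]

theorem dat_251098487132187500 : Dat t k (mat P) 2 (-33756345) 2161346903040000
    (vec [2161346903040000, 214455627776, -6231859200, -97151379, 22971000, -896000, 4335136, 380000, -277459])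
    (mat R251098487132187500) (vec [1, 334631085159873320564952089205, 5103, 91397485841562717642492629760, 1163359426926176877420870473088, 9560888147424952016141488263, 1051697696216744721775563708930, 119931780921298598090478828771072, 85665557800927570064627734836480]) 97239461142009186000 251098487132187500 where
  hk := k_ok
  k_pos := k_pos
  hP := hP
  hD := by decide
  h0 := by decide
  eig := by decide +kernel
  hr := by decide +kernel
  hR := by decide +kernel
  deg := by decide +kernel

/-- **The constituent of degree `251098487132187500`.** -/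
theorem exists_chi_251098487132187500 : ∃ χ : ↥M.G → ℂ, IsIrrCharacter ↥M.G χ ∧ χ 1 = 251098487132187500 := by
  obtain ⟨χ, h1, h2⟩ := exists_degree dat_251098487132187500
  exact ⟨χ, h1, by rw [h2]; norm_num⟩

/-- The certificate for the degree `49609712911192813665`. -/
def R49609712911192813665 : List (List ℤ) := [
  [0, 0, 0, 0, 0, 0, 0, 0, 0],
  [712385592282220543642876433468384, -19240130212228927794862722254247360000, 115640218953031216979257262615743668000, 1084502592186826400988478618520780800000, -1002624778826819150256029882772357120000, -7144965224757656528684622613621161984000, -2943508132255767662254375770672660480000, 9910194784858070424204198723023448047616, 0],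
  [1036288, 0, 0, 0, 0, 0, 0, 0, 0],
  [-52971467980833764588320327583779, 693685120953171441530191181546835000, -1772840526454603126210026922370911125, -49824831567623667148859057881088000000, 62617305791745103725905869110712320000, 330189098972431780753714717579208304000, 107740076979280645012495880087441280000, -449641193123782711992161944708974084096, 0],
  [-56817999822189047412641718897187, 296696735082804082874194330660755000, -232444246548595610327654682410527125, -3714312826661672784914914045952000000, -14578698250797956088493896514621440000, -6261005968741264982452798002303888000, -374005897819980462387910664876160000, 24871533382607417927847901610555277312, 0],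
  [79810303090663078542598696289, -698628366275875326517671766035000, 1359602072264608727691252703962375, 38526985609207073730256708403200000, -63574742442043280032775452753920000, -257311573283630620213134791379264000, -68309763387095462631816248282880000, 350067303277713914805017179008270336, 0],
  [-230342341956863903933860884671, 1147280385148004906748204470865000, -1459669958949273798637437541457625, -22354494648901460654297999564800000, 29234110831538671019974612654080000, 141097607919969143417300065836096000, 47638551764631129435164553088320000, -195133832264188351545123416073928704, 0],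
  [-778631079884392883527064718989, 5393536653699594642480746707485000, -8946479613411442364411708278594875, -219370549557454779890402745548800000, 369948448771790224388999618580480000, 1379215201518640478998721947415184000, 400470456420007295659247130929280000, -1922825956560680146668175951206875136, 0],
  [33346136520288052994490514066367, -199968136632378433448400755310255000, 288022324203827428387110101988449625, 6096380703454176474353778078515200000, -8742687758594877614458695333672960000, -35529233645855974698553730926066992000, -11184426875603302337512126443795840000, 49575308089900560181650247235467051008, 0]]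

theorem dat_49609712911192813665 : Dat t k (mat P) 2 (-1913625) 31699754577920
    (vec [31699754577920, -94595072, -5181440, 223652, 38285, -7040, 7072, 1045, -572])
    (mat R49609712911192813665) (vec [1, 15633785848633800974408652890625, 382725, 461164514251057964545519440000000, 2846043859377957724052348544000000, 21887300188087321364172114046875, 62535143394535203897634611562500, 1434406105126490692922383666176000, 112062976963007085384561223920000000]) 97239461142009186000 49609712911192813665 where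
  hk := k_ok
  k_pos := k_pos
  hP := hP
  hD := by decide
  h0 := by decide
  eig := by decide +kernel
  hr := by decide +kernel
  hR := by decide +kernel
  deg := by decide +kernel

/-- **The constituent of degree `49609712911192813665`.** -/
theorem exists_chi_49609712911192813665 : ∃ χ : ↥M.G → ℂ, IsIrrCharacter ↥M.G χ ∧ χ 1 = 49609712911192813665 := by
  obtain ⟨χ, h1, h2⟩ := exists_degree dat_49609712911192813665
  exact ⟨χ, h1, by rw [h2]; norm_num⟩

/-- The certificate for the degree `47377503606648784400`. -/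
def R47377503606648784400 : List (List ℤ) := [
  [0, 0, 0, 0, 0, 0, 0, 0, 0],
  [719084623270480717975419823232, -18566757428622656935711104721152000, 112326681468058421503293974726524800, 1042720051580819885182301721591808000, -957173657800740243963627798370713600, -6867677875251821028950995624584806400, -2839212074395455784754515797344256000, 9527582960540328170546075442094276608, 0],
  [376832, 0, 0, 0, 0, 0, 0, 0, 0],
  [-1159547439729273925407179453, 13904722150221246974290332711000, -27905597304969646278540859956075, -1032071734871876583626876452864000, 1336478789747855887191244149350400, 6842435872206132168788240990985600, 2163341096747050349845099994688000, -9296152615743340187124410972332032, 0],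
  [-60770301171359529877110886591, 281264985677591021603392994943000, 13058527029723194863890077187975, -1553329732084192059012723728384000, -18360638178567418480702292740915200, -23537989473016251748173792871046400, -7267043847067948586176797317184000, 50433213129077673385845696088621056, 0],
  [1461542757794404713866673652, -11468469314521954877540660964000, 14839142726887151716403786544300, 627520000141952423780987568128000, -1112210020643713784724849603379200, -4199227093344868151380263767116800, -1012455252013370154151448991744000, 5694137806969411973881719288496128, 0],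
  [-697235061800836380455890516, 3068003811148201446378576849000, -1588013538893867835377419509900, -41379200630670406716426346496000, 64568196107018446917071414476800, 253312857094534089946771365979200, 72179657850185730560505059712000, -349635033008011512579982057979904, 0],
  [-2251844116628554313468338801, 13875216580417071468336476625000, -13338172811454043035118566396375, -526049258288205619379326853120000, 983805812249993486757223593984000, 3265932818126733973544986182432000, 847444297509913642558102025280000, -4560019682619264944697879578394624, 0],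
  [38776138441123580383170615643, -206174322807110199264814131105000, 146316790926386756222653639403325, 5391194584947943430896352460800000, -8673739505457869075341132094054400, -29942184366306008423126241060009600, -8243790608088887267024167665600000, 41892362991377462016519869899579392, 0]]

theorem dat_47377503606648784400 : Dat t k (mat P) 2 (2168775) 172907752243200
    (vec [172907752243200, 447176704, 32030720, -1250418, -229710, 40960, -42432, -6175, 3406])
    (mat R47377503606648784400) (vec [1, 3236318125296120966140148375, 25515, 1988848450113391211016168000, 573811189978429269966893270400, 77024371382047678994135531325, 35599499378257330627541632125, 788729562952168232899947840768, 24647798842255257278123370024000]) 97239461142009186000 47377503606648784400 where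
  hk := k_ok
  k_pos := k_pos
  hP := hP
  hD := by decide
  h0 := by decide
  eig := by decide +kernel
  hr := by decide +kernel
  hR := by decide +kernel
  deg := by decide +kernel

/-- **The constituent of degree `47377503606648784400`.** -/
theorem exists_chi_47377503606648784400 : ∃ χ : ↥M.G → ℂ, IsIrrCharacter ↥M.G χ ∧ χ 1 = 47377503606648784400 := by
  obtain ⟨χ, h1, h2⟩ := exists_degree dat_47377503606648784400
  exact ⟨χ, h1, by rw [h2]; norm_num⟩

/-- The certificate for the degree `1109944460516150`. -/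
def R1109944460516150 : List (List ℤ) := [
  [0, 0, 0, 0, 0, 0, 0, 0, 0],
  [1903528271628026688862341728, -3565193944771515688356733632000, 36689211490712870519598303626400, 134183329861597619018681810944000, -5908282805631349974377064038400, -869144738112106799125706942054400, -549643489946441458875059208192000, 1257387466277415885310925526269952, 0],
  [94208, 0, 0, 0, 0, 0, 0, 0, 0],
  [153876011297422611770782247, 47651958147520636204460265000, 3928305689607022187179725234225, -18086757011638772368714858496000, 37531221165075583389772490342400, 114331385706910696518498533174400, 2911722201190969123438141056000, -140660565125008614415672687460352, 0],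
  [19559265239271339134555689, 6534890374509425452356423000, 683649679609375122226998808575, 2240252750283227602419875840000, -5028352475163665048517375590400, -23329744892919186115011128784000, -12500670114817014398983636608000, 37930788089190531282397398368256, 0],
  [-457977077099187610272187, -147127463046788480827551000, -14308446984513609568492849725, -2888860516401570386837504000, -121041931886400845891410329600, 26989574727102225811446182400, 197039106594159633835004160000, -85352826987901505535056805888, 0],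
  [101094302302568279310106909, 41194078063820756934205527000, 4111225335260754024413434956075, 13239318849608512341791129600000, 3443009053362450274035862732800, -89779547962558836450417976099200, -61377123420602537859084102912000, 130409357610257458710303106400256, 0],
  [274802796512102135926142287, 95506552376032664073195585000, 9445183799730325176601046327625, 17030368682905246505313075200000, 47930374488669227194666143744000, -141753765455484817548476607408000, -137108944270806550137954334080000, 205615898027851924521013240332288, 0],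
  [-261989967094625607026961967, -95143822622963137628751969000, -9500111387648780776786081125225, -24081290961238081572673323008000, -21171594286521062502755018342400, 196283210600705822493744491337600, 142888294567644489172576662912000, -281981877627109472239989545238528, 0]]

theorem dat_1109944460516150 : Dat t k (mat P) 2 (618611175) 3325149081600
    (vec [3325149081600, 1620023296, 175697920, 8669643, 1387095, -278400, 202912, 38475, -19661])
    (mat R1109944460516150) (vec [1, 726845826509671401699382125, 331695, 10979170866357734605324032000, 8722471353528554187513292800, 1017584157113539962379134975, 308182630440100674320538021000, 4418106189989283267059233069056, 8242735429084483707200061696000]) 97239461142009186000 1109944460516150 where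
  hk := k_ok
  k_pos := k_pos
  hP := hP
  hD := by decide
  h0 := by decide
  eig := by decide +kernel
  hr := by decide +kernel
  hR := by decide +kernel
  deg := by decide +kernel

/-- **The constituent of degree `1109944460516150`.** -/
theorem exists_chi_1109944460516150 : ∃ χ : ↥M.G → ℂ, IsIrrCharacter ↥M.G χ ∧ χ 1 = 1109944460516150 := by
  obtain ⟨χ, h1, h2⟩ := exists_degree dat_1109944460516150
  exact ⟨χ, h1, by rw [h2]; norm_num⟩

/-- The certificate for the degree `842609326`. -/
def R842609326 : List (List ℤ) := [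
  [0, 0, 0, 0, 0, 0, 0, 0, 0],
  [190436974936888197592, -11016196136394997680000, 50659408454544957249000, 22207724545900544000000, -83032498034001838080000, 996507030980902791168000, 904290992404528988160000, -1879766260664015983214592, 0],
  [1024, 0, 0, 0, 0, 0, 0, 0, 0],
  [9881295634949909954639, 333794675070244665000, 2644682269497347205023625, -6283141107870418534400000, 5632341165476298915840000, -34023821917158629481744000, -65085916991327457540480000, 97128091597366072775540736, 0],
  [-31311818376995421167993, 133123976295110145000, -8285652692642346911355375, 10399230121254177996800000, -207910858572347924090880000, 661389244950134101001328000, 912408346379228100485760000, -1367403783000014303188549632, 0],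
  [1310217597997847293, 22496216338305000, 349156811468391892875, -190761167235481600000, 1535996509600481280000, -19589231088645892128000, -21269682609491036160000, 39189964784133400952832, 0],
  [301585266161482894897, 18448339312117845000, 81726961156437881568375, 53767159311945113600000, -245872922671050670080000, 2786304357069447247488000, 2876123101707717975360000, -5547360223701293183926272, 0],
  [-1382972313437425712569, 82393192701088785000, -358589275093094912787375, 1007913338434895872000000, -6315267711568244520960000, 68719373177572762719984000, 85307849355084234468480000, -147932658445873847202349056, 0],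
  [-127267390939594818243931, -52932660633029147085000, -38794274135732359706860125, -362223134363284034355200000, 2225467231773392475095040000, -22572045681958354336123824000, -27887529476465190851172480000, 48940530778430310121681453056, 0]]

theorem dat_842609326 : Dat t k (mat P) 2 (43747806375) 13427712
    (vec [13427712, 231936, 50176, 22131, -2790, 2464, 3032, -163, -21])
    (mat R842609326) (vec [1, 35920253240205506082421875, 892812375, 19533008247582082780800000000, 490976114451723923611680000000, 23262640193656899177187500, 4351482106813467022556250000, 371177942525503286250430080000, 265127101803930918750307200000000]) 97239461142009186000 842609326 where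
  hk := k_ok
  k_pos := k_pos
  hP := hP
  hD := by decide
  h0 := by decide
  eig := by decide +kernel
  hr := by decide +kernel
  hR := by decide +kernel
  deg := by decide +kernel

/-- **The constituent of degree `842609326`.** -/
theorem exists_chi_842609326 : ∃ χ : ↥M.G → ℂ, IsIrrCharacter ↥M.G χ ∧ χ 1 = 842609326 := by
  obtain ⟨χ, h1, h2⟩ := exists_degree dat_842609326
  exact ⟨χ, h1, by rw [h2]; norm_num⟩

end Cfsg.Agent.H816.MDeg
end
end
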