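import Cfsg.Agent.H341.ThreeList_m3
import Cfsg.Agent.OddHalf.Known
import Cfsg.Agent.Prune
set_option linter.all false
prune_inst 0x7f00000000000000000000000000000000000000000000000000000000000000000000000000000000000000000000000000000000000000000000000000000000000000000000000000000000000000003fffffffffffffffffffffffffffbeffbdffffffff
open scoped Cfsg.Agent.FastGrp

/-!
# Known simple groups with a bounded 2-part (helper816)

`exists_two` : a known nonabelian simple group `S` with `2 ^ (k + 1) ∤ |S|` is of Lie type of odd characteristic, or is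
one of the groups of the computable list `list2 k` (and satisfies any decidable condition on its order).
No divisibility `|S| ∣ N` is needed.

`lie_bounded` : the same for `IsLieTypeChar p S`, `p ^ (k + 1) ∤ |S|`.
-/

set_option autoImplicit false

namespace Cfsg.Agent.H816.TwoOrd

open Cfsg Cfsg.Agent.OrdDiv

universe u

theorem isPrimeB_of {p : ℕ} (hp : p.Prime) : isPrimeB p = true := by
  unfold isPrimeB
  rw [Bool.and_eq_true, List.all_eq_true]
  refine ⟨by rw [Nat.blt_eq]; exact hp.one_lt, fun d hd => ?_⟩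
  rw [List.mem_range] at hd
  rw [Bool.or_eq_true]
  by_cases h : d < 2
  · left; rw [Nat.blt_eq]; exact h
  · right
    rw [bne_iff_ne]
    intro h0
    have h1 := (Nat.dvd_prime hp).1 (Nat.dvd_of_mod_eq_zero h0)
    omega

/-- the factorization of `N` -/
theorem exists_valid {N : ℕ} (hN : N ≠ 0) : ∃ l, valid l N = true := by
  classical
  refine ⟨N.primeFactors.toList.map fun p => (p, N.factorization p), ?_⟩
  unfold valid
  rw [Bool.and_eq_true, List.all_eq_true]
  constructor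
  · intro x hx
    rw [List.mem_map] at hx
    obtain ⟨p, hp, rfl⟩ := hx
    rw [Finset.mem_toList] at hp
    have hpp := Nat.prime_of_mem_primeFactors hp
    rw [Bool.and_eq_true]
    refine ⟨isPrimeB_of hpp, ?_⟩
    rw [bne_iff_ne]
    intro h0
    exact Nat.pow_succ_factorization_not_dvd hN hpp (Nat.dvd_of_mod_eq_zero h0)
  · rw [beq_iff_eq]
    unfold prodl
    rw [List.map_map]
    have h1 := Nat.prod_factorization_pow_eq_self hN
    conv_rhs => rw [← h1]
    rw [Finsupp.prod, Nat.support_factorization, ← Finset.prod_map_toList]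
    rfl

/-- the box of a family for the single prime `p` with exponent at most `k` -/
def candp (p k : ℕ) (D : Fam) : List (ℕ × ℕ) := (box [(p, k)] D.e D.lo).filter fun x => D.ok x.1 x.2

theorem mem_candp {l : List (ℕ × ℕ)} {N : ℕ} (hv : valid l N = true) {D : Fam} {n q p k : ℕ} (hp : p.Prime)
    (hk : ¬ p ^ (k + 1) ∣ N) (hq : p ∣ q) (h : (n, q) ∈ cand l N D) : (n, q) ∈ candp p k D := by
  unfold cand at h
  rw [List.mem_filter, Bool.and_eq_true] at h
  obtain ⟨h1, h2, -⟩ := h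
  unfold candp
  rw [List.mem_filter]
  refine ⟨?_, h2⟩
  first | rw [Cfsg.Agent.OrdDiv.box_eq_flat] at h1 ⊢ | unfold box at h1 ⊢
  rw [List.mem_flatMap] at h1 ⊢
  obtain ⟨x, hx, h3⟩ := h1
  rw [List.mem_flatMap] at h3
  obtain ⟨f, hf, h4⟩ := h3
  rw [List.mem_map] at h4
  obtain ⟨m, hm, h5⟩ := h4
  have e1 : m = n := congrArg Prod.fst h5
  have e2 : x.1 ^ (f + 1) = q := congrArg Prod.snd h5
  subst e1
  have hxp := valid_prime hv x hx
  have hpx : p = x.1 := by
    rw [← e2] at hq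
    exact (Nat.prime_dvd_prime_iff_eq hp hxp).1 (hp.dvd_of_dvd_pow hq)
  have hxk : x.2 ≤ k := by
    by_contra hlt
    apply hk
    have hdx : x.1 ^ x.2 ∣ N := by
      rw [← valid_prod hv]
      unfold prodl
      exact List.dvd_prod (List.mem_map.2 ⟨x, hx, rfl⟩)
    rw [hpx]
    exact (pow_dvd_pow _ (by omega)).trans hdx
  refine ⟨(p, k), List.mem_singleton.2 rfl, ?_⟩
  rw [List.mem_flatMap]
  rw [List.mem_range] at hf
  refine ⟨f, List.mem_range.2 (by simp only; omega), ?_⟩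
  rw [List.mem_map]
  refine ⟨m, ?_, by rw [← e2, hpx]⟩
  simp only [List.mem_filter, List.mem_range, Bool.and_eq_true, Nat.ble_eq] at hm ⊢
  omega

/-- the groups of Lie type in characteristic `p` with `p`-part at most `p ^ k` -/
def lieList (p k : ℕ) : List Grp :=
  List.flatten [
    (candp p k fPSL).map (fun x => Grp.psl x.1 x.2),
    (candp p k fPSp).map (fun x => Grp.psp x.1 x.2),
    (candp p k fPSU).map (fun x => Grp.psu x.1 x.2),
    (candp p k fOOdd).map (fun x => Grp.oodd x.1 x.2),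
    (candp p k fOPlus).map (fun x => Grp.oplus x.1 x.2),
    (candp p k fOMinus).map (fun x => Grp.ominus x.1 x.2),
    (candp p k fG2).map (fun x => Grp.g2 x.2),
    (candp p k fF4).map (fun x => Grp.f4 x.2),
    (candp p k fE6).map (fun x => Grp.e6 x.2),
    (candp p k fE7).map (fun x => Grp.e7 x.2),
    (candp p k fE8).map (fun x => Grp.e8 x.2),
    (candp p k fTE6).map (fun x => Grp.te6 x.2),
    (candp p k fTD4).map (fun x => Grp.td4 x.2),
    (candp p k fSz).map (fun x => Grp.sz x.2),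
    (candp p k fRee).map (fun x => Grp.ree x.2),
    (candp p k fTF4).map (fun x => Grp.tf4 x.2)]

theorem mem_lieList {p k : ℕ} {g : Grp} (i : Fin 16)
    (h : g ∈ ([
    (candp p k fPSL).map (fun x => Grp.psl x.1 x.2),
    (candp p k fPSp).map (fun x => Grp.psp x.1 x.2),
    (candp p k fPSU).map (fun x => Grp.psu x.1 x.2),
    (candp p k fOOdd).map (fun x => Grp.oodd x.1 x.2),
    (candp p k fOPlus).map (fun x => Grp.oplus x.1 x.2),
    (candp p k fOMinus).map (fun x => Grp.ominus x.1 x.2),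
    (candp p k fG2).map (fun x => Grp.g2 x.2),
    (candp p k fF4).map (fun x => Grp.f4 x.2),
    (candp p k fE6).map (fun x => Grp.e6 x.2),
    (candp p k fE7).map (fun x => Grp.e7 x.2),
    (candp p k fE8).map (fun x => Grp.e8 x.2),
    (candp p k fTE6).map (fun x => Grp.te6 x.2),
    (candp p k fTD4).map (fun x => Grp.td4 x.2),
    (candp p k fSz).map (fun x => Grp.sz x.2),
    (candp p k fRee).map (fun x => Grp.ree x.2),
    (candp p k fTF4).map (fun x => Grp.tf4 x.2)] : List (List Grp)).get i) : g ∈ lieList p k := by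
  unfold lieList
  exact List.mem_flatten.2 ⟨_, by exact List.get_mem (l := [_, _, _, _, _, _, _, _, _, _, _, _, _, _, _, _]) i, h⟩

theorem dvd_card_field {p : ℕ} {F : Type} [Field F] [Fintype F] [CharP F p] : p ∣ Fintype.card F := by
  have h : ((Fintype.card F : ℕ) : F) = 0 := Nat.cast_card_eq_zero F
  exact (CharP.cast_eq_zero_iff F p _).1 h

theorem dvd_of_pow {p q m c : ℕ} (hp : p.Prime) (h : c = q ^ m) (hc : p ∣ c) : p ∣ q := by
  rw [h] at hc
  exact hp.dvd_of_dvd_pow hc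

/-- the groups of Lie type of characteristic `p` with bounded `p`-part -/
theorem lie_bounded (T : OrderTable.{u}) {p : ℕ} (hp : p.Prime) {S : Type u} [Group S] [Finite S]
    (h : IsLieTypeChar p S) {k : ℕ} (hk : ¬ p ^ (k + 1) ∣ Nat.card S) :
    ∃ g ∈ lieList p k, Real g S ∧ Nat.card S = ordN g := by
  obtain ⟨l, hv⟩ := exists_valid (N := Nat.card S) Nat.card_pos.ne'
  have K : ∀ {D : Fam} {n q : ℕ}, p ∣ q → (n, q) ∈ cand l (Nat.card S) D → (n, q) ∈ candp p k D :=
    fun hq hm => mem_candp hv hp hk hq hm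
  rcases h with h | h | h | h | h | h | h | h | h | h | h
  · obtain ⟨F, _, _, _, n, hn, hn2, ⟨e⟩⟩ := h
    obtain ⟨h1, h2⟩ := psl_mem hv (F := F) hn hn2 (dvd_of_eq (Nat.card_congr e.symm.toEquiv))
    exact ⟨.psl n (Fintype.card F), mem_lieList 0 (List.mem_map.2 ⟨_, K dvd_card_field h1, rfl⟩),
      ⟨F, inferInstance, inferInstance, rfl, ⟨e⟩⟩, (Nat.card_congr e.toEquiv).trans h2⟩
  · obtain ⟨F, _, _, _, n, hn, hn2, ⟨e⟩⟩ := h
    obtain ⟨h1, h2⟩ := psp_mem hv (F := F) hn hn2 (dvd_of_eq (Nat.card_congr e.symm.toEquiv))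
    exact ⟨.psp n (Fintype.card F), mem_lieList 1 (List.mem_map.2 ⟨_, K dvd_card_field h1, rfl⟩),
      ⟨F, inferInstance, inferInstance, rfl, ⟨e⟩⟩, (Nat.card_congr e.toEquiv).trans h2⟩
  · obtain ⟨F, _, _, _, n, q, hF, hn, hn2, ⟨e⟩⟩ := h
    obtain ⟨h1, h2⟩ := psu_mem hv hF hn hn2 (dvd_of_eq (Nat.card_congr e.symm.toEquiv))
    exact ⟨.psu n q, mem_lieList 2 (List.mem_map.2 ⟨_, K (dvd_of_pow hp hF dvd_card_field) h1, rfl⟩),
      ⟨F, inferInstance, inferInstance, hF, ⟨e⟩⟩, (Nat.card_congr e.toEquiv).trans h2⟩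
  · obtain ⟨F, _, _, _, n, hn, ho, ⟨e⟩⟩ := h
    obtain ⟨h1, h2⟩ := oodd_mem hv (F := F) hn ho (dvd_of_eq (Nat.card_congr e.symm.toEquiv))
    exact ⟨.oodd n (Fintype.card F), mem_lieList 3 (List.mem_map.2 ⟨_, K dvd_card_field h1, rfl⟩),
      ⟨F, inferInstance, inferInstance, rfl, ⟨e⟩⟩, (Nat.card_congr e.toEquiv).trans h2⟩
  · obtain ⟨F, _, _, _, n, hn, ⟨e⟩⟩ := h
    obtain ⟨h1, h2⟩ := oplus_mem hv (F := F) hn (dvd_of_eq (Nat.card_congr e.symm.toEquiv))
    exact ⟨.oplus n (Fintype.card F), mem_lieList 4 (List.mem_map.2 ⟨_, K dvd_card_field h1, rfl⟩),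
      ⟨F, inferInstance, inferInstance, rfl, ⟨e⟩⟩, (Nat.card_congr e.toEquiv).trans h2⟩
  · obtain ⟨F, _, _, _, n, a, b, hn, hab, ⟨e⟩⟩ := h
    obtain ⟨h1, h2⟩ := ominus_mem hv (F := F) hn hab (dvd_of_eq (Nat.card_congr e.symm.toEquiv))
    exact ⟨.ominus n (Fintype.card F), mem_lieList 5 (List.mem_map.2 ⟨_, K dvd_card_field h1, rfl⟩),
      ⟨F, inferInstance, inferInstance, a, b, rfl, hab, ⟨e⟩⟩, (Nat.card_congr e.toEquiv).trans h2⟩
  · obtain ⟨F, _, _, _, h⟩ := h
    rcases h with ⟨hq, ⟨e⟩⟩ | ⟨⟨e⟩⟩ | ⟨⟨e⟩⟩ | ⟨⟨e⟩⟩ | ⟨⟨e⟩⟩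
    · obtain ⟨h1, h2⟩ : (0, Fintype.card F) ∈ cand l (Nat.card S) fG2 ∧ _ :=
        one_mem hv (by norm_num) Fintype.isPrimePow_card_of_field (by rw [Nat.ble_eq]; exact hq)
          (by rw [T.g2 F]; ring) (Nat.coprime_one_left _) (dvd_of_eq (Nat.card_congr e.symm.toEquiv))
      exact ⟨.g2 (Fintype.card F), mem_lieList 6 (List.mem_map.2 ⟨_, K dvd_card_field h1, rfl⟩),
        ⟨F, inferInstance, inferInstance, rfl, ⟨e⟩⟩, (Nat.card_congr e.toEquiv).trans h2⟩
    · obtain ⟨h1, h2⟩ : (0, Fintype.card F) ∈ cand l (Nat.card S) fF4 ∧ _ :=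
        one_mem hv (by norm_num) Fintype.isPrimePow_card_of_field rfl
          (by rw [T.f4 F _ rfl]; ring) (Nat.coprime_one_left _) (dvd_of_eq (Nat.card_congr e.symm.toEquiv))
      exact ⟨.f4 (Fintype.card F), mem_lieList 7 (List.mem_map.2 ⟨_, K dvd_card_field h1, rfl⟩),
        ⟨F, inferInstance, inferInstance, rfl, ⟨e⟩⟩, (Nat.card_congr e.toEquiv).trans h2⟩
    · have h0 := cop_sub (q := Fintype.card F) (k := 1) Fintype.card_pos le_rfl
      rw [pow_one] at h0
      obtain ⟨h1, h2⟩ : (0, Fintype.card F) ∈ cand l (Nat.card S) fE6 ∧ _ :=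
        one_mem hv (by norm_num) Fintype.isPrimePow_card_of_field rfl
          (by rw [T.e6 F _ rfl]; ring) (Nat.Coprime.coprime_dvd_left (Nat.gcd_dvd_right _ _) h0)
          (dvd_of_eq (Nat.card_congr e.symm.toEquiv))
      exact ⟨.e6 (Fintype.card F), mem_lieList 8 (List.mem_map.2 ⟨_, K dvd_card_field h1, rfl⟩),
        ⟨F, inferInstance, inferInstance, rfl, ⟨e⟩⟩, (Nat.card_congr e.toEquiv).trans h2⟩
    · have h0 := cop_sub (q := Fintype.card F) (k := 1) Fintype.card_pos le_rfl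
      rw [pow_one] at h0
      obtain ⟨h1, h2⟩ : (0, Fintype.card F) ∈ cand l (Nat.card S) fE7 ∧ _ :=
        one_mem hv (by norm_num) Fintype.isPrimePow_card_of_field rfl
          (by rw [T.e7 F _ rfl]; ring) (Nat.Coprime.coprime_dvd_left (Nat.gcd_dvd_right _ _) h0)
          (dvd_of_eq (Nat.card_congr e.symm.toEquiv))
      exact ⟨.e7 (Fintype.card F), mem_lieList 9 (List.mem_map.2 ⟨_, K dvd_card_field h1, rfl⟩),
        ⟨F, inferInstance, inferInstance, rfl, ⟨e⟩⟩, (Nat.card_congr e.toEquiv).trans h2⟩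
    · obtain ⟨h1, h2⟩ : (0, Fintype.card F) ∈ cand l (Nat.card S) fE8 ∧ _ :=
        one_mem hv (by norm_num) Fintype.isPrimePow_card_of_field rfl
          (by rw [T.e8 F _ rfl]; ring) (Nat.coprime_one_left _) (dvd_of_eq (Nat.card_congr e.symm.toEquiv))
      exact ⟨.e8 (Fintype.card F), mem_lieList 10 (List.mem_map.2 ⟨_, K dvd_card_field h1, rfl⟩),
        ⟨F, inferInstance, inferInstance, rfl, ⟨e⟩⟩, (Nat.card_congr e.toEquiv).trans h2⟩
  · obtain ⟨F, _, _, _, q, hq, h⟩ := h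
    rcases h with ⟨hF, ⟨e⟩⟩ | ⟨hF, ⟨e⟩⟩
    · have h0 := cop_add (q := q) (k := 1) le_rfl
      rw [pow_one] at h0
      obtain ⟨h1, h2⟩ : (0, q) ∈ cand l (Nat.card S) fTE6 ∧ _ :=
        one_mem hv (by norm_num) hq rfl
          (by rw [T.te6 F q hq hF]; ring) (Nat.Coprime.coprime_dvd_left (Nat.gcd_dvd_right _ _) h0)
          (dvd_of_eq (Nat.card_congr e.symm.toEquiv))
      exact ⟨.te6 q, mem_lieList 11 (List.mem_map.2 ⟨_, K (dvd_of_pow hp hF dvd_card_field) h1, rfl⟩),
        ⟨F, inferInstance, inferInstance, hF, ⟨e⟩⟩, (Nat.card_congr e.toEquiv).trans h2⟩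
    · obtain ⟨h1, h2⟩ : (0, q) ∈ cand l (Nat.card S) fTD4 ∧ _ :=
        one_mem hv (by norm_num) hq rfl (by rw [T.td4 F q hq hF]; ring) (Nat.coprime_one_left _)
          (dvd_of_eq (Nat.card_congr e.symm.toEquiv))
      exact ⟨.td4 q, mem_lieList 12 (List.mem_map.2 ⟨_, K (dvd_of_pow hp hF dvd_card_field) h1, rfl⟩),
        ⟨F, inferInstance, inferInstance, hF, ⟨e⟩⟩, (Nat.card_congr e.toEquiv).trans h2⟩
  · obtain ⟨rfl, F, _, _, m, hm, hF, ⟨e⟩⟩ := h
    obtain ⟨h1, h2⟩ : (0, 2 ^ (2 * m + 1)) ∈ cand l (Nat.card S) fSz ∧ _ :=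
      one_mem hv (by norm_num) (Nat.prime_two.isPrimePow.pow (by omega)) (ok_two hm)
        (by rw [T.sz F m hm hF]; ring) (Nat.coprime_one_left _) (dvd_of_eq (Nat.card_congr e.symm.toEquiv))
    exact ⟨.sz (2 ^ (2 * m + 1)), mem_lieList 13 (List.mem_map.2 ⟨_, K (dvd_pow_self 2 (by omega)) h1, rfl⟩),
      ⟨F, inferInstance, inferInstance, m, hm, hF, rfl, ⟨e⟩⟩, (Nat.card_congr e.toEquiv).trans h2⟩
  · obtain ⟨rfl, F, _, _, m, hm, hF, ⟨e⟩⟩ := h
    obtain ⟨h1, h2⟩ : (0, 2 ^ (2 * m + 1)) ∈ cand l (Nat.card S) fTF4 ∧ _ :=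
      one_mem hv (by norm_num) (Nat.prime_two.isPrimePow.pow (by omega)) (ok_two hm)
        (by rw [T.tf4 F m hm hF]; ring) (Nat.coprime_one_left _) (dvd_of_eq (Nat.card_congr e.symm.toEquiv))
    exact ⟨.tf4 (2 ^ (2 * m + 1)), mem_lieList 15 (List.mem_map.2 ⟨_, K (dvd_pow_self 2 (by omega)) h1, rfl⟩),
      ⟨F, inferInstance, inferInstance, m, hm, hF, rfl, ⟨e⟩⟩, (Nat.card_congr e.toEquiv).trans h2⟩
  · obtain ⟨rfl, F, _, _, m, hm, hF, ⟨e⟩⟩ := h
    obtain ⟨h1, h2⟩ : (0, 3 ^ (2 * m + 1)) ∈ cand l (Nat.card S) fRee ∧ _ :=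
      one_mem hv (by norm_num) (Nat.prime_three.isPrimePow.pow (by omega)) (ok_three hm)
        (by rw [T.ree F m hm hF]; ring) (Nat.coprime_one_left _) (dvd_of_eq (Nat.card_congr e.symm.toEquiv))
    exact ⟨.ree (3 ^ (2 * m + 1)), mem_lieList 14 (List.mem_map.2 ⟨_, K (dvd_pow_self 3 (by omega)) h1, rfl⟩),
      ⟨F, inferInstance, inferInstance, m, hm, hF, rfl, ⟨e⟩⟩, (Nat.card_congr e.toEquiv).trans h2⟩

/-- all known simple groups with `2`-part at most `2 ^ k`, except those of Lie type of odd characteristic -/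
def list2 (k : ℕ) : List Grp :=
  ((List.range (2 * k + 4)).filter fun n => Nat.ble 5 n).map Grp.alt ++ (lieList 2 k ++ spor.map fun x => x.1)

theorem alt_bound {k n : ℕ} {S : Type u} [Group S] (hn : 5 ≤ n) (e : S ≃* ↥(alternatingGroup (Fin n)))
    (hk : ¬ 2 ^ (k + 1) ∣ Nat.card S) : n < 2 * k + 4 := by
  by_contra hlt
  apply hk
  have h1 : 2 ^ (n / 2) ∣ n.factorial :=
    (two_pow_dvd_factorial (n / 2)).trans (Nat.factorial_dvd_factorial (by omega))
  rw [alt_card hn e] at h1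
  have h2 : 2 ^ (k + 1 + 1) ∣ 2 * Nat.card S := (pow_dvd_pow 2 (by omega)).trans h1
  rw [pow_succ' 2 (k + 1)] at h2
  exact Nat.dvd_of_mul_dvd_mul_left (by norm_num) h2

/-- **The engine with a bound for the 2-part.** -/
theorem exists_two (T : OrderTable.{u}) {S : Type u} [Group S] [Finite S] (h : IsKnownSimple' S)
    (hna : ¬ ∀ a b : S, a * b = b * a) {k : ℕ} (hk : ¬ 2 ^ (k + 1) ∣ Nat.card S) :
    (∃ p : ℕ, p.Prime ∧ p ≠ 2 ∧ IsLieTypeChar p S) ∨ ∃ g ∈ list2 k, Real g S ∧ Nat.card S = ordN g := by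
  have key : ∀ (g : Grp), g ∈ spor.map (fun x => x.1) → Real g S →
      ∃ g ∈ list2 k, Real g S ∧ Nat.card S = ordN g := fun g hg hr => by
    obtain ⟨x, hx, rfl⟩ := List.mem_map.1 hg
    refine ⟨x.1, ?_, hr, (T.spor S x hx hr).trans (spor_ord x hx).symm⟩
    unfold list2
    rw [List.mem_append, List.mem_append]
    exact Or.inr (Or.inr hg)
  rcases Cfsg.Agent.OddHalf.Known.classify (fun hc => hna fun a b => hc.is_comm.comm a b) h with h | h | h | h
  · right
    obtain ⟨n, hn, ⟨e⟩⟩ := h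
    refine ⟨.alt n, ?_, ⟨e⟩, ?_⟩
    · unfold list2
      rw [List.mem_append]
      left
      rw [List.mem_map]
      refine ⟨n, ?_, rfl⟩
      rw [List.mem_filter, List.mem_range, Nat.ble_eq]
      exact ⟨alt_bound hn e hk, hn⟩
    · exact (Nat.div_eq_of_eq_mul_right (by norm_num) (alt_card hn e)).symm
  · exact Or.inl h
  · right
    rcases h with h | h
    · obtain ⟨g, hg, h1, h2⟩ := lie_bounded T Nat.prime_two h hk
      refine ⟨g, ?_, h1, h2⟩
      unfold list2
      rw [List.mem_append, List.mem_append]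
      exact Or.inr (Or.inl hg)
    · exact key .tits (by decide) h
  · right
    rcases h with h | h | h | h | h | h | h | h | h | h | h | h | h | h | h | h | h | h | h | h | h | h | h | h | h | h
    · exact key .m11 (by decide) h
    · exact key .m12 (by decide) h
    · exact key .m22 (by decide) h
    · exact key .m23 (by decide) h
    · exact key .m24 (by decide) h
    · exact key .j1 (by decide) h
    · exact key .j2 (by decide) h
    · exact key .j3 (by decide) h
    · exact key .j4 (by decide) h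
    · exact key .co1 (by decide) h
    · exact key .co2 (by decide) h
    · exact key .co3 (by decide) h
    · exact key .mcl (by decide) h
    · exact key .hs (by decide) h
    · exact key .suz (by decide) h
    · exact key .he (by decide) h
    · exact key .ru (by decide) h
    · exact key .on (by decide) h
    · exact key .ly (by decide) h
    · exact key .fi22 (by decide) h
    · exact key .fi23 (by decide) h
    · exact key .fi24 (by decide) h
    · exact key .hn (by decide) h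
    · exact key .th (by decide) h
    · exact key .b (by decide) h
    · exact key .m (by decide) h

/-- the version with a condition on the order -/
theorem exists_two_filter (T : OrderTable.{u}) {S : Type u} [Group S] [Finite S] (h : IsKnownSimple' S)
    (hna : ¬ ∀ a b : S, a * b = b * a) {k : ℕ} (hk : ¬ 2 ^ (k + 1) ∣ Nat.card S) (P : ℕ → Bool)
    (hP : P (Nat.card S) = true) :
    (∃ p : ℕ, p.Prime ∧ p ≠ 2 ∧ IsLieTypeChar p S) ∨
      ∃ g ∈ (list2 k).filter (fun g => P (ordN g)), Real g S ∧ Nat.card S = ordN g := by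
  rcases exists_two T h hna hk with h1 | ⟨g, h1, h2, h3⟩
  · exact Or.inl h1
  · exact Or.inr ⟨g, List.mem_filter.2 ⟨h1, by rw [← h3]; exact hP⟩, h2, h3⟩

end Cfsg.Agent.H816.TwoOrd
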