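import Mathlib
import Cfsg.Agent.S5388
import Cfsg.Agent.S0481
import Cfsg.Agent.S0280
import Cfsg.Agent.OddHalf.D4.Small.LFourDef_m3
import Cfsg.Agent.KFacts.Unit.Emb
import Cfsg.Agent.LargeExtra.Base
import Cfsg.Agent.LargeExtra.Cards
import Cfsg.Agent.FastGrp
import Cfsg.Agent.Prune
set_option linter.all false
prune_inst 0x7f00000000000000000000000000000000000000000000000000000000000000000000000000000000000000000000000000000000000000000000000000000000000000000000000000000000000000003fffffffffffffffffffffffffffbeffbdffffffff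
open scoped Cfsg.Agent.FastGrp

/-!
# Elimination of `A_n`, `U₇(2)`, `Co₁` by the centralizer of a 2-central involution
-/

set_option autoImplicit false
set_option linter.unusedSectionVars false

namespace Cfsg.Agent.H816.Elim

open Subgroup Cfsg.Agent.Co2Type.Quad

section Large

variable {S : Type*} [Group S] [Finite S] {z : S} {Q : Subgroup S}

theorem orderOf_z (h : Large Q z) : orderOf z = 2 :=
  orderOf_eq_prime (by rw [pow_two]; exact h.z_sq) h.z_ne

/-- S0481 for `Large` -/
theorem large_tran (h : Large Q z) : (∃ P : Sylow 2 S, (P : Subgroup S) ≤ centralizer ({z} : Set S)) ∧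
    ∀ u : S, orderOf u = 2 → (∃ P : Sylow 2 S, (P : Subgroup S) ≤ centralizer ({u} : Set S)) → IsConj z u := by
  refine Cfsg.Agent.S0481.result z (orderOf_z h) Q ?_ ?_ ?_ h.card_center ?_ ?_
  · intro x hx
    exact mem_centralizer_singleton_iff.2 (h.comm_z x hx)
  · intro g hg q hq
    exact h.conj_mem g (mem_centralizer_singleton_iff.1 hg) q hq
  · intro x
    refine ⟨2, ?_⟩
    apply Subtype.ext
    show (x : S) ^ (2 ^ 2) = 1
    have e1 : (x : S) ^ (2 ^ 2) = (x * x) * (x * x) := by rw [show 2 ^ 2 = 4 by norm_num, pow_succ, pow_succ, pow_two]; group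
    rw [e1]
    rcases h.sq x x.2 with h1 | h1
    · rw [h1, one_mul]
    · rw [h1, h.z_sq]
  · intro x
    rw [pow_two]
    exact h.sq_mem x
  · intro g hg
    rw [mem_centralizer_iff] at hg
    exact h.self g (hg z h.z_mem).symm fun x hx => (hg x hx).symm

theorem card_cent_of_isConj {T : Type*} [Group T] {a b : T} (h : IsConj a b) :
    Nat.card (centralizer ({a} : Set T)) = Nat.card (centralizer ({b} : Set T)) := by
  obtain ⟨g, hg⟩ := isConj_iff.1 h
  have h1 : (centralizer ({a} : Set T)).map (MulAut.conj g).toMonoidHom = centralizer ({b} : Set T) := by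
    ext x
    constructor
    · rintro ⟨y, hy, rfl⟩
      rw [SetLike.mem_coe, mem_centralizer_singleton_iff] at hy
      rw [mem_centralizer_singleton_iff, ← hg]
      show g * y * g⁻¹ * (g * a * g⁻¹) = g * a * g⁻¹ * (g * y * g⁻¹)
      calc g * y * g⁻¹ * (g * a * g⁻¹) = g * (y * a) * g⁻¹ := by group
        _ = g * (a * y) * g⁻¹ := by rw [hy]
        _ = _ := by group
    · intro hx
      rw [mem_centralizer_singleton_iff, ← hg] at hx
      refine ⟨g⁻¹ * x * g, ?_, ?_⟩
      · rw [SetLike.mem_coe, mem_centralizer_singleton_iff]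
        calc g⁻¹ * x * g * a = g⁻¹ * (x * (g * a * g⁻¹)) * g := by group
          _ = g⁻¹ * (g * a * g⁻¹ * x) * g := by rw [hx]
          _ = a * (g⁻¹ * x * g) := by group
      · show g * (g⁻¹ * x * g) * g⁻¹ = x
        group
  rw [← h1, card_map_of_injective (MulAut.conj g).injective]

theorem card_cent_equiv {T : Type*} [Group T] (e : S ≃* T) (u : S) :
    Nat.card (centralizer ({e u} : Set T)) = Nat.card (centralizer ({u} : Set S)) := by
  have h2 : (centralizer ({u} : Set S)).map e.toMonoidHom = centralizer ({e u} : Set T) := by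
    ext x
    constructor
    · rintro ⟨y, hy, rfl⟩
      rw [SetLike.mem_coe, mem_centralizer_singleton_iff] at hy
      rw [mem_centralizer_singleton_iff]
      show e y * e u = e u * e y
      rw [← map_mul, hy, map_mul]
    · intro hx
      rw [mem_centralizer_singleton_iff] at hx
      refine ⟨e.symm x, ?_, by simp⟩
      rw [SetLike.mem_coe, mem_centralizer_singleton_iff]
      apply e.injective
      rw [map_mul, map_mul, e.apply_symm_apply]
      exact hx
  rw [← h2, card_map_of_injective e.injective]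

/-- the centralizer order of any 2-central involution of an isomorphic group -/
theorem card_cent_of_large (h : Large Q z) {T : Type*} [Group T] [Finite T] (e : S ≃* T) {u : T} (hu : orderOf u = 2)
    (P : Sylow 2 T) (hP : (P : Subgroup T) ≤ centralizer ({u} : Set T)) :
    Nat.card (centralizer ({u} : Set T)) = Nat.card (centralizer ({z} : Set S)) := by
  have h1 : IsConj z (e.symm u) := by
    refine (large_tran h).2 _ (by rw [← hu]; exact orderOf_injective e.symm.toMonoidHom e.symm.injective u) ?_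
    have hs : Function.Surjective (e.symm.toMonoidHom : T →* S) := e.symm.surjective
    refine ⟨P.mapSurjective hs, ?_⟩
    rw [Sylow.coe_mapSurjective hs P]
    rintro _ ⟨x, hx, rfl⟩
    have h2 := mem_centralizer_singleton_iff.1 (hP hx)
    rw [mem_centralizer_singleton_iff]
    show e.symm x * e.symm u = e.symm u * e.symm x
    rw [← map_mul, h2, map_mul]
  rw [card_cent_of_isConj h1]
  have h2 : (centralizer ({e.symm u} : Set S)).map e.toMonoidHom = centralizer ({u} : Set T) := by
    ext x
    constructor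
    · rintro ⟨y, hy, rfl⟩
      rw [SetLike.mem_coe, mem_centralizer_singleton_iff] at hy
      rw [mem_centralizer_singleton_iff]
      show e y * u = u * e y
      have := congrArg e hy
      simpa using this
    · intro hx
      rw [mem_centralizer_singleton_iff] at hx
      refine ⟨e.symm x, ?_, by simp⟩
      rw [SetLike.mem_coe, mem_centralizer_singleton_iff, ← map_mul, hx, map_mul]
  rw [← h2, card_map_of_injective e.injective]

end Large

/-! ### the alternating groups -/

theorem dvd_perm : ∀ n ∈ [24, 25, 26, 27], ∀ m ∈ List.range 14, 2 * m ≤ n →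
    25 ∣ (n - 2 * m).factorial * 2 ^ m * m.factorial := by decide +kernel

theorem alt_cent {n : ℕ} (hn : n ∈ [24, 25, 26, 27]) (t : alternatingGroup (Fin n)) (ht : orderOf t = 2) :
    25 ∣ Nat.card (centralizer ({t} : Set (alternatingGroup (Fin n)))) := by
  classical
  have h1 : orderOf (t : Equiv.Perm (Fin n)) = 2 := by
    rw [← ht]; exact Subgroup.orderOf_coe t
  obtain ⟨m, hm⟩ := Equiv.Perm.cycleType_prime_order (σ := (t : Equiv.Perm (Fin n))) (by rw [h1]; exact Nat.prime_two)
  rw [h1] at hm
  have h2 := Equiv.Perm.nat_card_centralizer (t : Equiv.Perm (Fin n))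
  have h3 : (Multiset.replicate (m + 1) 2).toFinset = {2} := by
    rw [Multiset.toFinset_replicate, if_neg (by omega)]
  rw [hm, Multiset.sum_replicate, Multiset.prod_replicate, h3, Finset.prod_singleton, Multiset.count_replicate_self,
    Fintype.card_fin, smul_eq_mul, mul_comm (m + 1) 2] at h2
  have h4 : 2 * (m + 1) ≤ n := by
    have h5 := Equiv.Perm.sum_cycleType_le (t : Equiv.Perm (Fin n))
    rw [hm, Multiset.sum_replicate, smul_eq_mul, Fintype.card_fin] at h5
    omega
  have h27 : n ≤ 27 := by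
    simp only [List.mem_cons, List.not_mem_nil, or_false] at hn
    omega
  have h5 : 25 ∣ Nat.card (centralizer ({(t : Equiv.Perm (Fin n))} : Set (Equiv.Perm (Fin n)))) := by
    rw [h2]
    exact dvd_perm n hn (m + 1) (List.mem_range.2 (by omega)) h4
  -- the centralizer in the alternating group
  have hcard : Nat.card (centralizer ({t} : Set (alternatingGroup (Fin n)))) =
      Nat.card ((centralizer ({(t : Equiv.Perm (Fin n))} : Set (Equiv.Perm (Fin n)))) ⊓ alternatingGroup (Fin n) :
        Subgroup (Equiv.Perm (Fin n))) := by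
    have h6 : (centralizer ({t} : Set (alternatingGroup (Fin n)))).map (alternatingGroup (Fin n)).subtype =
        (centralizer ({(t : Equiv.Perm (Fin n))} : Set (Equiv.Perm (Fin n)))) ⊓ alternatingGroup (Fin n) := by
      ext x
      constructor
      · rintro ⟨y, hy, rfl⟩
        refine mem_inf.2 ⟨mem_centralizer_singleton_iff.2 ?_, y.2⟩
        exact congrArg Subtype.val (mem_centralizer_singleton_iff.1 hy)
      · intro hx
        obtain ⟨hx1, hx2⟩ := mem_inf.1 hx
        refine ⟨⟨x, hx2⟩, ?_, rfl⟩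
        rw [SetLike.mem_coe, mem_centralizer_singleton_iff]
        exact Subtype.ext (mem_centralizer_singleton_iff.1 hx1)
    rw [← h6, card_map_of_injective (alternatingGroup (Fin n)).subtype_injective]
  rw [hcard]
  set C := centralizer ({(t : Equiv.Perm (Fin n))} : Set (Equiv.Perm (Fin n))) with hC
  have h6 : (alternatingGroup (Fin n)).relIndex C ∣ 2 := by
    have hnt : Nontrivial (Fin n) := by
      rw [Fin.nontrivial_iff_two_le]
      omega
    rw [← alternatingGroup.index_eq_two (α := Fin n)]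
    exact relIndex_dvd_index_of_normal _ _
  have h7 : Nat.card (C ⊓ alternatingGroup (Fin n) : Subgroup (Equiv.Perm (Fin n))) *
      (alternatingGroup (Fin n)).relIndex C = Nat.card C := by
    have h8 := ((alternatingGroup (Fin n)).subgroupOf C).card_mul_index
    have h9 : Nat.card ((alternatingGroup (Fin n)).subgroupOf C) =
        Nat.card (C ⊓ alternatingGroup (Fin n) : Subgroup (Equiv.Perm (Fin n))) := by
      rw [← card_map_of_injective C.subtype_injective, subgroupOf_map_subtype, inf_comm]
    rw [h9] at h8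
    exact h8
  have h8 : 25 ∣ Nat.card (C ⊓ alternatingGroup (Fin n) : Subgroup (Equiv.Perm (Fin n))) *
      (alternatingGroup (Fin n)).relIndex C := by rw [h7]; exact h5
  have h9 : Nat.Coprime 25 ((alternatingGroup (Fin n)).relIndex C) :=
    Nat.Coprime.coprime_dvd_right h6 (by norm_num)
  exact h9.dvd_of_dvd_mul_right h8

/-! ### `Co₁` -/

theorem co1_cent : ∃ u : Cfsg.Spor.Co1, orderOf u = 2 ∧
    (∃ P : Sylow 2 Cfsg.Spor.Co1, (P : Subgroup Cfsg.Spor.Co1) ≤ centralizer ({u} : Set Cfsg.Spor.Co1)) ∧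
    25 ∣ Nat.card (centralizer ({u} : Set Cfsg.Spor.Co1)) := by
  obtain ⟨z, hz, Q, hQn, hF, hE, hQc, ⟨e⟩, -⟩ := Cfsg.Agent.S5388.result
  subst hF
  have hL := Cfsg.Agent.LargeExtra.Base.large_of_genFitting z hz hE
  refine ⟨z, hz, (large_tran hL).1, ?_⟩
  have h1 := (Cfsg.generalizedFittingSubgroup (centralizer ({z} : Set Cfsg.Spor.Co1))).card_mul_index
  rw [hQc, index_eq_card, Nat.card_congr e.toEquiv, Cfsg.Agent.LargeExtra.Cards.card_omega_plus_eight] at h1
  rw [← h1]
  norm_num

/-! ### `U₇(2)` -/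

open Cfsg Cfsg.Agent.LieClassical.HermBasic Cfsg.Agent.LieClassical.HermSiegel
  Cfsg.Agent.LieClassical.HermGen Cfsg.Agent.LieClassical.SUBasic
  Cfsg.Agent.ClassicalGeometry.PSUAutBasic Cfsg.Agent.KFacts.Unit Cfsg.Agent.KFacts.Unit.SheetTwo

theorem eleven_dvd_SU {F : Type} [Field F] [Fintype F] (hF : Fintype.card F = 2 ^ 2) : 11 ∣ Nat.card (SU 5 F 2) := by
  have h1 := Cfsg.Agent.S0280.result (F := F) (q := 2) hF 5 (by norm_num)
  have e1 : Nat.gcd 5 (2 + 1) = 1 := by decide
  have e2 : 2 ^ (5 * (5 - 1) / 2) * ∏ i ∈ Finset.range 5,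
      (if Even i then 2 ^ (i + 1) + 1 else 2 ^ (i + 1) - 1) = 11 * 3732480 := by decide
  rw [e1, e2, one_mul] at h1
  have h2 : 11 ∣ Nat.card (PSU 5 F 2) := by
    have h3 : 11 ∣ (2 + 1) * Nat.card (PSU 5 F 2) := ⟨_, h1⟩
    exact (by norm_num : Nat.Coprime 11 (2 + 1)).dvd_of_dvd_mul_left h3
  exact h2.trans (card_dvd_of_surjective (pr 5 F 2) pr_surjective)

theorem psu7_cent {F : Type} [Field F] [Fintype F] (hF : Fintype.card F = 2 ^ 2) : ∃ u : PSU 7 F 2, orderOf u = 2 ∧
    (∃ P : Sylow 2 (PSU 7 F 2), (P : Subgroup (PSU 7 F 2)) ≤ centralizer ({u} : Set (PSU 7 F 2))) ∧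
    11 ∣ Nat.card (centralizer ({u} : Set (PSU 7 F 2))) := by
  classical
  have hch : CharP F 2 := by
    obtain ⟨p, hp⟩ := CharP.exists F
    obtain ⟨n, hpp, hn⟩ := FiniteField.card F p
    rw [hF] at hn
    have h1 : p ∣ 2 := hpp.dvd_of_dvd_pow (n := 2) (by rw [hn]; exact dvd_pow_self p n.ne_zero)
    rwa [(Nat.prime_dvd_prime_iff_eq hpp Nat.prime_two).1 h1] at hp
  let v : Fin (5 + 2) → F := Fin.append 0 (fun _ => 1)
  have hv1 : ∀ i, v (Fin.castAdd 2 i) = 0 := fun i => by
    show Fin.append (0 : Fin 5 → F) (fun _ => 1) (Fin.castAdd 2 i) = 0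
    rw [Fin.append_left]; rfl
  have hv2 : ∀ i, v (Fin.natAdd 5 i) = 1 := fun i => by
    show Fin.append (0 : Fin 5 → F) (fun _ => 1) (Fin.natAdd 5 i) = 1
    rw [Fin.append_right]
  have hv0 : v ≠ 0 := by
    intro h
    have h1 := hv2 0
    rw [h] at h1
    exact zero_ne_one h1
  have hvv : hermForm (5 + 2) F 2 v v = 0 := by
    rw [herm_split]
    simp only [hv1, hv2]
    have h1 : hermForm 5 F 2 (fun _ => (0 : F)) (fun _ => 0) = 0 := by
      exact herm_zero_left _
    rw [h1, zero_add, Fin.sum_univ_two]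
    simp only [one_pow, mul_one]
    exact CharTwo.add_self_eq_zero 1
  have hz := Fact.mk Nat.prime_two
  refine ⟨zt hF hvv, orderOf_eq_prime (by rw [pow_two]; exact zt_sq hF hvv) (zt_ne hF (by norm_num) hv0 hvv), ?_, ?_⟩
  · obtain ⟨P, -, hP, -⟩ := syl hF (by norm_num) hv0 hvv
    exact ⟨P, fun x hx => mem_centralizer_singleton_iff.2 (hP x hx)⟩
  · have h11 := Fact.mk (show Nat.Prime 11 by norm_num)
    obtain ⟨g, hg⟩ := exists_prime_orderOf_dvd_card' 11 (eleven_dvd_SU hF)
    have hfix : act (emb 2 g) v = v := emb_fix g hv1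
    have hcg : hermForm (5 + 2) F 2 (act (emb 2 g) v) (act (emb 2 g) v) = 0 := by rw [hfix]; exact hvv
    have h1 := conj_zt hF hvv (emb 2 g) hcg
    have h2 : ∀ (u' : Fin (5 + 2) → F) (h' : hermForm (5 + 2) F 2 u' u' = 0), u' = v → zt hF h' = zt hF hvv := by
      rintro u' h' rfl; rfl
    rw [h2 _ hcg hfix] at h1
    have h3 : pr (5 + 2) F 2 (emb 2 g) ∈ centralizer ({zt hF hvv} : Set (PSU 7 F 2)) := by
      rw [mem_centralizer_singleton_iff]
      exact mul_inv_eq_iff_eq_mul.1 h1
    have h4 : pr (5 + 2) F 2 (emb 2 g) ≠ 1 := by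
      intro h5
      obtain ⟨c, -, -, hc⟩ := exists_scalar_of_mem_center hF (by norm_num) (pr_eq_one_iff.1 h5)
      have h6 : (1 : F) = c := by
        have h7 := congrFun (hc v) (Fin.natAdd 5 0)
        rw [hfix, Pi.smul_apply, hv2, smul_eq_mul, mul_one] at h7
        exact h7
      have h7 : emb 2 g = 1 := by
        apply ext_act
        intro w
        rw [hc, ← h6, one_smul, act_one]
      have h8 : g = 1 := emb_injective (d := 2) (by rw [h7, map_one])
      rw [h8, orderOf_one] at hg
      omega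
    have h5 : orderOf (pr (5 + 2) F 2 (emb 2 g)) = 11 := by
      apply orderOf_eq_prime _ h4
      rw [← map_pow, ← map_pow, ← hg, pow_orderOf_eq_one, map_one, map_one]
    have h6 := orderOf_dvd_natCard (⟨_, h3⟩ : centralizer ({zt hF hvv} : Set (PSU 7 F 2)))
    rw [Subgroup.orderOf_mk] at h6
    rw [← h5]
    exact h6

end Cfsg.Agent.H816.Elim
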