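import Cfsg.Agent.S3035
import Cfsg.Agent.Lib.Dihedral
import Cfsg.Agent.Lib.Cores
import Mathlib
import Cfsg.Agent.BM.StageWRel_m3
import Cfsg.Agent.BMx.Low
import Cfsg.Agent.BabyM.Instance
import Cfsg.Agent.Schreier.CoTwoStab
import Cfsg.Agent.H966.Gen.CoTwo
import Cfsg.Agent.FastGrp
import Cfsg.Agent.Prune
set_option linter.all false
prune_inst 0x7f00000000000000000000000000000000000000000000000000000000000000000000000000000000000000000000000000000000000000000000000000000000000000000000000000000000000000003fffffffffffffffffffffffffffbeffbdffffffff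
open scoped Cfsg.Agent.FastGrp

-- part: H816/CPAbs
section
/-!
# Recognition of `C_G(p) = ⟨p⟩ × S₅` for an element `p` of order 11 (helper816)
-/

set_option autoImplicit false

namespace Cfsg.Agent.H816.CPAbs

open Subgroup

/-- `A₆` has no element of order six. -/
theorem no_six_a6 : ∀ g : Equiv.Perm (Fin 6), Equiv.Perm.sign g = 1 → g ^ 6 = 1 → g ^ 2 = 1 ∨ g ^ 3 = 1 := by
  intro g hs h6
  have h1 := Equiv.Perm.sign_of_cycleType g
  have h2 : g.cycleType.sum ≤ 6 := Equiv.Perm.sum_cycleType_le g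
  have h3 : ∀ n ∈ g.cycleType, 2 ≤ n := fun n hn => Equiv.Perm.two_le_of_mem_cycleType hn
  have h4 : ∀ n ∈ g.cycleType, n ∣ 6 := fun n hn => (Equiv.Perm.dvd_of_mem_cycleType hn).trans (orderOf_dvd_of_pow_eq_one h6)
  have h5 : Even (g.cycleType.sum + Multiset.card g.cycleType) := by
    rw [hs] at h1
    exact (neg_one_pow_eq_one_iff_even (by decide)).1 h1.symm
  rw [← orderOf_dvd_iff_pow_eq_one, ← orderOf_dvd_iff_pow_eq_one, ← Equiv.Perm.lcm_cycleType, Multiset.lcm_dvd, Multiset.lcm_dvd]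
  generalize g.cycleType = m at h2 h3 h4 h5
  by_contra hc
  push Not at hc
  obtain ⟨⟨a, ha, ha2⟩, ⟨b, hb, hb3⟩⟩ := hc
  have key : ∀ (c : ℕ) (t : Multiset ℕ), (∀ n ∈ t, 2 ≤ n) → c + t.sum ≤ c + 1 → t = 0 := fun c t ht hl =>
    Multiset.eq_zero_of_forall_notMem fun n hn => by
      have := Multiset.single_le_sum (fun _ _ => Nat.zero_le _) n hn
      have := ht n hn
      omega
  obtain ⟨t, rfl⟩ := Multiset.exists_cons_of_mem ha
  have a1 := h3 a ha
  have a2 := Nat.le_of_dvd (by norm_num) (h4 a ha)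
  have a3 := h4 a ha
  have b1 := h3 b hb
  have b2 := Nat.le_of_dvd (by norm_num) (h4 b hb)
  have b3 := h4 b hb
  rw [Multiset.sum_cons] at h2
  rcases Multiset.mem_cons.1 hb with rfl | hb'
  · obtain rfl : b = 6 := by interval_cases b <;> simp_all
    obtain rfl := key 0 t (fun n hn => h3 n (Multiset.mem_cons_of_mem hn)) (by omega)
    exact absurd h5 (by decide)
  · obtain ⟨u, rfl⟩ := Multiset.exists_cons_of_mem hb'
    rw [Multiset.sum_cons] at h2
    obtain ⟨rfl, rfl⟩ : a = 3 ∧ b = 2 := by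
      interval_cases a <;> interval_cases b <;> first | exact ⟨rfl, rfl⟩ | omega
    obtain rfl := key 0 u (fun n hn => h3 n (Multiset.mem_cons_of_mem (Multiset.mem_cons_of_mem hn))) (by omega)
    exact absurd h5 (by decide)

/-- Transport of `no_six`. -/
theorem no_six_equiv {K H : Type*} [Group K] [Group H] (e : K ≃* H)
    (h : ∀ g : H, g ^ 6 = 1 → g ^ 2 = 1 ∨ g ^ 3 = 1) : ∀ g : K, orderOf g ≠ 6 := by
  intro g hg
  have h6 : (e g) ^ 6 = 1 := by rw [← map_pow, ← hg, pow_orderOf_eq_one, map_one]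
  rcases h (e g) h6 with h1 | h1
  · rw [← map_pow, map_eq_one_iff e e.injective] at h1
    have := orderOf_dvd_of_pow_eq_one h1
    rw [hg] at this
    norm_num at this
  · rw [← map_pow, map_eq_one_iff e e.injective] at h1
    have := orderOf_dvd_of_pow_eq_one h1
    rw [hg] at this
    norm_num at this

theorem no_six_a6' : ∀ g : ↥(alternatingGroup (Fin 6)), g ^ 6 = 1 → g ^ 2 = 1 ∨ g ^ 3 = 1 := by
  intro g hg
  have h1 : (g : Equiv.Perm (Fin 6)) ^ 6 = 1 := by
    rw [← SubgroupClass.coe_pow, hg]; rfl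
  rcases no_six_a6 g (Equiv.Perm.mem_alternatingGroup.1 g.2) h1 with h2 | h2
  · exact Or.inl (Subtype.ext (by rw [SubgroupClass.coe_pow]; exact h2))
  · exact Or.inr (Subtype.ext (by rw [SubgroupClass.coe_pow]; exact h2))

theorem not_five {K : Type*} [Group K] [Finite K] {w : K} (hw : orderOf w = 5) {n : ℕ} (hn : Nat.card K = n)
    (h : ¬ 5 ∣ n) : False := h (by rw [← hn, ← hw]; exact orderOf_dvd_natCard w)

/-- A group with an involution whose centralizer is dihedral of order 8, an element of order 6 and an element `t` of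
order 3 moving `z` inside a 2-subgroup is `S₅`. -/
theorem equiv_s5 {K : Type*} [Group K] [Finite K] {z r s t v w : K} (hr : orderOf r = 4) (hs : s * s = 1)
    (hsr : s * r * s = r⁻¹) (hs' : s ∉ zpowers r) (hz : z = r ^ 2)
    (hC : ∀ g : K, g * z = z * g → g ∈ closure {r, s}) (ht : t ^ 3 = 1)
    (htz : t * z * t⁻¹ ∈ closure {r, s}) (htz' : t * z * t⁻¹ ≠ z) (hv : orderOf v = 6)
    (hw : orderOf w = 5) : Nonempty (K ≃* Equiv.Perm (Fin 5)) := by
  have hz2 : orderOf z = 2 := by
    rw [hz, orderOf_pow, hr]; norm_num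
  have hsz : s * z = z * s := by
    have h1 : s * r ^ 2 * s = (r ^ 2)⁻¹ := by
      calc s * r ^ 2 * s = (s * r * s) * (s * r * s) := by
            rw [pow_two]; simp only [mul_assoc]
            rw [← mul_assoc s s, hs, one_mul]
        _ = (r ^ 2)⁻¹ := by rw [hsr, pow_two, mul_inv_rev]
    have h2 : (r ^ 2)⁻¹ = r ^ 2 := by
      rw [inv_eq_iff_mul_eq_one, ← pow_add, show 2 + 2 = orderOf r by rw [hr], pow_orderOf_eq_one]
    rw [h2] at h1
    rw [hz]
    calc s * r ^ 2 = s * r ^ 2 * (s * s) := by rw [hs, mul_one]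
      _ = r ^ 2 * s := by rw [← mul_assoc, h1]
  have hrz : r * z = z * r := by rw [hz, pow_two, mul_assoc]
  have hcard : Nat.card (closure ({r, s} : Set K)) = 8 :=
    Cfsg.Agent.Lib.Dihedral.card_closure r s hr hs hsr hs'
  have hCeq : centralizer ({z} : Set K) = closure {r, s} := by
    apply le_antisymm
    · intro g hg
      exact hC g (mem_centralizer_singleton_iff.1 hg)
    · rw [closure_le]
      rintro x (rfl | hx)
      · exact mem_centralizer_singleton_iff.2 hrz
      · rw [Set.mem_singleton_iff] at hx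
        subst hx
        exact mem_centralizer_singleton_iff.2 hsz
  have hD : Nonempty (↥(centralizer ({z} : Set K)) ≃* DihedralGroup 4) := by
    rw [hCeq]
    exact Cfsg.Agent.Lib.Dihedral.nonempty_mulEquiv_closure r s hr hs hsr hs'
  rcases Cfsg.Agent.S3035.result z hz2 hD with h | ⟨⟨e⟩⟩ | h | ⟨⟨e⟩⟩ | ⟨⟨e⟩⟩
  · exfalso
    have hN : (Cfsg.oddCore K).Normal := Cfsg.Agent.Lib.Cores.pPrimeCore_normal 2
    have hodd : (Nat.card (Cfsg.oddCore K)).Coprime 2 := Cfsg.Agent.Lib.Cores.pPrimeCore_coprime 2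
    -- `t` is in the core
    have ht1 : t ∈ Cfsg.oddCore K := by
      have h1 : t ∈ centralizer ({z} : Set K) ⊔ Cfsg.oddCore K := by rw [h]; trivial
      obtain ⟨c, hc, o, ho, rfl⟩ := mem_sup_of_normal_right.1 h1
      have h2 : c ^ 8 = 1 := by
        rw [hCeq] at hc
        have := pow_card_eq_one' (x := (⟨c, hc⟩ : closure ({r, s} : Set K)))
        rw [hcard] at this
        exact congrArg Subtype.val this
      have h3 : (QuotientGroup.mk (c * o) : K ⧸ Cfsg.oddCore K) = QuotientGroup.mk c := by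
        rw [QuotientGroup.eq]
        have : (c * o)⁻¹ * c = o⁻¹ := by group
        rw [this]
        exact inv_mem ho
      have h4 : (QuotientGroup.mk (c * o) : K ⧸ Cfsg.oddCore K) ^ 8 = 1 := by
        rw [h3, ← QuotientGroup.mk_pow, h2]; rfl
      have h5 : (QuotientGroup.mk (c * o) : K ⧸ Cfsg.oddCore K) ^ 3 = 1 := by
        rw [← QuotientGroup.mk_pow, ht]; rfl
      have h6 : (QuotientGroup.mk (c * o) : K ⧸ Cfsg.oddCore K) = 1 := by
        have e9 : (QuotientGroup.mk (c * o) : K ⧸ Cfsg.oddCore K) ^ 9 = 1 := by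
          rw [show 9 = 3 * 3 from rfl, pow_mul, h5, one_pow]
        rw [pow_succ, h4, one_mul] at e9
        exact e9
      exact (QuotientGroup.eq_one_iff _).1 h6
    have h7 : t * z * t⁻¹ * z⁻¹ ∈ Cfsg.oddCore K := by
      have : t * z * t⁻¹ * z⁻¹ = t * (z * t⁻¹ * z⁻¹) := by group
      rw [this]
      exact mul_mem ht1 (hN.conj_mem _ (inv_mem ht1) z)
    have h8 : t * z * t⁻¹ * z⁻¹ ∈ closure ({r, s} : Set K) := by
      refine mul_mem htz (inv_mem ?_)
      rw [hz]
      exact pow_mem (subset_closure (by simp)) 2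
    have h9 : t * z * t⁻¹ * z⁻¹ = 1 := by
      rw [← orderOf_eq_one_iff]
      have e1 : orderOf (t * z * t⁻¹ * z⁻¹) ∣ Nat.card (Cfsg.oddCore K) := by
        have := orderOf_dvd_natCard (⟨_, h7⟩ : Cfsg.oddCore K)
        rwa [orderOf_mk] at this
      have e2 : orderOf (t * z * t⁻¹ * z⁻¹) ∣ 8 := by
        have := orderOf_dvd_natCard (⟨_, h8⟩ : closure ({r, s} : Set K))
        rwa [orderOf_mk, hcard] at this
      have e3 : (Nat.card (Cfsg.oddCore K)).Coprime 8 := by
        rw [show 8 = 2 ^ 3 from rfl]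
        exact Nat.Coprime.pow_right 3 hodd
      exact Nat.dvd_one.1 (e3.gcd_eq_one ▸ Nat.dvd_gcd e1 e2)
    exact htz' (mul_inv_eq_one.1 h9)
  · refine (not_five hw (n := 24) ?_ (by norm_num)).elim
    rw [Nat.card_congr e.toEquiv, Nat.card_eq_fintype_card, Fintype.card_perm, Fintype.card_fin]; rfl
  · exact h
  · refine (not_five hw (n := 168) ?_ (by norm_num)).elim
    rw [Nat.card_congr e.toEquiv, Cfsg.Agent.S3035.card_sl]
  · exact absurd hv (no_six_equiv e no_six_a6' v)

/-- **Recognition of `C_G(p) = ⟨p⟩ × S₅`.** -/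
theorem main {G : Type*} [Group G] [Finite G] {p z r s t v w : G} (hp : orderOf p = 11)
    (h11 : ¬ 121 ∣ Nat.card G) (hr : orderOf r = 4) (hs : s * s = 1)
    (hsr : s * r * s = r⁻¹) (hs' : s ∉ zpowers r) (hz : z = r ^ 2) (hrp : r * p = p * r) (hsp : s * p = p * s)
    (hC : ∀ g : G, g * p = p * g → g * z = z * g → ∃ n : ℕ, ∃ f ∈ closure ({r, s} : Set G), g = p ^ n * f)
    (ht : t ^ 3 = 1) (htp : t * p = p * t)
    (htz : t * z * t⁻¹ ∈ closure {r, s}) (htz' : t * z * t⁻¹ ≠ z) (hv : orderOf v = 6) (hvp : v * p = p * v)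
    (hw : orderOf w = 5) (hwp : w * p = p * w) :
    ∃ K : Subgroup G, Nonempty (K ≃* Equiv.Perm (Fin 5)) ∧ (∀ k ∈ K, k * p = p * k) ∧
      ∀ g : G, g * p = p * g → ∃ k ∈ K, ∃ n : ℕ, g = p ^ n * k := by
  classical
  set C : Subgroup G := centralizer ({p} : Set G) with hCdef
  have mC : ∀ {g : G}, g ∈ C ↔ g * p = p * g := mem_centralizer_singleton_iff
  have hpC : p ∈ C := mC.2 rfl
  let p' : C := ⟨p, hpC⟩
  have hp' : orderOf p' = 11 := by rw [orderOf_mk, hp]
  let P : Subgroup C := zpowers p'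
  have hPc : ∀ g : C, g * p' = p' * g := fun g => Subtype.ext (mC.1 g.2)
  have hPn : P.Normal := by
    refine ⟨fun x hx g => ?_⟩
    obtain ⟨n, rfl⟩ := mem_zpowers_iff.1 hx
    have h1 : Commute g (p' ^ n) := (show Commute g p' from hPc g).zpow_right n
    rw [h1.eq, mul_inv_cancel_right]
    exact zpow_mem (mem_zpowers _) n
  have hPcard : Nat.card P = 11 := by rw [Nat.card_zpowers, hp']
  have hcop : Nat.Coprime (Nat.card P) P.index := by
    rw [hPcard]
    refine (Nat.Prime.coprime_iff_not_dvd (by norm_num)).2 fun hd => h11 ?_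
    have h1 : 11 * 11 ∣ Nat.card C := by
      rw [← card_mul_index P, hPcard]
      exact mul_dvd_mul_left 11 hd
    exact dvd_trans h1 (card_subgroup_dvd_card C)
  obtain ⟨K', hK'⟩ := exists_right_complement'_of_coprime hcop
  -- every element is a product
  have hdec : ∀ g : C, ∃ n : ℕ, ∃ k ∈ K', g = p' ^ n * k := by
    intro g
    have h1 : g ∈ P ⊔ K' := by rw [hK'.sup_eq_top]; trivial
    obtain ⟨x, hx, k, hk, rfl⟩ := mem_sup_of_normal_left.1 h1
    obtain ⟨n, rfl⟩ := (mem_zpowers_iff_mem_range_orderOf.trans Finset.mem_image).1 hx |>.imp fun n h => h.2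
    exact ⟨n, k, hk, rfl⟩
  -- criterion for membership
  have hmem : ∀ (g : C) (m : ℕ), Nat.Coprime 11 m → g ^ m = 1 → g ∈ K' := by
    intro g m hm hg
    obtain ⟨n, k, hk, rfl⟩ := hdec g
    have hcomm : Commute (p' ^ n) k := (show Commute p' k from (hPc k).symm).pow_left n
    rw [hcomm.mul_pow] at hg
    have h1 : (p' ^ n) ^ m ∈ K' := by
      rw [eq_inv_of_mul_eq_one_left hg]
      exact inv_mem (pow_mem hk m)
    have h2 : (p' ^ n) ^ m ∈ P := pow_mem (pow_mem (mem_zpowers _) n) m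
    have h3 : (p' ^ n) ^ m = 1 := by
      have := hK'.disjoint.le_bot (mem_inf.2 ⟨h2, h1⟩)
      exact mem_bot.1 this
    rw [← pow_mul] at h3
    have h4 := orderOf_dvd_of_pow_eq_one h3
    rw [hp'] at h4
    have h5 : 11 ∣ n := hm.dvd_of_dvd_mul_right h4
    obtain ⟨j, rfl⟩ := h5
    rw [pow_mul, ← hp', pow_orderOf_eq_one, one_pow, one_mul]
    exact hk
  have hKdisj : ∀ (n : ℕ), p' ^ n ∈ K' → p' ^ n = 1 := fun n h =>
    mem_bot.1 (hK'.disjoint.le_bot (mem_inf.2 ⟨pow_mem (mem_zpowers _) n, h⟩))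
  have hzp : z * p = p * z := by
    rw [hz]
    exact ((show Commute r p from hrp).pow_left 2).eq
  -- the elements in `K'`
  let rC : C := ⟨r, mC.2 hrp⟩
  let sC : C := ⟨s, mC.2 hsp⟩
  let tC : C := ⟨t, mC.2 htp⟩
  let vC : C := ⟨v, mC.2 hvp⟩
  let wC : C := ⟨w, mC.2 hwp⟩
  have hrK : rC ∈ K' := hmem rC 4 (by norm_num) (Subtype.ext (by
    show r ^ 4 = 1
    rw [← hr, pow_orderOf_eq_one]))
  have hsK : sC ∈ K' := hmem sC 2 (by norm_num) (Subtype.ext (by
    show s ^ 2 = 1
    rw [pow_two, hs]))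
  have htK : tC ∈ K' := hmem tC 3 (by norm_num) (Subtype.ext ht)
  have hvK : vC ∈ K' := hmem vC 6 (by norm_num) (Subtype.ext (by
    show v ^ 6 = 1
    rw [← hv, pow_orderOf_eq_one]))
  have hwK : wC ∈ K' := hmem wC 5 (by norm_num) (Subtype.ext (by
    show w ^ 5 = 1
    rw [← hw, pow_orderOf_eq_one]))
  let rK : K' := ⟨rC, hrK⟩
  let sK : K' := ⟨sC, hsK⟩
  let tK : K' := ⟨tC, htK⟩
  let vK : K' := ⟨vC, hvK⟩
  let wK : K' := ⟨wC, hwK⟩
  let φ : K' →* G := C.subtype.comp K'.subtype
  have hφ : Function.Injective φ := fun a b h => Subtype.ext (Subtype.ext h)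
  have hcl : ∀ x : K', φ x ∈ closure ({r, s} : Set G) → x ∈ closure ({rK, sK} : Set K') := by
    intro x hx
    have h1 : closure ({r, s} : Set G) = (closure ({rK, sK} : Set K')).map φ := by
      rw [MonoidHom.map_closure, Set.image_pair]
      rfl
    rw [h1] at hx
    obtain ⟨y, hy, hyx⟩ := hx
    rw [← hφ hyx]
    exact hy
  have e5 : Nonempty (K' ≃* Equiv.Perm (Fin 5)) := by
    refine equiv_s5 (z := rK ^ 2) (r := rK) (s := sK) (t := tK) (v := vK) (w := wK) ?_ ?_ ?_ ?_ rfl ?_ ?_ ?_ ?_ ?_ ?_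
    · rw [← orderOf_injective φ hφ rK]
      exact hr
    · exact hφ hs
    · exact hφ hsr
    · intro h
      obtain ⟨n, hn⟩ := mem_zpowers_iff.1 h
      apply hs'
      rw [mem_zpowers_iff]
      refine ⟨n, ?_⟩
      have := congrArg φ hn
      rw [map_zpow] at this
      exact this
    · intro g hg
      apply hcl
      have h1 : φ g * p = p * φ g := mC.1 (g : C).2
      have h2 : φ g * z = z * φ g := by
        have := congrArg φ hg
        rw [map_mul, map_mul, map_pow] at this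
        rw [hz]
        exact this
      obtain ⟨n, f, hf, hgf⟩ := hC (φ g) h1 h2
      -- `p ^ n ∈ K'`
      have hf8 : f ^ 8 = 1 := by
        have := pow_card_eq_one' (x := (⟨f, hf⟩ : closure ({r, s} : Set G)))
        rw [Cfsg.Agent.Lib.Dihedral.card_closure r s hr hs hsr hs'] at this
        exact congrArg Subtype.val this
      have hfp : f * p = p * f := by
        have hle : closure ({r, s} : Set G) ≤ C := by
          rw [closure_le]
          rintro x (rfl | hx)
          · exact mC.2 hrp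
          · rw [Set.mem_singleton_iff] at hx
            subst hx
            exact mC.2 hsp
        exact mC.1 (hle hf)
      have hfK : (⟨f, mC.2 hfp⟩ : C) ∈ K' := hmem _ 8 (by norm_num) (Subtype.ext hf8)
      have hgC : (g : C) = p' ^ n * ⟨f, mC.2 hfp⟩ := Subtype.ext hgf
      have hpn : p' ^ n ∈ K' := by
        have h3 : p' ^ n = (g : C) * (⟨f, mC.2 hfp⟩ : C)⁻¹ := by rw [hgC, mul_inv_cancel_right]
        rw [h3]
        exact mul_mem g.2 (inv_mem hfK)
      have h4 := hKdisj n hpn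
      have h5 : p ^ n = 1 := congrArg Subtype.val h4
      rw [h5, one_mul] at hgf
      rw [hgf]
      exact hf
    · exact hφ ht
    · apply hcl
      rw [map_mul, map_mul, map_inv, map_pow]
      rw [hz] at htz
      exact htz
    · intro h
      apply htz'
      have := congrArg φ h
      rw [map_mul, map_mul, map_inv, map_pow] at this
      rw [hz]
      exact this
    · rw [← orderOf_injective φ hφ vK]
      exact hv
    · rw [← orderOf_injective φ hφ wK]
      exact hw
  refine ⟨K'.map C.subtype, ?_, ?_, ?_⟩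
  · obtain ⟨e⟩ := e5
    exact ⟨(K'.equivMapOfInjective C.subtype C.subtype_injective).symm.trans e⟩
  · rintro k ⟨k', -, rfl⟩
    exact mC.1 k'.2
  · intro g hg
    obtain ⟨n, k, hk, hgk⟩ := hdec ⟨g, mC.2 hg⟩
    exact ⟨k, ⟨k, hk, rfl⟩, n, congrArg Subtype.val hgk⟩

end Cfsg.Agent.H816.CPAbs
end

-- part: H816/CPNorm
section
/-!
# Elements of an extraspecial-like group commuting with an element of order 11 (helper816)

`Q` with a central involution `z` such that `Q/⟨z⟩` is commutative, `p` of order 11 normalizing `Q`: if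
`(s p) ^ 11 ∈ D` for generators `s` of `Q` then the elements of `Q` commuting with `p` are in `D`.

`card_le` : the centralizer of an element of order 11 whose normalizer is of order at most 110 and induces ten
automorphisms.
-/

set_option autoImplicit false

namespace Cfsg.Agent.H816.CPNorm

variable {G : Type*} [Group G]

/-- The data. -/
structure Hyp (Q D : Subgroup G) (S : Set G) (p z : G) : Prop where
  S_le : Q = Subgroup.closure S
  z_sq : z * z = 1
  z_D : z ∈ D
  z_comm : ∀ q ∈ Q, q * z = z * q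
  pz : p * z = z * p
  comm : ∀ x ∈ Q, ∀ y ∈ Q, x * y = y * x ∨ x * y = y * x * z
  sq : ∀ x ∈ Q, x * x = 1 ∨ x * x = z
  norm : ∀ q ∈ Q, p * q * p⁻¹ ∈ Q
  p_pow : p ^ 11 = 1
  gen : ∀ s ∈ S, (s * p) ^ 11 ∈ D

variable {Q D : Subgroup G} {S : Set G} {p z : G}

/-- the partial norm -/
def nm (p q : G) : ℕ → G
  | 0 => 1
  | n + 1 => nm p q n * (p ^ n * q * (p ^ n)⁻¹)

theorem mul_pow_eq (p q : G) (n : ℕ) : (q * p) ^ n = nm p q n * p ^ n := by
  induction n with
  | zero => simp [nm]
  | succ n ih =>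
    rw [pow_succ, ih, nm, pow_succ]
    group

namespace Hyp

variable (h : Hyp Q D S p z)
include h

theorem conj_mem (n : ℕ) : ∀ q ∈ Q, p ^ n * q * (p ^ n)⁻¹ ∈ Q := by
  induction n with
  | zero => intro q hq; simpa using hq
  | succ n ih =>
    intro q hq
    have e : p ^ (n + 1) * q * (p ^ (n + 1))⁻¹ = p ^ n * (p * q * p⁻¹) * (p ^ n)⁻¹ := by
      rw [pow_succ]; group
    rw [e]
    exact ih _ (h.norm q hq)

theorem nm_mem {q : G} (hq : q ∈ Q) (n : ℕ) : nm p q n ∈ Q := by
  induction n with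
  | zero => exact one_mem _
  | succ n ih => exact mul_mem ih (h.conj_mem n q hq)

theorem nm_eq (q : G) : nm p q 11 = (q * p) ^ 11 := by rw [mul_pow_eq, h.p_pow, mul_one]

theorem nm_mul {a b : G} (ha : a ∈ Q) (hb : b ∈ Q) (n : ℕ) :
    nm p (a * b) n = nm p a n * nm p b n ∨ nm p (a * b) n = nm p a n * nm p b n * z := by
  induction n with
  | zero => left; simp [nm]
  | succ n ih =>
    have e : p ^ n * (a * b) * (p ^ n)⁻¹ = (p ^ n * a * (p ^ n)⁻¹) * (p ^ n * b * (p ^ n)⁻¹) := by group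
    have h1 := h.comm _ (h.nm_mem hb n) _ (h.conj_mem n a ha)
    have h2 := h.z_comm _ (h.conj_mem n a ha)
    have h3 := h.z_comm _ (h.conj_mem n b hb)
    have key : nm p a n * nm p b n * ((p ^ n * a * (p ^ n)⁻¹) * (p ^ n * b * (p ^ n)⁻¹)) =
        nm p a (n + 1) * nm p b (n + 1) ∨
        nm p a n * nm p b n * ((p ^ n * a * (p ^ n)⁻¹) * (p ^ n * b * (p ^ n)⁻¹)) =
        nm p a (n + 1) * nm p b (n + 1) * z := by
      show _ = nm p a n * (p ^ n * a * (p ^ n)⁻¹) * (nm p b n * (p ^ n * b * (p ^ n)⁻¹)) ∨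
        _ = nm p a n * (p ^ n * a * (p ^ n)⁻¹) * (nm p b n * (p ^ n * b * (p ^ n)⁻¹)) * z
      generalize nm p a n = A at *
      generalize nm p b n = B at *
      generalize p ^ n * a * (p ^ n)⁻¹ = a' at *
      generalize p ^ n * b * (p ^ n)⁻¹ = b' at *
      rcases h1 with h1 | h1
      · left
        calc A * B * (a' * b') = A * (B * a') * b' := by simp only [mul_assoc]
          _ = A * a' * (B * b') := by rw [h1]; simp only [mul_assoc]
      · right
        calc A * B * (a' * b') = A * (B * a') * b' := by simp only [mul_assoc]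
          _ = A * a' * B * (z * b') := by rw [h1]; simp only [mul_assoc]
          _ = A * a' * (B * b') * z := by rw [← h3]; simp only [mul_assoc]
    have hz' : z * (p ^ n * a * (p ^ n)⁻¹ * (p ^ n * b * (p ^ n)⁻¹)) =
        p ^ n * a * (p ^ n)⁻¹ * (p ^ n * b * (p ^ n)⁻¹) * z := by
      have h2' := h.z_comm _ (mul_mem (h.conj_mem n a ha) (h.conj_mem n b hb))
      exact h2'.symm
    rw [show nm p (a * b) (n + 1) = nm p (a * b) n * (p ^ n * (a * b) * (p ^ n)⁻¹) from rfl, e]
    rcases ih with ih | ih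
    · rw [ih]; exact key
    · rw [ih, mul_assoc _ z, hz', ← mul_assoc _ _ z]
      rcases key with k | k
      · right; rw [k]
      · left; rw [k, mul_assoc, h.z_sq, mul_one]

theorem mem_D_mul {a b c : G} (ha : a ∈ D) (hb : b ∈ D) (hc : c = a * b ∨ c = a * b * z) : c ∈ D := by
  rcases hc with rfl | rfl
  · exact mul_mem ha hb
  · exact mul_mem (mul_mem ha hb) h.z_D

/-- The norm of every element is in `D`. -/
theorem all_mem : ∀ q ∈ Q, nm p q 11 ∈ D := by
  intro q hq
  rw [h.S_le] at hq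
  induction hq using Subgroup.closure_induction with
  | mem x hx => rw [h.nm_eq]; exact h.gen x hx
  | one => rw [h.nm_eq, one_mul, h.p_pow]; exact one_mem _
  | mul a b ha hb iha ihb =>
    rw [← h.S_le] at ha hb
    exact h.mem_D_mul iha ihb (h.nm_mul ha hb 11)
  | inv a ha iha =>
    rw [← h.S_le] at ha
    have h1 := h.nm_mul ha (inv_mem ha) 11
    rw [mul_inv_cancel, h.nm_eq 1, one_mul, h.p_pow] at h1
    rcases h1 with h1 | h1
    · have : nm p a⁻¹ 11 = (nm p a 11)⁻¹ := (inv_eq_of_mul_eq_one_right h1.symm).symm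
      rw [this]; exact inv_mem iha
    · have h2 : nm p a⁻¹ 11 * z = (nm p a 11)⁻¹ :=
        (inv_eq_of_mul_eq_one_right (by rw [← mul_assoc]; exact h1.symm)).symm
      have h3 : nm p a⁻¹ 11 = (nm p a 11)⁻¹ * z := by
        rw [← h2, mul_assoc, h.z_sq, mul_one]
      rw [h3]
      exact mul_mem (inv_mem iha) h.z_D

/-- **The elements of `Q` commuting with `p` are in `D`.** -/
theorem mem_D {q : G} (hq : q ∈ Q) (hqp : q * p = p * q) : q ∈ D := by
  have h1 := h.all_mem q hq
  rw [h.nm_eq, (show Commute q p from hqp).mul_pow, h.p_pow, mul_one] at h1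
  have h4 : q ^ 4 = 1 := by
    rw [show 4 = 2 * 2 from rfl, pow_mul, pow_two q]
    rcases h.sq q hq with h2 | h2
    · rw [h2, one_pow]
    · rw [h2, pow_two, h.z_sq]
  have h5 : q = (q ^ 11)⁻¹ := by
    rw [eq_inv_iff_mul_eq_one, ← pow_succ', show 11 + 1 = 4 * 3 from rfl, pow_mul, h4, one_pow]
  rw [h5]
  exact inv_mem h1

end Hyp

section card

open Subgroup

/-- The centralizer of an element of order 11 whose normalizer has order at most 110 and induces ten automorphisms. -/
theorem cent_eq [Finite G] {x n : G} (hx : orderOf x = 11) (hN : Nat.card (normalizer (zpowers x : Set G)) ≤ 110)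
    (hn : n * x = x ^ 6 * n) : ∀ g : G, g * x = x * g → g ∈ zpowers x := by
  classical
  have hconj : ∀ i : ℕ, n ^ i * x * (n ^ i)⁻¹ = x ^ (6 ^ i) := by
    intro i
    induction i with
    | zero => simp
    | succ i ih =>
      have e : n ^ (i + 1) * x * (n ^ (i + 1))⁻¹ = n * (n ^ i * x * (n ^ i)⁻¹) * n⁻¹ := by
        rw [pow_succ']; group
      rw [e, ih]
      have h1 : n * x * n⁻¹ = x ^ 6 := by rw [hn, mul_inv_cancel_right]
      rw [show n * x ^ 6 ^ i * n⁻¹ = (n * x * n⁻¹) ^ 6 ^ i from (conj_pow).symm, h1, ← pow_mul]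
      congr 1
      rw [pow_succ, mul_comm]
  have hnN : n ∈ normalizer (zpowers x : Set G) := by
    have h1 : n * x * n⁻¹ ∈ zpowers x := by
      rw [hn, mul_inv_cancel_right]
      exact pow_mem (mem_zpowers _) 6
    have hle : (zpowers x).map (MulAut.conj n).toMonoidHom ≤ zpowers x := by
      rw [MonoidHom.map_zpowers, zpowers_le]
      exact h1
    have hcard : Nat.card ((zpowers x).map (MulAut.conj n).toMonoidHom) = Nat.card (zpowers x) :=
      card_map_of_injective (MulAut.conj n).injective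
    have heq : (zpowers x).map (MulAut.conj n).toMonoidHom = zpowers x :=
      eq_of_le_of_card_ge hle hcard.ge
    rw [mem_normalizer_iff]
    intro y
    constructor
    · intro hy
      rw [← heq]
      exact ⟨y, hy, rfl⟩
    · intro hy
      rw [← heq] at hy
      obtain ⟨w, hw, hwy⟩ := hy
      have : w = y := (MulAut.conj n).injective hwy
      rw [← this]
      exact hw
  set N := normalizer (zpowers x : Set G) with hNdef
  have hRN : zpowers x ≤ N := le_normalizer
  let H : Subgroup N := (centralizer ({x} : Set G)).subgroupOf N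
  let n' : N := ⟨n, hnN⟩
  have hinj : Function.Injective fun i : Fin 10 => (QuotientGroup.mk (n' ^ i.1) : N ⧸ H) := by
    have key : ∀ i j : ℕ, i < j → j < 10 → (QuotientGroup.mk (n' ^ i) : N ⧸ H) ≠ QuotientGroup.mk (n' ^ j) := by
      intro i j hij hj he
      rw [QuotientGroup.eq] at he
      have h1 : (n' ^ i)⁻¹ * n' ^ j = n' ^ (j - i) := by
        rw [inv_mul_eq_iff_eq_mul, ← pow_add]
        congr 1
        omega
      rw [h1, mem_subgroupOf] at he
      have h2 : n ^ (j - i) * x = x * n ^ (j - i) := mem_centralizer_singleton_iff.1 he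
      have h3 := hconj (j - i)
      rw [h2, mul_inv_cancel_right] at h3
      have h4 : x ^ 1 = x ^ (6 ^ (j - i)) := by rw [pow_one]; exact h3
      rw [pow_eq_pow_iff_modEq, hx] at h4
      have h5 : 0 < j - i := by omega
      have h6 : j - i < 10 := by omega
      generalize j - i = k at h4 h5 h6
      interval_cases k <;> exact absurd h4 (by decide)
    intro i j hij
    by_contra hne
    rcases lt_or_gt_of_ne (fun h => hne (Fin.ext h)) with h | h
    · exact key _ _ h j.2 hij
    · exact key _ _ h i.2 hij.symm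
  have hidx : 10 ≤ H.index := by
    have h1 := Nat.card_le_card_of_injective _ hinj
    rw [Nat.card_eq_fintype_card, Fintype.card_fin] at h1
    exact h1
  have hcH : Nat.card H ≤ 11 := by
    have h1 := card_mul_index H
    have h2 : Nat.card H * 10 ≤ 110 := le_trans (Nat.mul_le_mul_left _ hidx) (h1.le.trans hN)
    omega
  have hRle : (zpowers x).subgroupOf N ≤ H := by
    intro y hy
    rw [mem_subgroupOf] at hy ⊢
    obtain ⟨m, hm⟩ := mem_zpowers_iff.1 hy
    rw [← hm, mem_centralizer_singleton_iff]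
    exact ((Commute.refl x).zpow_left m).eq
  have hRcard : Nat.card ((zpowers x).subgroupOf N) = 11 := by
    rw [Nat.card_congr (subgroupOfEquivOfLe hRN).toEquiv, Nat.card_zpowers, hx]
  have hRH : (zpowers x).subgroupOf N = H := eq_of_le_of_card_ge hRle (by rw [hRcard]; exact hcH)
  intro g hg
  have hgN : g ∈ N := by
    have hc : g ∈ centralizer (zpowers x : Set G) := by
      rw [mem_centralizer_iff]
      intro y hy
      obtain ⟨m, rfl⟩ := mem_zpowers_iff.1 hy
      exact ((show Commute g x from hg).zpow_right m).eq.symm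
    exact centralizer_le_normalizer _ hc
  have h1 : (⟨g, hgN⟩ : N) ∈ H := by
    rw [mem_subgroupOf, mem_centralizer_singleton_iff]
    exact hg
  rw [← hRH, mem_subgroupOf] at h1
  exact h1

end card

end Cfsg.Agent.H816.CPNorm
end

-- part: H816/CPWords
section
/-!
# Words for the centralizer of the element `p` of order 11 in the Baby Monster (helper816)
-/

set_option autoImplicit false

namespace Cfsg.Agent.H816.CPWords

open Cfsg.Agent.Monster.VecEngine Cfsg.Agent.Monster.VecSpace Cfsg.Agent.BabyM.Conc Cfsg.Agent.BabyM.WordsInst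
  Cfsg.Agent.BM.StageW

/-- Two words differ in a lane of the value on the vector of the base. -/
noncomputable def neAt (L : List ℕ) (v w : List Ltr) : Bool :=
  runL (v.map Ltr.prog) vB fun y₁ => runL (w.map Ltr.prog) vB fun y₂ => L.any fun k => decide (val y₁ k ≠ val y₂ k)

theorem ne_of_neAt {L : List ℕ} (hL : ∀ k ∈ L, U.testBit k = true) {v w : List Ltr} (h : neAt L v w = true) :
    Wg v ≠ Wg w := by
  intro he
  have he' : W v = W w := congrArg Subtype.val he
  obtain ⟨y₁, h1, hk1⟩ := runL_sound ℚ two_ne_zero (v.map Ltr.prog) (fun P hP => ((good_progs v) P hP).pres.ok) _ _ h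
  obtain ⟨y₂, h2, hk2⟩ := runL_sound ℚ two_ne_zero (w.map Ltr.prog) (fun P hP => ((good_progs w) P hP).pres.ok) _ _ hk1
  have e1 : W v (vecU ℚ U vB) = vecU ℚ U y₁ := by
    rw [W_apply, vecU_eq, ← res_semL ℚ (fun P hP => ((good_progs v) P hP).pres), ← h1, vecU_eq]
  have e2 : W w (vecU ℚ U vB) = vecU ℚ U y₂ := by
    rw [W_apply, vecU_eq, ← res_semL ℚ (fun P hP => ((good_progs w) P hP).pres), ← h2, vecU_eq]
  rw [List.any_eq_true] at hk2
  obtain ⟨k, hk, hne⟩ := hk2
  rw [decide_eq_true_eq] at hne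
  apply hne
  have e3 : vecU ℚ U y₁ = vecU ℚ U y₂ := by rw [← e1, ← e2, he']
  have e4 := congrFun e3 ⟨k, hL k hk⟩
  have e5 : ((val y₁ k : ℤ) : ℚ) = ((val y₂ k : ℤ) : ℚ) := e4
  exact_mod_cast e5

/-- Some lanes. -/
def lns : List ℕ := [1282, 1288, 1313, 209, 1284, 4096, 4097, 4099, 5000, 6000]

theorem lns_ok : ∀ k ∈ lns, U.testBit k = true := by decide +kernel

/-! ### The commutation relations -/

theorem tau_p : chk [.tau, .p] [.p, .tau] = true :=
  Cfsg.Agent.BMx.Low.chk_of_eqF (by decide +kernel)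

theorem X_p : chk [.X10, .p] [.p, .X10] = true :=
  Cfsg.Agent.BMx.Low.chk_of_eqF (by decide +kernel)

theorem Z_p : chk [.Z10, .p] [.p, .Z10] = true :=
  Cfsg.Agent.BMx.Low.chk_of_eqF (by decide +kernel)

theorem p_eleven : chk [.p, .p, .p, .p, .p, .p, .p, .p, .p, .p, .p] [] = true :=
  Cfsg.Agent.BMx.Low.chk_of_eqF (by decide +kernel)

theorem r_sq : chk [.Z10, .X10, .Z10, .X10] [.z] = true :=
  Cfsg.Agent.BMx.Low.chk_of_eqF (by decide +kernel)

theorem X_sq : chk [.X10, .X10] [] = true :=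
  Cfsg.Agent.BMx.Low.chk_of_eqF (by decide +kernel)

theorem Z_sq : chk [.Z10, .Z10] [] = true :=
  Cfsg.Agent.BMx.Low.chk_of_eqF (by decide +kernel)

theorem z_sq : chk [.z, .z] [] = true :=
  Cfsg.Agent.BMx.Low.chk_of_eqF (by decide +kernel)

theorem tau_three : chk [.tau, .tau, .tau] [] = true :=
  Cfsg.Agent.BMx.Low.chk_of_eqF (by decide +kernel)

theorem tau_z : chk [.z, .tau] [.tau, .Z10] = true :=
  Cfsg.Agent.BMx.Low.chk_of_eqF (by decide +kernel)

theorem X_ne : neAt lns [.X10] [] = true := by decide +kernel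

theorem z_ne : neAt lns [.z] [] = true := by decide +kernel

theorem Z_ne_z : neAt lns [.Z10] [.z] = true := by decide +kernel

theorem p_ne : neAt lns [.p] [] = true := by decide +kernel

/-! ### The norm of the letters of `Q` -/

/-- the eleventh power of `l * p` -/
def pw (l : Ltr) : List Ltr := [.p, l, .p, l, .p, l, .p, l, .p, l, .p, l, .p, l, .p, l, .p, l, .p, l, .p, l]

/-- The word is equal to a word in `X10`, `Z10`. -/
noncomputable def inD (v : List Ltr) : Bool :=
  chk v [] || chk v [.z] || chk v [.X10] || chk v [.X10, .z] || chk v [.Z10] || chk v [.Z10, .z] ||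
    chk v [.X10, .Z10] || chk v [.Z10, .X10]

theorem n_X0 : inD (pw .X0) = true := by decide +kernel

theorem n_X1 : inD (pw .X1) = true := by decide +kernel

theorem n_X2 : inD (pw .X2) = true := by decide +kernel

theorem n_X3 : inD (pw .X3) = true := by decide +kernel

theorem n_X4 : inD (pw .X4) = true := by decide +kernel

theorem n_X5 : inD (pw .X5) = true := by decide +kernel

theorem n_X6 : inD (pw .X6) = true := by decide +kernel

theorem n_X7 : inD (pw .X7) = true := by decide +kernel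

theorem n_X8 : inD (pw .X8) = true := by decide +kernel

theorem n_X9 : inD (pw .X9) = true := by decide +kernel

theorem n_X10 : inD (pw .X10) = true := by decide +kernel

theorem n_Z0 : inD (pw .Z0) = true := by decide +kernel

theorem n_Z1 : inD (pw .Z1) = true := by decide +kernel

theorem n_Z2 : inD (pw .Z2) = true := by decide +kernel

theorem n_Z3 : inD (pw .Z3) = true := by decide +kernel

theorem n_Z4 : inD (pw .Z4) = true := by decide +kernel

theorem n_Z5 : inD (pw .Z5) = true := by decide +kernel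

theorem n_Z6 : inD (pw .Z6) = true := by decide +kernel

theorem n_Z7 : inD (pw .Z7) = true := by decide +kernel

theorem n_Z8 : inD (pw .Z8) = true := by decide +kernel

theorem n_Z9 : inD (pw .Z9) = true := by decide +kernel

theorem n_Z10 : inD (pw .Z10) = true := by decide +kernel

/-! ### The normalizer of `⟨p⟩` modulo `Q` -/

/-- the word normalizing `p` -/
def nw : List Ltr := [.h, .p, .h, .p9, .h, .p6, .h, .p, .h, .p7, .h, .p7, .h, .Z3, .Z4]

theorem nw_p : chk (.p :: nw) (nw ++ [Ltr.p, .p, .p, .p, .p, .p]) = true :=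
  Cfsg.Agent.BMx.Low.chk_of_eqF (by decide +kernel)

/-! ### The involution `t15` and elements of order 5 and 6 -/

/-- a word -/
def w15 : List Ltr := [.p10, .xi, .tau, .p10, .xi, .tau, .p, .xi, .p, .xi, .tau, .p7, .xi, .p9, .xi, .y2, .X0, .X2, .X5,
  .X7, .X9, .Z0, .Z1, .Z6, .Z7]

/-- its inverse -/
def w15i : List Ltr := [.Z7, .Z6, .Z1, .Z0, .X9, .X7, .X5, .X2, .X0, .y2, .xii, .p2, .xii, .p4, .taui, .xii, .p10, .xii,
  .p10, .taui, .xii, .p, .taui, .xii, .p]

/-- an involution -/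
def t15 : List Ltr := w15i ++ [Ltr.Z0, .Z2, .Z4, .Z5, .Z6] ++ w15

theorem t15_p : chk (t15 ++ [Ltr.p]) (.p :: t15) = true :=
  Cfsg.Agent.BMx.Low.chk_of_eqF (by decide +kernel)

theorem v_cube : chk ([Ltr.z] ++ t15 ++ [Ltr.z] ++ t15 ++ [Ltr.z] ++ t15) [.X10] = true :=
  Cfsg.Agent.BMx.Low.chk_of_eqF (by decide +kernel)

theorem v_sq_ne : neAt lns ([Ltr.z] ++ t15 ++ [Ltr.z] ++ t15) [] = true := by decide +kernel

/-- the word of order five -/
def w5 : List Ltr := ([.Z10, .X10] : List Ltr) ++ t15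

theorem w5_five : chk (w5 ++ w5 ++ w5 ++ w5 ++ w5) [] = true :=
  Cfsg.Agent.BMx.Low.chk_of_eqF (by decide +kernel)

theorem w5_ne : neAt lns w5 [] = true := by decide +kernel

end Cfsg.Agent.H816.CPWords
end

-- part: H816/CPMain
section
/-!
# The centralizer of the element `p` of order 11 in the Baby Monster is `11 × S₅` (helper816)

In the concrete model. The bound for the normalizer of a subgroup of order 11 of `Co2` is a hypothesis here; see `CPFin`.
-/

set_option autoImplicit false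

namespace Cfsg.Agent.H816.CPMain

open Subgroup
open Cfsg.Agent.BabyM Cfsg.Agent.BabyM.Conc Cfsg.Agent.BabyM.Model Cfsg.Agent.BM.StageW Cfsg.Agent.H816.CPWords
open Cfsg.Agent.BabyM.Inst (M)

theorem eqw {v w : List Ltr} (h : chk v w = true) : Wg v = Wg w := eq_of_chk Instance.all Instance.ok h

/-! ### Elements -/

/-- element of order 11 -/
noncomputable def p : M.G := Wg [.p]

/-- involution -/
noncomputable def X : M.G := Wg [.X10]

/-- involution -/
noncomputable def Z : M.G := Wg [.Z10]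

/-- the central involution of `C` -/
noncomputable def z : M.G := Wg [.z]

/-- triality -/
noncomputable def t : M.G := Wg [.tau]

/-- an involution -/
noncomputable def T : M.G := Wg t15

theorem two (a b : Ltr) : Wg [a, b] = Wg [b] * Wg [a] := Wg_append [a] [b]

theorem cons (a : Ltr) (v : List Ltr) : Wg (a :: v) = Wg v * Wg [a] := Wg_append [a] v

theorem t_p : t * p = p * t := by
  have h := eqw tau_p
  rw [two, two] at h
  exact h.symm

theorem X_p' : X * p = p * X := by
  have h := eqw X_p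
  rw [two, two] at h
  exact h.symm

theorem Z_p' : Z * p = p * Z := by
  have h := eqw Z_p
  rw [two, two] at h
  exact h.symm

theorem T_p : T * p = p * T := by
  have h := eqw t15_p
  rw [Wg_append, cons .p t15] at h
  exact h.symm

theorem p_pow : p ^ 11 = 1 := by
  have h := eqw p_eleven
  simp only [cons _ (_ :: _), Wg_nil] at h
  refine Eq.trans ?_ h
  rw [show Wg [.p] = p from rfl]
  simp only [pow_succ, pow_zero, one_mul]

theorem p_ne' : p ≠ 1 := by
  have h := ne_of_neAt lns_ok p_ne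
  rwa [Wg_nil] at h

theorem order_p : orderOf p = 11 := by
  have : Fact (Nat.Prime 11) := ⟨by norm_num⟩
  exact orderOf_eq_prime p_pow p_ne'

theorem r_r : (X * Z) * (X * Z) = z := by
  have h := eqw r_sq
  rw [cons, cons, two] at h
  rw [← mul_assoc]
  exact h

theorem X_X : X * X = 1 := by
  have h := eqw X_sq
  rwa [two, Wg_nil] at h

theorem Z_Z : Z * Z = 1 := by
  have h := eqw Z_sq
  rwa [two, Wg_nil] at h

theorem z_z : z * z = 1 := by
  have h := eqw z_sq
  rwa [two, Wg_nil] at h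

theorem z_ne' : z ≠ 1 := by
  have h := ne_of_neAt lns_ok z_ne
  rwa [Wg_nil] at h

theorem X_ne' : X ≠ 1 := by
  have h := ne_of_neAt lns_ok X_ne
  rwa [Wg_nil] at h

theorem Z_ne_z' : Z ≠ z := ne_of_neAt lns_ok Z_ne_z

theorem t_pow : t ^ 3 = 1 := by
  have h := eqw tau_three
  rw [cons, two, Wg_nil] at h
  rw [pow_succ, pow_two]
  exact h

theorem t_z : t * z = Z * t := by
  have h := eqw tau_z
  rwa [two, two] at h

theorem z_p : z * p = p * z := by
  have h1 : (X * Z) * p = p * (X * Z) := by rw [mul_assoc, Z_p', ← mul_assoc, X_p', mul_assoc]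
  rw [← r_r, mul_assoc, h1, ← mul_assoc, h1, mul_assoc]

/-! ### The hypotheses -/

theorem r_sq_eq : (X * Z) ^ 2 = z := by rw [pow_two, r_r]

theorem order_r : orderOf (X * Z) = 4 := by
  have : Fact (Nat.Prime 2) := ⟨Nat.prime_two⟩
  have h := orderOf_eq_prime_pow (p := 2) (n := 1) (x := X * Z) (by rw [pow_one, r_sq_eq]; exact z_ne')
    (by rw [show 2 ^ (1 + 1) = 2 * 2 from rfl, pow_mul, r_sq_eq, pow_two, z_z])
  exact h

theorem s_r_s : X * (X * Z) * X = (X * Z)⁻¹ := by
  rw [← mul_assoc, X_X, one_mul, mul_inv_rev, ← eq_inv_of_mul_eq_one_left X_X, ← eq_inv_of_mul_eq_one_left Z_Z]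

theorem s_notMem : X ∉ zpowers (X * Z) := by
  intro h
  obtain ⟨k, hk⟩ := mem_zpowers_iff.1 h
  have h1 : X * (X * Z) = (X * Z) * X := by
    have h2 : Commute ((X * Z) ^ k) (X * Z) := (Commute.refl (X * Z)).zpow_left k
    rw [hk] at h2
    exact h2
  have h2 : Z = X * Z * X := by rw [← h1, ← mul_assoc, X_X, one_mul]
  apply z_ne'
  rw [← r_r, ← mul_assoc, ← h2, Z_Z]

theorem t_z_t : t * z * t⁻¹ = Z := by rw [t_z, mul_inv_cancel_right]

theorem X_mem : X ∈ closure ({X * Z, X} : Set M.G) := subset_closure (Or.inr rfl)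

theorem r_mem : X * Z ∈ closure ({X * Z, X} : Set M.G) := subset_closure (Or.inl rfl)

theorem Z_mem : Z ∈ closure ({X * Z, X} : Set M.G) := by
  have h1 := mul_mem X_mem r_mem
  rwa [← mul_assoc, X_X, one_mul] at h1

theorem z_mem : z ∈ closure ({X * Z, X} : Set M.G) := by
  rw [← r_r]
  exact mul_mem (subset_closure (Or.inl rfl)) (subset_closure (Or.inl rfl))

theorem v_cube' : (T * z) ^ 3 = X := by
  have h := eqw v_cube
  simp only [Wg_append] at h
  rw [← show Wg [.X10] = X from rfl, ← h, pow_succ, pow_two]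
  show T * z * (T * z) * (T * z) = T * (z * (T * (z * (T * z))))
  simp only [mul_assoc]

theorem v_sq_ne' : (T * z) ^ 2 ≠ 1 := by
  have h := ne_of_neAt lns_ok v_sq_ne
  simp only [Wg_append, Wg_nil] at h
  intro h1
  apply h
  rw [← h1, pow_two]
  show T * (z * (T * z)) = T * z * (T * z)
  simp only [mul_assoc]

theorem order_v : orderOf (T * z) = 6 := by
  have h6 : (T * z) ^ 6 = 1 := by
    rw [show 6 = 3 * 2 from rfl, pow_mul, v_cube', pow_two, X_X]
  have h1 := orderOf_dvd_of_pow_eq_one h6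
  have h2 : ¬ orderOf (T * z) ∣ 2 := fun h => v_sq_ne' (orderOf_dvd_iff_pow_eq_one.1 h)
  have h3 : ¬ orderOf (T * z) ∣ 3 := fun h => X_ne' (by rw [← v_cube']; exact orderOf_dvd_iff_pow_eq_one.1 h)
  have h4 : orderOf (T * z) ≤ 6 := Nat.le_of_dvd (by norm_num) h1
  generalize orderOf (T * z) = k at h1 h2 h3 h4
  interval_cases k <;> simp_all

theorem order_w : orderOf (Wg w5) = 5 := by
  have : Fact (Nat.Prime 5) := ⟨by norm_num⟩
  refine orderOf_eq_prime ?_ ?_
  · have h := eqw w5_five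
    simp only [Wg_append, Wg_nil] at h
    rw [← h]
    simp only [pow_succ, pow_zero, one_mul, mul_assoc]
  · have h := ne_of_neAt lns_ok w5_ne
    rwa [Wg_nil] at h

theorem w_eq : Wg w5 = T * (X * Z) := by
  show Wg ([Ltr.Z10, .X10] ++ t15) = _
  rw [Wg_append, two]
  rfl

/-! ### The elements of `Q` commuting with `p` -/

/-- the dihedral group in the ambient group -/
noncomputable def D : Subgroup (V ≃ₗ[ℚ] V) := (closure ({X * Z, X} : Set M.G)).map M.G.subtype

theorem mem_D_of {g : M.G} (h : g ∈ closure ({X * Z, X} : Set M.G)) : (g : V ≃ₗ[ℚ] V) ∈ D := ⟨g, h, rfl⟩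

theorem Wg_coe (v : List Ltr) : ((Wg v : M.G) : V ≃ₗ[ℚ] V) = W v := rfl

theorem inD_mem {v : List Ltr} (h : inD v = true) : W v ∈ D := by
  rw [← Wg_coe]
  apply mem_D_of
  simp only [inD, Bool.or_eq_true] at h
  rcases h with ((((((h | h) | h) | h) | h) | h) | h) | h
  · rw [eqw h, Wg_nil]; exact one_mem _
  · rw [eqw h]; exact z_mem
  · rw [eqw h]; exact X_mem
  · rw [eqw h, two]; exact mul_mem z_mem X_mem
  · rw [eqw h]; exact Z_mem
  · rw [eqw h, two]; exact mul_mem z_mem Z_mem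
  · rw [eqw h, two]; exact mul_mem Z_mem X_mem
  · rw [eqw h, two]; exact mul_mem X_mem Z_mem

theorem pw_eq (l : Ltr) : W (pw l) = (E l * W [.p]) ^ 11 := by
  unfold pw
  simp only [W_cons _ (_ :: _), W_single, pow_succ, pow_zero, one_mul, mul_assoc]

theorem n_all : ∀ l : Ltr, l.isQ = true → inD (pw l) = true
  | .X0, _ => n_X0
  | .X1, _ => n_X1
  | .X2, _ => n_X2
  | .X3, _ => n_X3
  | .X4, _ => n_X4
  | .X5, _ => n_X5
  | .X6, _ => n_X6
  | .X7, _ => n_X7
  | .X8, _ => n_X8
  | .X9, _ => n_X9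
  | .X10, _ => n_X10
  | .Z0, _ => n_Z0
  | .Z1, _ => n_Z1
  | .Z2, _ => n_Z2
  | .Z3, _ => n_Z3
  | .Z4, _ => n_Z4
  | .Z5, _ => n_Z5
  | .Z6, _ => n_Z6
  | .Z7, _ => n_Z7
  | .Z8, _ => n_Z8
  | .Z9, _ => n_Z9
  | .Z10, _ => n_Z10

theorem hyp : CPNorm.Hyp Q D {g | ∃ l : Ltr, l.isQ = true ∧ g = E l} (W [.p]) (W [.z]) where
  S_le := rfl
  z_sq := congrArg Subtype.val z_z
  z_D := mem_D_of z_mem
  z_comm q hq := Instance.all.grp.z_comm q (Instance.all.grp.Q_le hq)
  pz := (congrArg Subtype.val z_p).symm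
  comm := Instance.all.grp.Q_comm
  sq := Instance.all.grp.Q_sq
  norm q hq := Instance.all.grp.Q_normal _ (E_mem_C (l := .p) rfl) q hq
  p_pow := by
    have h := congrArg Subtype.val p_pow
    rw [SubgroupClass.coe_pow] at h
    exact h
  gen s hs := by
    obtain ⟨l, hl, rfl⟩ := hs
    rw [← pw_eq]
    exact inD_mem (n_all l hl)

/-! ### The centralizer of `⟨z, p⟩` -/

/-- `p` in `C` -/
noncomputable def pC : M.C := ⟨W [.p], E_mem_C (l := .p) rfl⟩

/-- the element of `C` inducing an automorphism of order ten of `⟨p⟩` modulo `Q` -/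
noncomputable def nC : M.C := ⟨W nw, ConcGrp.W_mem_C (v := nw) rfl⟩

theorem pC_pow : pC ^ 11 = 1 := by
  apply Subtype.ext
  rw [SubgroupClass.coe_pow]
  exact hyp.p_pow

theorem nC_pC : nC * pC = pC ^ 6 * nC := by
  have h := eqw nw_p
  rw [cons .p nw, Wg_append, show Wg [.p, .p, .p, .p, .p, .p] = p ^ 6 by
    simp only [cons _ (_ :: _), pow_succ, pow_zero, one_mul]; rfl] at h
  have h1 := congrArg Subtype.val h
  apply Subtype.ext
  rw [Subgroup.coe_mul, Subgroup.coe_mul, SubgroupClass.coe_pow] at h1 ⊢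
  exact h1

theorem pC_notMem : (pC : V ≃ₗ[ℚ] V) ∉ M.Q := by
  intro h
  have : Fact (Nat.Prime 11) := ⟨by norm_num⟩
  have h1 : orderOf (⟨pC, h⟩ : M.Q) = 11 := by
    refine orderOf_eq_prime (Subtype.ext ?_) ?_
    · rw [SubgroupClass.coe_pow]
      exact hyp.p_pow
    · intro h2
      apply p_ne'
      have h3 : (pC : V ≃ₗ[ℚ] V) = 1 := congrArg Subtype.val h2
      exact Subtype.ext h3
  have h2 : orderOf (⟨pC, h⟩ : M.Q) ∣ Nat.card M.Q := orderOf_dvd_natCard _
  rw [h1, Instance.all.grp.Q_card] at h2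
  have h3 := (by norm_num : Nat.Prime 11).dvd_of_dvd_pow h2
  norm_num at h3

theorem cent_zp (hN : ∀ R : Subgroup Cfsg.Spor.Co2, Nat.card R = 11 →
      Nat.card (normalizer (R : Set Cfsg.Spor.Co2)) ≤ 110)
    (g : M.G) (hg : g * p = p * g) (hz : g * z = z * g) :
    ∃ n : ℕ, ∃ f ∈ closure ({X * Z, X} : Set M.G), g = p ^ n * f := by
  have A := Instance.all
  have hgC : (g : V ≃ₗ[ℚ] V) ∈ M.C := A.cent_z g g.2 (congrArg Subtype.val hz)
  have hgp : (g : V ≃ₗ[ℚ] V) * W [.p] = W [.p] * g := congrArg Subtype.val hg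
  obtain ⟨π, hπs, hπ⟩ := A.grp.quot
  obtain ⟨e⟩ := Cfsg.Agent.Schreier.CoTwoStab.exists_equiv _ GroupInst.dt_l₀
  have hfin : Finite Cfsg.Spor.Co2 := Nat.finite_of_card_ne_zero (by
    rw [Cfsg.Agent.Schreier.CoTwoStab.card]; norm_num)
  let φ : M.C →* Cfsg.Spor.Co2 := e.toMonoidHom.comp π
  have hφ : ∀ g : M.C, φ g = 1 ↔ (g : V ≃ₗ[ℚ] V) ∈ M.Q := fun g => by
    rw [← hπ]; exact map_eq_one_iff e e.injective
  have : Fact (Nat.Prime 11) := ⟨by norm_num⟩
  have hx : orderOf (φ pC) = 11 := by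
    refine orderOf_eq_prime ?_ ?_
    · rw [← map_pow, pC_pow, map_one]
    · intro h; exact pC_notMem ((hφ _).1 h)
  have hn : φ nC * φ pC = φ pC ^ 6 * φ nC := by rw [← map_mul, nC_pC, map_mul, map_pow]
  have hc := CPNorm.cent_eq hx (hN _ (by rw [Nat.card_zpowers, hx])) hn (φ ⟨g, hgC⟩) (by
    rw [← map_mul, ← map_mul]
    exact congrArg φ (Subtype.ext hgp))
  obtain ⟨n, hn'⟩ := (mem_powers_iff_mem_zpowers.2 hc : φ ⟨g, hgC⟩ ∈ Submonoid.powers (φ pC))
  have hn' : φ pC ^ n = φ ⟨g, hgC⟩ := hn'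
  have hq : ((W [.p] ^ n)⁻¹ * (g : V ≃ₗ[ℚ] V)) ∈ Q := by
    have h1 : φ ((pC ^ n)⁻¹ * ⟨g, hgC⟩) = 1 := by
      rw [map_mul, map_inv, map_pow, hn', inv_mul_cancel]
    exact (hφ _).1 h1
  have hqp : ((W [.p] ^ n)⁻¹ * (g : V ≃ₗ[ℚ] V)) * W [.p] = W [.p] * ((W [.p] ^ n)⁻¹ * (g : V ≃ₗ[ℚ] V)) :=
    ((((Commute.refl (W [.p])).pow_left n).inv_left).mul_left hgp).eq
  obtain ⟨f, hf, hfq⟩ := hyp.mem_D hq hqp
  refine ⟨n, f, hf, Subtype.ext ?_⟩
  have hfq' : (f : V ≃ₗ[ℚ] V) = (W [.p] ^ n)⁻¹ * (g : V ≃ₗ[ℚ] V) := hfq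
  rw [Subgroup.coe_mul, SubgroupClass.coe_pow, hfq']
  exact (mul_inv_cancel_left _ _).symm

/-- `C_G(p) = ⟨p⟩ × S₅`. -/
theorem cent_p_of (hN : ∀ R : Subgroup Cfsg.Spor.Co2, Nat.card R = 11 →
      Nat.card (normalizer (R : Set Cfsg.Spor.Co2)) ≤ 110) (h11 : ¬ 121 ∣ Nat.card M.G) :
    ∃ K : Subgroup M.G, Nonempty (K ≃* Equiv.Perm (Fin 5)) ∧ (∀ k ∈ K, k * Wg [.p] = Wg [.p] * k) ∧
      ∀ g : M.G, g * Wg [.p] = Wg [.p] * g → ∃ k ∈ K, ∃ n : ℕ, g = Wg [.p] ^ n * k := by
  have : Finite M.G := Instance.all.finite_G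
  have hXZ : (X * Z) * p = p * (X * Z) := (Commute.mul_left X_p' Z_p' : Commute (X * Z) p).eq
  have hTz : (T * z) * p = p * (T * z) := (Commute.mul_left T_p z_p : Commute (T * z) p).eq
  have hw : Wg w5 * p = p * Wg w5 := by
    rw [w_eq]
    exact (Commute.mul_left T_p hXZ : Commute (T * (X * Z)) p).eq
  exact CPAbs.main (p := p) (z := z) (r := X * Z) (s := X) (t := t) (v := T * z) (w := Wg w5) order_p h11 order_r X_X
    s_r_s s_notMem r_sq_eq.symm hXZ X_p' (cent_zp hN) t_pow t_p (by rw [t_z_t]; exact Z_mem)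
    (by rw [t_z_t]; exact Z_ne_z') order_v hTz order_w hw

end Cfsg.Agent.H816.CPMain
end

-- part: H816/CPFin
section
/-!
# The centralizer of the element `p` of order 11 in the Baby Monster is `11 × S₅`: final form (helper816)
-/

set_option autoImplicit false

namespace Cfsg.Agent.H816.CPFin

open Subgroup
open Cfsg.Agent.BabyM Cfsg.Agent.BM.StageW

theorem norm_le (R : Subgroup Cfsg.Spor.Co2) (hR : Nat.card R = 11) :
    Nat.card (normalizer (R : Set Cfsg.Spor.Co2)) ≤ 110 :=
  Nat.le_of_dvd (by norm_num) (Cfsg.Agent.H89.SepCo2.nc11 hR).2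

/-- **`C_G(p) = ⟨p⟩ × S₅`.** -/
theorem cent_p : ∃ K : Subgroup Inst.M.G, Nonempty (K ≃* Equiv.Perm (Fin 5)) ∧
    (∀ k ∈ K, k * Wg [.p] = Wg [.p] * k) ∧
      ∀ g : Inst.M.G, g * Wg [.p] = Wg [.p] * g → ∃ k ∈ K, ∃ n : ℕ, g = Wg [.p] ^ n * k :=
  CPMain.cent_p_of norm_le (by rw [Instance.isB.2]; norm_num)

end Cfsg.Agent.H816.CPFin
end

private theorem dce_363febd2d0aa : _root_.True := by
  try have : _root_.True := by simp only [_root_.Cfsg.Agent.H816.CPNorm.nm.eq_1]
  try have : _root_.True := by simp only [_root_.Cfsg.Agent.H816.CPNorm.nm.eq_2]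
  try have : _root_.True := by simp only [_root_.Cfsg.Agent.H816.CPWords.inD.eq_1]
  try have : _root_.True := by simp only [_root_.Cfsg.Agent.H816.CPNorm.nm.eq_def]
  exact _root_.True.intro
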